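import Cfsg.Agent.Helper22.BG12b

/-!
# Piece P1 of CALL S1427 (helper54): `σ` is conjugation invariant
-/

set_option autoImplicit false

open Cfsg Subgroup Cfsg.Agent.Helper23 Cfsg.Agent.Helper35 Cfsg.Agent.Helper22
open scoped Pointwise

namespace Cfsg.Agent.Helper41

universe u

variable {G : Type u} [Group G] [Finite G]

theorem bg13_sigma_conj {M : Subgroup G} {p : ℕ} (hp : p ∈ sigma M) (g : G) :
    p ∈ sigma (MulAut.conj g • M) := by
  obtain ⟨hpp, hdvd, P, hN⟩ := hp
  have := Fact.mk hpp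
  obtain ⟨Q, hQdef⟩ : ∃ Q : Subgroup G, Q = (P : Subgroup M).map M.subtype := ⟨_, rfl⟩
  rw [← hQdef] at hN
  have hQ : Q ∈ sylowSet p M := hQdef ▸ sylow_map_mem_sylowSet P
  have hQ' : MulAut.conj g • Q ∈ sylowSet p (MulAut.conj g • M) :=
    ⟨conj_smul_le_conj_smul hQ.1, by rw [card_conj_smul, card_conj_smul]; exact hQ.2⟩
  have hS : IsSylowOf p (MulAut.conj g • Q) (MulAut.conj g • M) :=
    bg10_isSylowOf_of_sylowSet le_rfl (by rw [Subgroup.relIndex_self]; exact hpp.not_dvd_one) hQ'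
  refine bg12_mem_sigma hS ?_ ?_
  · intro hbot
    have h1 : Nat.card (MulAut.conj g • Q : Subgroup G) = 1 := by rw [hbot, Subgroup.card_bot]
    rw [card_conj_smul, hQ.2] at h1
    have hk : 0 < (Nat.card M).factorization p :=
      hpp.factorization_pos_of_dvd Nat.card_pos.ne' hdvd
    have h2 : 1 < p ^ (Nat.card M).factorization p := Nat.one_lt_pow hk.ne' hpp.one_lt
    omega
  · intro y hy
    rw [mem_conj_smul]
    apply hN
    apply bg10_mem_normalizer
    intro z hz
    have h1 : g * z * g⁻¹ ∈ MulAut.conj g • Q := conj_mem_conj_smul hz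
    have h2 := (mem_normalizer_iff.mp hy _).mp h1
    rw [mem_conj_smul] at h2
    have e : g⁻¹ * (y * (g * z * g⁻¹) * y⁻¹) * g = g⁻¹ * y * g * z * (g⁻¹ * y * g)⁻¹ := by
      group
    rw [e] at h2
    exact h2

end Cfsg.Agent.Helper41
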