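import Cfsg.Agent.Helper22.BG12b

/-!
# Piece P2 of CALL S1427 (helper54): nilpotent `M_σ` and a common `σ`-prime give conjugacy
-/

set_option autoImplicit false

open Cfsg Subgroup Cfsg.Agent.Helper23 Cfsg.Agent.Helper35 Cfsg.Agent.Helper22
open scoped Pointwise

namespace Cfsg.Agent.Helper41

universe u

variable {G : Type u} [Group G] [Finite G]

theorem bg13_conj_of_common_sigma (hG : IsMinSimpleOddOrder G) (hU : BGUniq G)
    {M H : Subgroup G} (hM : IsCoatom M) (hH : IsCoatom H)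
    (hnil : Group.IsNilpotent ↥(sigmaCore M)) {q : ℕ} [Fact q.Prime] (hqM : q ∈ sigma M)
    (hqH : q ∈ sigma H) : ∃ x : G, MulAut.conj x • M = H := by
  obtain ⟨Q, hQ⟩ := sylowSet_nonempty (p := q) (sigmaCore M)
  obtain ⟨hQtop, -, -⟩ := bg11_sigma_sylow hG hU hM hqM hQ
  have hMQ := bg11_sylow_normal hnil hQ
  obtain ⟨-, -, R₀, hNR⟩ := hqH
  have hR := isSylowOf_map R₀
  have hRtop : IsSylowOf q ((R₀ : Subgroup ↥H).map H.subtype) ⊤ :=
    hR.of_normalizer_inf_le le_top (inf_le_left.trans hNR)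
  obtain ⟨x, -, hx⟩ := bg10_sylow_conj hQtop hRtop
  have hxM : MulAut.conj x • M ≤ H := by
    intro y hy
    rw [mem_conj_smul] at hy
    apply hNR
    rw [hx]
    have h1 := hMQ hy
    apply bg10_mem_normalizer
    intro z hz
    rw [mem_conj_smul] at hz ⊢
    have h2 := (mem_normalizer_iff.mp h1 _).mp hz
    have e : x⁻¹ * (y * z * y⁻¹) * x = x⁻¹ * y * x * (x⁻¹ * z * x) * (x⁻¹ * y * x)⁻¹ := by
      group
    rw [e]; exact h2
  refine ⟨x, ?_⟩
  have hle : M ≤ MulAut.conj x⁻¹ • H := by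
    have := conj_smul_le_conj_smul (g := x⁻¹) hxM
    rwa [conj_smul_conj_smul, inv_mul_cancel, map_one, one_smul] at this
  rcases hM.le_iff.mp hle with e | e
  · exfalso
    apply hH.1
    apply Subgroup.eq_top_of_card_eq
    rw [← card_conj_smul x⁻¹ H, e, Subgroup.card_top]
  · rw [← e, conj_smul_conj_smul, mul_inv_cancel, map_one, one_smul]

end Cfsg.Agent.Helper41
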