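import Cfsg.Agent.Helper1.BG139Defs
import Cfsg.Prelude.Def_OddOrder
import Cfsg.Agent.Helper41.BG13P1
import Cfsg.Agent.Helper23.Uniq3

/-!
# Piece R0 of CALL S1378 (helper1): reduction to the configuration `BG139Cfg`
-/

set_option autoImplicit false

namespace Cfsg.Agent.Helper41

open Cfsg Subgroup Cfsg.Agent.Helper1 Cfsg.Agent.Helper23 Cfsg.Agent.Helper35 Cfsg.Agent.Helper22
open scoped Pointwise

universe u

variable {G : Type u} [Group G] [Finite G]

/-- A Sylow subgroup of `M` whose normalizer lies in `M` is a maximal `s`-subgroup of `G`. -/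
theorem bg139_sylow_max {M S : Subgroup G} {s : ℕ} [Fact s.Prime] (hS : IsSylowOf s S M)
    (hN : normalizer (S : Set G) ≤ M) :
    ∀ T : Subgroup G, IsPGroup s T → S ≤ T → T = S := by
  intro T hT hST
  by_contra hne
  have hH : S.subgroupOf T ≠ ⊤ := by
    intro h
    rw [Subgroup.subgroupOf_eq_top] at h
    exact hne (le_antisymm h hST)
  have hnil : Group.IsNilpotent T := hT.isNilpotent
  have hlt := normalizerCondition_of_isNilpotent (S.subgroupOf T) (lt_top_iff_ne_top.mpr hH)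
  obtain ⟨x, hxN, hxH⟩ := SetLike.exists_of_lt hlt
  have hxG : (x : G) ∈ normalizer (S : Set G) := by
    apply bg10_mem_normalizer
    intro z hz
    have hzT : z ∈ T := hST hz
    have h1 : (⟨z, hzT⟩ : T) ∈ S.subgroupOf T := Subgroup.mem_subgroupOf.mpr hz
    have h2 := (Subgroup.mem_normalizer_iff.mp hxN ⟨z, hzT⟩).mp h1
    exact Subgroup.mem_subgroupOf.mp h2
  have hxM : (x : G) ∈ M := hN hxG
  have hTM : T ⊓ M = S :=
    hS.2.2 (T ⊓ M) inf_le_right (hT.to_le inf_le_left) (le_inf hST hS.1)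
  have : (x : G) ∈ S := by rw [← hTM]; exact ⟨x.2, hxM⟩
  exact hxH (Subgroup.mem_subgroupOf.mpr this)

/-- PIECE `R0`. -/
theorem bg139_reduce (hG : IsMinSimpleOddOrder G) {M N : Subgroup G} (hM : IsCoatom M)
    (hN : IsCoatom N) {s : ℕ} (hsM : s ∈ sigma M) (hsN : s ∈ sigma N)
    (hnc : ∀ g : G, N ≠ M.map (MulAut.conj g).toMonoidHom) :
    ∃ Ms S : Subgroup G, BG139Cfg M Ms S s := by
  have hsM' := hsM
  have hsN' := hsN
  obtain ⟨hsp, hdvdM, P, hPN⟩ := hsM
  obtain ⟨-, hdvdN, Q, hQN⟩ := hsN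
  have := Fact.mk hsp
  obtain ⟨S, hSdef⟩ : ∃ S : Subgroup G, S = (P : Subgroup M).map M.subtype := ⟨_, rfl⟩
  obtain ⟨S', hS'def⟩ : ∃ S' : Subgroup G, S' = (Q : Subgroup N).map N.subtype := ⟨_, rfl⟩
  rw [← hSdef] at hPN
  rw [← hS'def] at hQN
  have hS : IsSylowOf s S M := hSdef ▸ isSylowOf_map P
  have hS' : IsSylowOf s S' N := hS'def ▸ isSylowOf_map Q
  have hmax := bg139_sylow_max hS hPN
  have hmax' := bg139_sylow_max hS' hQN
  have hStop : IsSylowOf s S ⊤ := ⟨le_top, hS.2.1, fun T _ hT hST => hmax T hT hST⟩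
  have hS'top : IsSylowOf s S' ⊤ := ⟨le_top, hS'.2.1, fun T _ hT hST => hmax' T hT hST⟩
  obtain ⟨h, -, hh⟩ := bg10_sylow_conj hS'top hStop
  refine ⟨MulAut.conj h • N, S, ?_⟩
  refine ⟨hM, isCoatom_conj_smul h hN, ?_, hsp, hsM', bg13_sigma_conj hsN' h, hS.2.1, ?_, hmax, ?_⟩
  · intro g hg
    apply hnc (h⁻¹ * g)
    ext x
    have h1 : h * x * h⁻¹ ∈ MulAut.conj h • N ↔ x ∈ N := by
      rw [mem_conj_smul]
      have e : h⁻¹ * (h * x * h⁻¹) * h = x := by group
      rw [e]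
    rw [← h1, hg]
    simp only [Subgroup.mem_map, MulEquiv.coe_toMonoidHom, MulAut.conj_apply]
    constructor
    · rintro ⟨y, hy, hyx⟩
      refine ⟨y, hy, ?_⟩
      have : x = h⁻¹ * (g * y * g⁻¹) * h := by rw [hyx]; group
      rw [this]; group
    · rintro ⟨y, hy, hyx⟩
      refine ⟨y, hy, ?_⟩
      rw [← hyx]; group
  · intro hbot
    have hc := (sylow_map_mem_sylowSet P).2
    rw [← hSdef, hbot, Subgroup.card_bot] at hc
    have hk : 0 < (Nat.card M).factorization s :=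
      hsp.factorization_pos_of_dvd Nat.card_pos.ne' hdvdM
    have h2 : 1 < s ^ (Nat.card M).factorization s := Nat.one_lt_pow hk.ne' hsp.one_lt
    omega
  · refine le_inf hPN ?_
    intro y hy
    rw [mem_conj_smul]
    apply hQN
    apply bg10_mem_normalizer
    intro z hz
    have h1 : h * z * h⁻¹ ∈ MulAut.conj h • S' := conj_mem_conj_smul hz
    rw [← hh] at h1
    have h2 := (mem_normalizer_iff.mp hy _).mp h1
    rw [hh, mem_conj_smul] at h2
    have e : h⁻¹ * (y * (h * z * h⁻¹) * y⁻¹) * h = h⁻¹ * y * h * z * (h⁻¹ * y * h)⁻¹ := by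
      group
    rw [e] at h2
    exact h2

end Cfsg.Agent.Helper41
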