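import Mathlib
import Cfsg.Agent.Helper15.D1LDDefs
import Cfsg.Agent.Helper15.AlgIntMod
import Cfsg.Agent.Helper80.CharOrtho

set_option autoImplicit false
open Cfsg Matrix
open scoped ComplexConjugate

universe u

namespace Cfsg.Agent.Helper41

open Cfsg.Agent.Helper15

section gen

variable {H : Type u} [Group H] [Fintype H] {k : Type*} [CommRing k] [Algebra Cfsg.AlgInt k]
  {a : ℕ}

/-- the image of `d1E η` under the lift of a representation. -/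
theorem d1_lift_d1E (R : H →* Matrix (Fin a) (Fin a) k) (η : Cfsg.IrrCharacter H) :
    MonoidAlgebra.lift Cfsg.AlgInt (Matrix (Fin a) (Fin a) k) H R (d1E η) =
      ∑ h : H, d1Val η h⁻¹ • R h := by
  unfold d1E
  rw [map_sum]
  apply Finset.sum_congr rfl
  intro h _
  rw [MonoidAlgebra.lift_single]

/-- the image of `d1E η` commutes with the representation (`η` is a class function). -/
theorem d1_lift_d1E_comm (R : H →* Matrix (Fin a) (Fin a) k) (η : Cfsg.IrrCharacter H) (g : H) :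
    R g * MonoidAlgebra.lift Cfsg.AlgInt (Matrix (Fin a) (Fin a) k) H R (d1E η) =
      MonoidAlgebra.lift Cfsg.AlgInt (Matrix (Fin a) (Fin a) k) H R (d1E η) * R g := by
  rw [d1_lift_d1E, Finset.mul_sum, Finset.sum_mul]
  apply Fintype.sum_equiv (MulAut.conj g).toEquiv
  intro h
  have hc : d1Val η (g * h * g⁻¹)⁻¹ = d1Val η h⁻¹ := by
    apply Subtype.ext
    show (η : H → ℂ) (g * h * g⁻¹)⁻¹ = (η : H → ℂ) h⁻¹
    have e : (g * h * g⁻¹)⁻¹ = g * h⁻¹ * g⁻¹ := by group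
    rw [e]
    exact Helper80.isCharacter_conj (Helper80.isCharacter_of_irr η.2) h⁻¹ g
  show R g * (d1Val η h⁻¹ • R h) = (d1Val η (g * h * g⁻¹)⁻¹ • R (g * h * g⁻¹)) * R g
  have e : g * h * g⁻¹ * g = g * h := by group
  rw [hc, mul_smul_comm, smul_mul_assoc, ← map_mul, ← map_mul, e]

theorem d1_choose_gen (R : H →* Matrix (Fin a) (Fin a) k)
    (hu : ∃ b : k, b * algebraMap Cfsg.AlgInt k ((Fintype.card H : ℕ) : Cfsg.AlgInt) = 1)
    (W : Submodule k (Fin a → k))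
    (hW : ∀ h, ∀ w ∈ W, R h *ᵥ w ∈ W) (hW0 : W ≠ ⊥)
    (hmin : ∀ W' : Submodule k (Fin a → k), W' ≤ W →
      (∀ h, ∀ w ∈ W', R h *ᵥ w ∈ W') → W' = ⊥ ∨ W' = W) :
    ∃ η : Cfsg.IrrCharacter H,
      MonoidAlgebra.lift Cfsg.AlgInt (Matrix (Fin a) (Fin a) k) H R (d1E η) ≠ 0 ∧
      ∀ w ∈ W, MonoidAlgebra.lift Cfsg.AlgInt (Matrix (Fin a) (Fin a) k) H R (d1E η) *ᵥ w = 0 →
        w = 0 := by
  classical
  letI := Fintype.ofFinite (Cfsg.IrrCharacter H)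
  have hval : ∀ h : H, ∑ η : Cfsg.IrrCharacter H, d1Val η 1 * d1Val η h⁻¹ =
      if h = 1 then ((Fintype.card H : ℕ) : Cfsg.AlgInt) else 0 := by
    intro h
    apply Subtype.ext
    have h1 := Helper80.irr_sum_degree_mul (G := H) h⁻¹
    have h2 : ((∑ η : Cfsg.IrrCharacter H, d1Val η 1 * d1Val η h⁻¹ : Cfsg.AlgInt) : ℂ) =
        ∑ η : Cfsg.IrrCharacter H, (η : H → ℂ) 1 * (η : H → ℂ) h⁻¹ := by
      push_cast
      rfl
    rw [h2, h1]
    by_cases hh : h = 1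
    · rw [if_pos hh, if_pos (by rw [hh, inv_one])]
      push_cast
      rfl
    · rw [if_neg hh, if_neg (fun h' => hh (inv_eq_one.mp h'))]
      rfl
  have hsum : ∑ η : Cfsg.IrrCharacter H, d1Val η 1 •
        MonoidAlgebra.lift Cfsg.AlgInt (Matrix (Fin a) (Fin a) k) H R (d1E η)
      = ((Fintype.card H : ℕ) : Cfsg.AlgInt) • (1 : Matrix (Fin a) (Fin a) k) := by
    simp_rw [d1_lift_d1E, Finset.smul_sum, smul_smul]
    rw [Finset.sum_comm]
    simp_rw [← Finset.sum_smul, hval]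
    rw [Finset.sum_eq_single 1]
    · rw [if_pos rfl, map_one]
    · intro h _ hne
      rw [if_neg hne, zero_smul]
    · intro h
      exact absurd (Finset.mem_univ _) h
  obtain ⟨w₀, hw₀W, hw₀⟩ := (Submodule.ne_bot_iff W).mp hW0
  have hex : ∃ η : Cfsg.IrrCharacter H,
      MonoidAlgebra.lift Cfsg.AlgInt (Matrix (Fin a) (Fin a) k) H R (d1E η) *ᵥ w₀ ≠ 0 := by
    by_contra hcon
    push_neg at hcon
    have h1 := congrArg (fun M => M *ᵥ w₀) hsum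
    simp only [Matrix.sum_mulVec, Matrix.smul_mulVec, hcon, smul_zero, Finset.sum_const_zero,
      Matrix.one_mulVec] at h1
    obtain ⟨b, hb⟩ := hu
    apply hw₀
    funext i
    have h2 := congrFun h1 i
    simp only [Pi.smul_apply, Pi.zero_apply, Algebra.smul_def] at h2
    calc w₀ i = (b * algebraMap Cfsg.AlgInt k ((Fintype.card H : ℕ) : Cfsg.AlgInt)) * w₀ i := by
          rw [hb, one_mul]
      _ = b * (algebraMap Cfsg.AlgInt k ((Fintype.card H : ℕ) : Cfsg.AlgInt) * w₀ i) := by ring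
      _ = 0 := by rw [← h2, mul_zero]
  obtain ⟨η, hη⟩ := hex
  refine ⟨η, ?_, ?_⟩
  · intro h0
    rw [h0, Matrix.zero_mulVec] at hη
    exact hη rfl
  · let W' : Submodule k (Fin a → k) :=
      W ⊓ LinearMap.ker (Matrix.mulVecLin
        (MonoidAlgebra.lift Cfsg.AlgInt (Matrix (Fin a) (Fin a) k) H R (d1E η)))
    have hW'le : W' ≤ W := inf_le_left
    have hW'st : ∀ h, ∀ w ∈ W', R h *ᵥ w ∈ W' := by
      intro h w hw
      refine ⟨hW h w hw.1, ?_⟩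
      have hk : MonoidAlgebra.lift Cfsg.AlgInt (Matrix (Fin a) (Fin a) k) H R (d1E η) *ᵥ w = 0 :=
        hw.2
      show MonoidAlgebra.lift Cfsg.AlgInt (Matrix (Fin a) (Fin a) k) H R (d1E η) *ᵥ (R h *ᵥ w) = 0
      rw [Matrix.mulVec_mulVec, ← d1_lift_d1E_comm, ← Matrix.mulVec_mulVec, hk, Matrix.mulVec_zero]
    rcases hmin W' hW'le hW'st with h | h
    · intro w hw hw0
      have : w ∈ W' := ⟨hw, hw0⟩
      rw [h] at this
      exact (Submodule.mem_bot _).mp this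
    · exfalso
      have : w₀ ∈ W' := h ▸ hw₀W
      exact hη this.2

end gen

/-- LD5 (choice of η) -/
theorem d1_choose {H : Type u} [Group H] [Fintype H] (p : ℕ) [Fact p.Prime]
    (𝔐 : Ideal Cfsg.AlgInt) (h𝔐 : Cfsg.IsPModular p 𝔐) (hp : ¬ p ∣ Nat.card H)
    {a : ℕ} (R : H →* Matrix (Fin a) (Fin a) (Cfsg.AlgInt ⧸ 𝔐))
    (W : Submodule (Cfsg.AlgInt ⧸ 𝔐) (Fin a → Cfsg.AlgInt ⧸ 𝔐))
    (hW : ∀ h, ∀ w ∈ W, R h *ᵥ w ∈ W) (hW0 : W ≠ ⊥)
    (hmin : ∀ W' : Submodule (Cfsg.AlgInt ⧸ 𝔐) (Fin a → Cfsg.AlgInt ⧸ 𝔐), W' ≤ W →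
      (∀ h, ∀ w ∈ W', R h *ᵥ w ∈ W') → W' = ⊥ ∨ W' = W) :
    ∃ η : Cfsg.IrrCharacter H, d1Phi 𝔐 R (d1E η) ≠ 0 ∧
      ∀ w ∈ W, d1Phi 𝔐 R (d1E η) *ᵥ w = 0 → w = 0 := by
  haveI : 𝔐.IsMaximal := h𝔐.2.1
  haveI := algInt_charP p 𝔐 h𝔐
  have hcard : ((Fintype.card H : ℕ) : Cfsg.AlgInt ⧸ 𝔐) ≠ 0 := by
    rw [Ne, CharP.cast_eq_zero_iff (Cfsg.AlgInt ⧸ 𝔐) p, ← Nat.card_eq_fintype_card]
    exact hp
  obtain ⟨b, hb⟩ := Ideal.Quotient.exists_inv hcard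
  have hu : ∃ b : Cfsg.AlgInt ⧸ 𝔐, b * algebraMap Cfsg.AlgInt (Cfsg.AlgInt ⧸ 𝔐)
      ((Fintype.card H : ℕ) : Cfsg.AlgInt) = 1 := by
    refine ⟨b, ?_⟩
    rw [map_natCast, mul_comm]
    exact hb
  exact d1_choose_gen R hu W hW hW0 hmin

end Cfsg.Agent.Helper41
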