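import Cfsg.Agent.Helper41.DkMax

set_option autoImplicit false

/-!
# Dickson, part 12: order bounds for the cases of `Dk.Concl`
-/

namespace Cfsg.Agent.Helper41.Dk

open Cfsg.Agent.Helper41 Matrix

variable {F : Type*} [Field F]

local notation "SL2" => Matrix.SpecialLinearGroup (Fin 2) F

/-- the Borel subgroup (upper triangular matrices). -/
def Bor : Subgroup SL2 where
  carrier := {g | g.1 1 0 = 0}
  mul_mem' := fun {a b} ha hb => by
    show (a * b).1 1 0 = 0
    rw [mul_e10, show a.1 1 0 = 0 from ha, show b.1 1 0 = 0 from hb]; ring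
  one_mem' := by
    show (1 : SL2).1 1 0 = 0
    simp
  inv_mem' := fun {a} ha => by
    show (a⁻¹).1 1 0 = 0
    rw [inv_e10, show a.1 1 0 = 0 from ha, neg_zero]

theorem mem_Bor {g : SL2} : g ∈ (Bor : Subgroup SL2) ↔ g.1 1 0 = 0 := Iff.rfl

theorem center_le_Bor : Subgroup.center SL2 ≤ Bor :=
  fun z hz => ((center_iff_entries z).mp hz).1

theorem bor_ne_zero (g : SL2) (h : g.1 1 0 = 0) : g.1 0 0 ≠ 0 := by
  have hd := sl2_det g
  intro h0
  rw [h, h0] at hd
  simp at hd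

theorem card_Bor [Fintype F] :
    Nat.card (Bor : Subgroup SL2) = Fintype.card F * (Fintype.card F - 1) := by
  classical
  have e : Nat.card (Bor : Subgroup SL2) = Nat.card (Fˣ × F) := by
    apply Nat.card_congr
    refine Equiv.ofBijective (fun g : (Bor : Subgroup SL2) =>
      ((Units.mk0 (g.1.1 0 0) (bor_ne_zero g.1 g.2), g.1.1 0 1) : Fˣ × F)) ⟨?_, ?_⟩
    · intro a b hab
      have h1 : a.1.1 0 0 = b.1.1 0 0 := congrArg (fun x : Fˣ × F => (x.1 : F)) hab
      have h2 : a.1.1 0 1 = b.1.1 0 1 := congrArg (fun x : Fˣ × F => x.2) hab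
      have ha := sl2_det a.1
      have hb := sl2_det b.1
      rw [mem_Bor.mp a.2] at ha
      rw [mem_Bor.mp b.2] at hb
      apply Subtype.ext
      apply sl_ext h1 h2
      · rw [mem_Bor.mp a.2, mem_Bor.mp b.2]
      · have h3 : a.1.1 0 0 * (a.1.1 1 1 - b.1.1 1 1) = 0 := by
          rw [h1] at ha ⊢
          linear_combination ha - hb
        have h4 := (mul_eq_zero.mp h3).resolve_left (bor_ne_zero a.1 a.2)
        exact sub_eq_zero.mp h4
    · rintro ⟨a, b⟩
      obtain ⟨g, hg00, hg01, hg10⟩ : ∃ g : SL2, g.1 0 0 = a.1 ∧ g.1 0 1 = b ∧ g.1 1 0 = 0 :=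
        ⟨mkSL a.1 b 0 (a.1)⁻¹ (by rw [mul_inv_cancel₀ a.ne_zero]; ring), by rw [mk_e00],
          by rw [mk_e01], by rw [mk_e10]⟩
      refine ⟨⟨g, hg10⟩, ?_⟩
      apply Prod.ext
      · apply Units.ext; exact hg00
      · exact hg01
  rw [e, Nat.card_prod, Nat.card_units, Nat.card_eq_fintype_card, mul_comm]

/-- a line is conjugate to the standard one. -/
theorem exists_conj_borel (v : Fin 2 → F) (hv : v ≠ 0) :
    ∃ Q0 : SL2, ∀ g : SL2, (∃ c : F, g.1 *ᵥ v = c • v) → Q0⁻¹ * g * Q0 ∈ (Bor : Subgroup SL2) := by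
  obtain ⟨Q0, h00, h10⟩ : ∃ Q0 : SL2, Q0.1 0 0 = v 0 ∧ Q0.1 1 0 = v 1 := by
    by_cases h0 : v 0 = 0
    · have h1 : v 1 ≠ 0 := by
        intro h1; apply hv; ext i; fin_cases i
        · exact h0
        · exact h1
      exact ⟨mkSL 0 (-(v 1)⁻¹) (v 1) 0 (by rw [zero_mul, neg_mul, inv_mul_cancel₀ h1]; ring),
        by rw [mk_e00, h0], by rw [mk_e10]⟩
    · exact ⟨mkSL (v 0) 0 (v 1) (v 0)⁻¹ (by rw [mul_inv_cancel₀ h0]; ring), by rw [mk_e00],
        by rw [mk_e10]⟩
  refine ⟨Q0, fun g hg => ?_⟩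
  obtain ⟨c, hc⟩ := hg
  have e0 := congrFun hc 0
  have e1 := congrFun hc 1
  simp only [Matrix.mulVec, dotProduct, Fin.sum_univ_two, Pi.smul_apply, smul_eq_mul] at e0 e1
  rw [mem_Bor, mul_e10, mul_e10, mul_e11, inv_e10, inv_e11, h00, h10]
  linear_combination (-(v 1)) * e0 + (v 0) * e1

/-- case (B): the order is at most `q (q - 1)`. -/
theorem card_le_of_fix [Fintype F] (Mt : Subgroup SL2) (v : Fin 2 → F) (hv : v ≠ 0)
    (hfix : ∀ g : Mt, ∃ c : F, (g : SL2).1 *ᵥ v = c • v) :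
    Nat.card Mt ≤ Fintype.card F * (Fintype.card F - 1) := by
  classical
  obtain ⟨Q0, hQ0⟩ := exists_conj_borel v hv
  rw [← card_Bor]
  apply Nat.card_le_card_of_injective
    (fun g : Mt => (⟨Q0⁻¹ * g.1 * Q0, hQ0 g.1 (hfix g)⟩ : (Bor : Subgroup SL2)))
  intro a b hab
  have h1 : Q0⁻¹ * a.1 * Q0 = Q0⁻¹ * b.1 * Q0 := congrArg Subtype.val hab
  exact Subtype.ext (mul_left_cancel (mul_right_cancel h1))

/-- case (T): the order divides `2 (q + 1)` or `2 (q - 1)`. -/
theorem card_dvd_of_T [Fintype F] (p : ℕ) [Fact p.Prime] [CharP F p] (Mt : Subgroup SL2)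
    (hT : ∃ x : Mt, x ∉ (Subgroup.center SL2).subgroupOf Mt ∧
      tr (Mt.subtype x : Matrix.SpecialLinearGroup (Fin 2) F) ^ 2 ≠ 4 ∧
      ∀ g : Mt, g * x * g⁻¹ = x ∨ g * x * g⁻¹ = x⁻¹) :
    Nat.card Mt ∣ 2 * (Fintype.card F + 1) ∨ Nat.card Mt ∣ 2 * (Fintype.card F - 1) := by
  classical
  obtain ⟨x, hxZ, ht, hx⟩ := hT
  obtain ⟨k, hk, hk2⟩ := torus_concl Mt.subtype p Subtype.val_injective _
    (fun g => Subgroup.mem_subgroupOf) x hxZ ht hx
  have hcard := Subgroup.card_eq_card_quotient_mul_card_subgroup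
    ((Subgroup.center SL2).subgroupOf Mt)
  have hq : Nat.card (Mt ⧸ (Subgroup.center SL2).subgroupOf Mt) = k ∨
      Nat.card (Mt ⧸ (Subgroup.center SL2).subgroupOf Mt) = 2 * k := by
    rcases hk2 with ⟨-, h⟩ | ⟨⟨e⟩⟩
    · left; exact h
    · right; rw [Nat.card_congr e.toEquiv, DihedralGroup.nat_card]
  rcases hq with h | h
  · rw [h] at hcard
    rw [hcard]
    rcases hk with h' | h'
    · left; exact Dvd.dvd.mul_left h' 2
    · right; exact Dvd.dvd.mul_left h' 2
  · rw [h] at hcard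
    rw [hcard]
    rcases hk with h' | h'
    · left; rw [mul_assoc]; exact Nat.mul_dvd_mul_left 2 h'
    · right; rw [mul_assoc]; exact Nat.mul_dvd_mul_left 2 h'

theorem memK_inv_mul (K1 : Subfield F) (lam : F) (hlam0 : lam ≠ 0) (hlam2 : lam ^ 2 ∈ K1)
    {g0 g : SL2} (h0 : MemK K1 (lam • g0.1)) (h : MemK K1 (lam • g.1)) :
    MemK K1 (g0⁻¹ * g).1 := by
  have h0' : MemK K1 (lam • (g0⁻¹).1) := by
    rw [memK_iff]
    simp only [Matrix.smul_apply, smul_eq_mul, inv_e00, inv_e01, inv_e10, inv_e11, mul_neg]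
    exact ⟨h0 1 1, K1.neg_mem (h0 0 1), K1.neg_mem (h0 1 0), h0 0 0⟩
  have e : (g0⁻¹ * g).1 = (lam ^ 2)⁻¹ • ((lam • (g0⁻¹).1) * (lam • g.1)) := by
    rw [Matrix.SpecialLinearGroup.coe_mul, Matrix.smul_mul, Matrix.mul_smul, smul_smul, smul_smul]
    have h1 : (lam ^ 2)⁻¹ * lam * lam = 1 := by field_simp
    rw [h1, one_smul]
  rw [e]
  intro i j
  rw [Matrix.smul_apply, smul_eq_mul]
  exact K1.mul_mem (K1.inv_mem hlam2) (memK_mul K1 h0' h i j)

/-- case (S), second alternative: the order is at most `2 |SL₂(K₁)|`. -/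
theorem card_le_of_range_ext [Fintype F] (Mt : Subgroup SL2) (Q : Matrix (Fin 2) (Fin 2) F)
    (hQ : Q.det ≠ 0) (K1 : Subfield F) (lam : F) (hlam0 : lam ≠ 0) (hlam2 : lam ^ 2 ∈ K1)
    (h : ∀ g : SL2, g ∈ ((conjGL Q hQ).comp Mt.subtype).range ↔
      (MemK K1 g.1 ∨ MemK K1 (lam • g.1))) :
    Nat.card Mt ≤ 2 * Nat.card (SK K1) := by
  classical
  rw [← card_range_conj Mt Q hQ]
  obtain ⟨R, hR⟩ : ∃ R : Subgroup SL2, R = ((conjGL Q hQ).comp Mt.subtype).range := ⟨_, rfl⟩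
  rw [← hR] at h ⊢
  by_cases hne : ∃ g0 ∈ R, ¬ MemK K1 g0.1
  · obtain ⟨g0, hg0R, hg0⟩ := hne
    have hg0' : MemK K1 (lam • g0.1) := ((h g0).mp hg0R).resolve_left hg0
    have hsub : (R : Set SL2) ⊆ (SK K1 : Set SL2) ∪ (fun s => g0 * s) '' (SK K1 : Set SL2) := by
      intro g hg
      by_cases hgK : MemK K1 g.1
      · left; exact hgK
      · right
        refine ⟨g0⁻¹ * g, memK_inv_mul K1 lam hlam0 hlam2 hg0'
          (((h g).mp hg).resolve_left hgK), ?_⟩
        show g0 * (g0⁻¹ * g) = g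
        group
    calc Nat.card R = (R : Set SL2).ncard := Nat.card_coe_set_eq _
      _ ≤ ((SK K1 : Set SL2) ∪ (fun s => g0 * s) '' (SK K1 : Set SL2)).ncard :=
          Set.ncard_le_ncard hsub (Set.toFinite _)
      _ ≤ (SK K1 : Set SL2).ncard + ((fun s => g0 * s) '' (SK K1 : Set SL2)).ncard :=
          Set.ncard_union_le _ _
      _ ≤ (SK K1 : Set SL2).ncard + (SK K1 : Set SL2).ncard :=
          Nat.add_le_add_left (Set.ncard_image_le (Set.toFinite _)) _
      _ = 2 * Nat.card (SK K1) := by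
          rw [← Nat.card_coe_set_eq]
          show Nat.card (SK K1) + Nat.card (SK K1) = 2 * Nat.card (SK K1)
          ring
  · push_neg at hne
    have h1 : R ≤ SK K1 := fun g hg => hne g hg
    have h2 := Subgroup.card_le_of_le h1
    omega

/-- a subfield of a finite field is everything or has at most `√q` elements. -/
theorem subfield_cases [Fintype F] (K1 : Subfield F) :
    K1 = ⊤ ∨ Nat.card K1 ^ 2 ≤ Fintype.card F := by
  classical
  haveI : Fintype K1 := Fintype.ofFinite _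
  have c2 : Fintype.card F = Fintype.card K1 ^ Module.finrank K1 F :=
    Module.card_eq_pow_finrank
  have hq : 2 ≤ Fintype.card F := Fintype.one_lt_card
  have hr : 2 ≤ Fintype.card K1 := Fintype.one_lt_card
  rw [Nat.card_eq_fintype_card]
  rcases Nat.lt_or_ge (Module.finrank K1 F) 2 with hm | hm
  · left
    have h1 : Module.finrank K1 F = 1 := by
      rcases Nat.lt_or_ge (Module.finrank K1 F) 1 with h0 | h0
      · have h00 : Module.finrank K1 F = 0 := by omega
        rw [h00, pow_zero] at c2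
        omega
      · omega
    rw [h1, pow_one] at c2
    rw [eq_top_iff]
    intro x _
    have hs : (K1 : Set F) = Set.univ := by
      apply Set.eq_of_subset_of_ncard_le (Set.subset_univ _)
      rw [← Nat.card_coe_set_eq, ← Nat.card_coe_set_eq]
      show Nat.card (Set.univ : Set F) ≤ Nat.card K1
      rw [Nat.card_eq_fintype_card (α := K1), ← c2, Nat.card_congr (Equiv.Set.univ F),
        Nat.card_eq_fintype_card]
    have hx : x ∈ (K1 : Set F) := by rw [hs]; trivial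
    exact hx
  · right
    rw [c2]
    exact Nat.pow_le_pow_right (by omega) hm

end Cfsg.Agent.Helper41.Dk
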