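import Mathlib

set_option autoImplicit false

/-!
# Dickson, part 1: the class equation over maximal abelian subgroups

`X` a finite group, `Z` a central subgroup such that the centralizer of every element outside
`Z` is abelian.  Then `X \ Z` is partitioned into the classes `y ~ x :⟺ C(y)` conjugate to
`C(x)`, and the class of `x` has `|X : N(C(x))| * (|C(x)| - |Z|)` elements.
-/

namespace Cfsg.Agent.Helper41.Dk

variable {X : Type*} [Group X]

/-- `Z` is central and centralizers of elements outside `Z` are abelian. -/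
structure CA (Z : Subgroup X) : Prop where
  central : Z ≤ Subgroup.center X
  comm : ∀ z : X, z ∉ Z → ∀ g h : X, Commute g z → Commute h z → Commute g h

/-- the centralizer of an element -/
abbrev cen (x : X) : Subgroup X := Subgroup.centralizer {x}

theorem mem_cen {x g : X} : g ∈ cen x ↔ Commute g x := by
  rw [Subgroup.mem_centralizer_iff]
  constructor
  · intro h; exact (h x rfl).symm
  · intro h y hy
    rw [Set.mem_singleton_iff] at hy
    subst hy
    exact h.eq.symm

theorem comm_conj_left {u x y : X} : Commute (u * x * u⁻¹) y ↔ Commute x (u⁻¹ * y * u) := by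
  constructor
  · intro h
    show x * (u⁻¹ * y * u) = (u⁻¹ * y * u) * x
    calc x * (u⁻¹ * y * u) = u⁻¹ * ((u * x * u⁻¹) * y) * u := by group
      _ = u⁻¹ * (y * (u * x * u⁻¹)) * u := by rw [h.eq]
      _ = (u⁻¹ * y * u) * x := by group
  · intro h
    show (u * x * u⁻¹) * y = y * (u * x * u⁻¹)
    calc (u * x * u⁻¹) * y = u * (x * (u⁻¹ * y * u)) * u⁻¹ := by group
      _ = u * ((u⁻¹ * y * u) * x) * u⁻¹ := by rw [h.eq]
      _ = y * (u * x * u⁻¹) := by group

theorem conj_mem_iff {Z : Subgroup X} (hZ : Z ≤ Subgroup.center X) (u y : X) :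
    u * y * u⁻¹ ∈ Z ↔ y ∈ Z := by
  constructor
  · intro h
    have hc := Subgroup.mem_center_iff.mp (hZ h) u⁻¹
    have : y = u * y * u⁻¹ := by
      calc y = u⁻¹ * (u * y * u⁻¹) * u := by group
        _ = (u * y * u⁻¹) * u⁻¹ * u := by rw [hc]
        _ = u * y * u⁻¹ := by group
    rw [this]; exact h
  · intro h
    have hc := Subgroup.mem_center_iff.mp (hZ h) u
    rw [hc, mul_inv_cancel_right]
    exact h

theorem conj_mem_iff' {Z : Subgroup X} (hZ : Z ≤ Subgroup.center X) (u y : X) :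
    u⁻¹ * y * u ∈ Z ↔ y ∈ Z := by
  have := conj_mem_iff hZ u⁻¹ y
  rwa [inv_inv] at this

namespace CA

variable {Z : Subgroup X} (hCA : CA Z)
include hCA

theorem le_cen (x : X) : Z ≤ cen x := by
  intro z hz
  rw [mem_cen]
  exact (Subgroup.mem_center_iff.mp (hCA.central hz) x).symm

theorem cen_eq_of_commute {x y : X} (hx : x ∉ Z) (hy : y ∉ Z) (h : Commute x y) :
    cen x = cen y := by
  ext g
  rw [mem_cen, mem_cen]
  constructor
  · intro hg
    exact hCA.comm x hx g y hg h.symm
  · intro hg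
    exact hCA.comm y hy g x hg h

theorem cen_comm {x : X} (hx : x ∉ Z) {g h : X} (hg : g ∈ cen x) (hh : h ∈ cen x) :
    Commute g h :=
  hCA.comm x hx g h (mem_cen.mp hg) (mem_cen.mp hh)

end CA

/-- `C(y)` is conjugate to `C(x)`. -/
def rel (x y : X) : Prop := ∃ u : X, Commute (u * x * u⁻¹) y

theorem rel_refl (x : X) : rel x x := ⟨1, by simp⟩

theorem rel_symm {x y : X} (h : rel x y) : rel y x := by
  obtain ⟨u, hu⟩ := h
  refine ⟨u⁻¹, ?_⟩
  rw [inv_inv]
  exact (comm_conj_left.mp hu).symm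

theorem rel_trans {Z : Subgroup X} (hCA : CA Z) {x y w : X} (hy : y ∉ Z)
    (h1 : rel x y) (h2 : rel y w) : rel x w := by
  obtain ⟨u, hu⟩ := h1
  obtain ⟨v, hv⟩ := h2
  refine ⟨v * u, ?_⟩
  have hpiv : v * y * v⁻¹ ∉ Z := fun h => hy ((conj_mem_iff hCA.central v y).mp h)
  have h3 : Commute (v * (u * x * u⁻¹) * v⁻¹) (v * y * v⁻¹) := (Commute.conj_iff v).mpr hu
  have h4 : v * u * x * (v * u)⁻¹ = v * (u * x * u⁻¹) * v⁻¹ := by group
  rw [h4]
  exact hCA.comm _ hpiv _ _ h3 hv.symm

/-- the setoid on `X \ Z`. -/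
def setoid {Z : Subgroup X} (hCA : CA Z) : Setoid {x : X // x ∉ Z} where
  r a b := rel a.1 b.1
  iseqv := ⟨fun a => rel_refl a.1, fun h => rel_symm h, fun {_ b _} h1 h2 => rel_trans hCA b.2 h1 h2⟩

theorem cen_conj (u x : X) : cen (u * x * u⁻¹) = (cen x).map (MulAut.conj u).toMonoidHom := by
  ext g
  rw [Subgroup.mem_map_equiv, mem_cen, mem_cen]
  simp only [MulAut.conj_symm_apply]
  constructor
  · intro h
    exact (comm_conj_left.mp h.symm).symm
  · intro h
    exact (comm_conj_left.mpr h.symm).symm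

theorem card_compl_sub {Z C : Subgroup X} [Finite X] (h : Z ≤ C) :
    Nat.card {y : X // y ∉ Z ∧ y ∈ C} + Nat.card Z = Nat.card C := by
  classical
  have e := Equiv.sumCompl (fun y : C => (y : X) ∈ Z)
  have h1 : Nat.card C = Nat.card {y : C // (y : X) ∈ Z} + Nat.card {y : C // ¬ (y : X) ∈ Z} := by
    rw [← Nat.card_sum]; exact (Nat.card_congr e).symm
  have h2 : Nat.card {y : C // (y : X) ∈ Z} = Nat.card Z :=
    Nat.card_congr ⟨fun y => ⟨y.1.1, y.2⟩, fun z => ⟨⟨z.1, h z.2⟩, z.2⟩, fun _ => rfl, fun _ => rfl⟩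
  have h3 : Nat.card {y : C // ¬ (y : X) ∈ Z} = Nat.card {y : X // y ∉ Z ∧ y ∈ C} :=
    Nat.card_congr ⟨fun y => ⟨y.1.1, y.2, y.1.2⟩, fun y => ⟨⟨y.1, y.2.2⟩, y.2.1⟩,
      fun _ => rfl, fun _ => rfl⟩
  omega

/-- the size of a class. -/
theorem card_cls [Finite X] {Z : Subgroup X} (hCA : CA Z) {x : X} (hx : x ∉ Z) :
    Nat.card {y : X // y ∉ Z ∧ rel x y} * Nat.card (Subgroup.normalizer (cen x : Set X))
      + Nat.card X * Nat.card Z = Nat.card X * Nat.card (cen x) := by
  classical
  haveI := Fintype.ofFinite X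
  let E := {p : X × X // p.2 ∉ Z ∧ Commute (p.1 * x * p.1⁻¹) p.2}
  -- count by the first coordinate
  have hA : Nat.card E + Nat.card X * Nat.card Z = Nat.card X * Nat.card (cen x) := by
    have e1 : E ≃ Σ u : X, {y : X // y ∉ Z ∧ Commute (u * x * u⁻¹) y} :=
      Equiv.subtypeProdEquivSigmaSubtype (fun u y => y ∉ Z ∧ Commute (u * x * u⁻¹) y)
    rw [Nat.card_congr e1, Nat.card_sigma]
    have hu : ∀ u : X, Nat.card {y : X // y ∉ Z ∧ Commute (u * x * u⁻¹) y} + Nat.card Z
        = Nat.card (cen x) := by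
      intro u
      have e2 : {y : X // y ∉ Z ∧ Commute (u * x * u⁻¹) y} ≃ {y : X // y ∉ Z ∧ y ∈ cen x} :=
        Equiv.subtypeEquiv ((Equiv.mulLeft u⁻¹).trans (Equiv.mulRight u)) (by
          intro y
          simp only [Equiv.trans_apply, Equiv.coe_mulLeft, Equiv.coe_mulRight]
          rw [conj_mem_iff' hCA.central, mem_cen]
          constructor
          · rintro ⟨h1, h2⟩
            exact ⟨h1, (comm_conj_left.mp h2).symm⟩
          · rintro ⟨h1, h2⟩
            exact ⟨h1, comm_conj_left.mpr h2.symm⟩)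
      rw [Nat.card_congr e2]
      exact card_compl_sub (hCA.le_cen x)
    have hu' : ∀ u : X, Nat.card {y : X // y ∉ Z ∧ Commute (u * x * u⁻¹) y}
        = Nat.card (cen x) - Nat.card Z := fun u => by have := hu u; omega
    simp only [hu', Finset.sum_const, Finset.card_univ, smul_eq_mul]
    rw [Nat.card_eq_fintype_card (α := X)]
    have hle : Nat.card Z ≤ Nat.card (cen x) := by have := hu 1; omega
    rw [Nat.mul_sub, Nat.sub_add_cancel (Nat.mul_le_mul_left _ hle)]
  -- count by the second coordinate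
  have hB : Nat.card E = Nat.card {y : X // y ∉ Z ∧ rel x y}
      * Nat.card (Subgroup.normalizer (cen x : Set X)) := by
    have e0 : E ≃ {p : X × X // p.1 ∉ Z ∧ Commute (p.2 * x * p.2⁻¹) p.1} :=
      Equiv.subtypeEquiv (Equiv.prodComm X X) (by intro p; simp)
    have e1 : {p : X × X // p.1 ∉ Z ∧ Commute (p.2 * x * p.2⁻¹) p.1} ≃
        Σ y : X, {u : X // y ∉ Z ∧ Commute (u * x * u⁻¹) y} :=
      Equiv.subtypeProdEquivSigmaSubtype (fun y u => y ∉ Z ∧ Commute (u * x * u⁻¹) y)
    rw [Nat.card_congr (e0.trans e1), Nat.card_sigma]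
    have hy : ∀ y : X, Nat.card {u : X // y ∉ Z ∧ Commute (u * x * u⁻¹) y}
        = if (y ∉ Z ∧ rel x y) then Nat.card (Subgroup.normalizer (cen x : Set X)) else 0 := by
      intro y
      split_ifs with hyc
      · obtain ⟨hyZ, u0, hu0⟩ := hyc
        have hpiv : u0 * x * u0⁻¹ ∉ Z := fun h => hx ((conj_mem_iff hCA.central u0 x).mp h)
        refine Nat.card_congr (Equiv.subtypeEquiv (Equiv.mulLeft u0⁻¹) ?_)
        intro u
        simp only [Equiv.coe_mulLeft]
        rw [Subgroup.mem_normalizer_iff]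
        constructor
        · rintro ⟨_, hu⟩ h
          have hpu : u * x * u⁻¹ ∉ Z := fun h => hx ((conj_mem_iff hCA.central u x).mp h)
          have hc1 : cen (u * x * u⁻¹) = cen (u0 * x * u0⁻¹) := by
            rw [hCA.cen_eq_of_commute hpu hyZ hu, hCA.cen_eq_of_commute hpiv hyZ hu0]
          change h ∈ cen x ↔ u0⁻¹ * u * h * (u0⁻¹ * u)⁻¹ ∈ cen x
          rw [mem_cen, mem_cen]
          have k1 : Commute h x ↔ u * h * u⁻¹ ∈ cen (u * x * u⁻¹) := by
            rw [mem_cen]; exact (Commute.conj_iff u).symm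
          have k2 : u * h * u⁻¹ ∈ cen (u0 * x * u0⁻¹) ↔
              Commute (u0⁻¹ * u * h * (u0⁻¹ * u)⁻¹) x := by
            rw [mem_cen]
            have e : u0⁻¹ * u * h * (u0⁻¹ * u)⁻¹ = u0⁻¹ * (u * h * u⁻¹) * u0 := by group
            rw [e]
            constructor
            · intro hh
              exact (comm_conj_left.mp hh.symm).symm
            · intro hh
              exact (comm_conj_left.mpr hh.symm).symm
          rw [k1, hc1, k2]
        · intro hn
          refine ⟨hyZ, ?_⟩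
          have h1 : u0⁻¹ * u * x * (u0⁻¹ * u)⁻¹ ∈ cen x := (hn x).mp (by rw [mem_cen])
          rw [mem_cen] at h1
          have h2 : Commute (u0 * (u0⁻¹ * u * x * (u0⁻¹ * u)⁻¹) * u0⁻¹) (u0 * x * u0⁻¹) :=
            (Commute.conj_iff u0).mpr h1
          have e : u0 * (u0⁻¹ * u * x * (u0⁻¹ * u)⁻¹) * u0⁻¹ = u * x * u⁻¹ := by group
          rw [e] at h2
          exact hCA.comm _ hpiv _ _ h2 hu0.symm
      · have : IsEmpty {u : X // y ∉ Z ∧ Commute (u * x * u⁻¹) y} := by
          constructor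
          rintro ⟨u, h1, h2⟩
          exact hyc ⟨h1, u, h2⟩
        exact Nat.card_of_isEmpty
    simp only [hy]
    rw [← Finset.sum_filter, Finset.sum_const, smul_eq_mul]
    congr 1
    rw [Nat.card_eq_fintype_card, Fintype.card_subtype]
  rw [← hB]
  exact hA

/-- the complement of `Z` is the disjoint union of the classes. -/
theorem card_eq_sum_cls [Finite X] {Z : Subgroup X} (hCA : CA Z)
    [Fintype (Quotient (setoid hCA))] :
    Nat.card X = Nat.card Z +
      ∑ q : Quotient (setoid hCA), Nat.card {y : X // y ∉ Z ∧ rel q.out.1 y} := by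
  classical
  have e := Equiv.sumCompl (fun y : X => y ∈ Z)
  have h1 : Nat.card X = Nat.card Z + Nat.card {y : X // y ∉ Z} := by
    rw [← Nat.card_sum]; exact (Nat.card_congr e).symm
  rw [h1]
  congr 1
  have e2 := Equiv.sigmaFiberEquiv (Quotient.mk (setoid hCA))
  rw [← Nat.card_congr e2, Nat.card_sigma]
  refine Finset.sum_congr rfl ?_
  intro q _
  refine Nat.card_congr ⟨fun y => ⟨y.1.1, y.1.2, ?_⟩, fun y => ⟨⟨y.1, y.2.1⟩, ?_⟩, ?_, ?_⟩
  · have : Quotient.mk (setoid hCA) y.1 = Quotient.mk (setoid hCA) q.out := by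
      rw [y.2, Quotient.out_eq]
    exact rel_symm (Quotient.exact this)
  · have : Quotient.mk (setoid hCA) ⟨y.1, y.2.1⟩ = Quotient.mk (setoid hCA) q.out :=
      Quotient.sound (rel_symm y.2.2)
    rw [this, Quotient.out_eq]
  · intro y; rfl
  · intro y; rfl

/-! ### the numerical invariants of a class -/

/-- `|C(x) : Z|`. -/
noncomputable def cA (Z : Subgroup X) (x : X) : ℕ := Nat.card (cen x) / Nat.card Z

/-- `|N(C(x)) : C(x)|`. -/
noncomputable def cN (x : X) : ℕ :=
  Nat.card (Subgroup.normalizer (cen x : Set X)) / Nat.card (cen x)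

/-- `|X : N(C(x))|`. -/
noncomputable def cI (x : X) : ℕ := (Subgroup.normalizer (cen x : Set X)).index

section inv

variable [Finite X] {Z : Subgroup X} (hCA : CA Z)
include hCA

theorem card_cen (x : X) : Nat.card (cen x) = Nat.card Z * cA Z x := by
  unfold cA
  rw [Nat.mul_div_cancel' (Subgroup.card_dvd_of_le (hCA.le_cen x))]

omit hCA in
theorem card_nor (x : X) :
    Nat.card (Subgroup.normalizer (cen x : Set X)) = Nat.card (cen x) * cN x := by
  unfold cN
  rw [Nat.mul_div_cancel' (Subgroup.card_dvd_of_le Subgroup.le_normalizer)]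

omit hCA in
theorem card_X (x : X) :
    Nat.card X = cI x * Nat.card (Subgroup.normalizer (cen x : Set X)) := by
  unfold cI
  rw [mul_comm, Subgroup.card_mul_index]

theorem two_le_cA {x : X} (hx : x ∉ Z) : 2 ≤ cA Z x := by
  have h1 := card_cen hCA x
  have h2 : Nat.card Z < Nat.card (cen x) := by
    have h3 := card_compl_sub (hCA.le_cen x)
    have : 0 < Nat.card {y : X // y ∉ Z ∧ y ∈ cen x} := by
      haveI : Nonempty {y : X // y ∉ Z ∧ y ∈ cen x} := ⟨⟨x, hx, by rw [mem_cen]⟩⟩
      exact Nat.card_pos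
    omega
  have hz : 0 < Nat.card Z := Nat.card_pos
  by_contra hlt
  push Not at hlt
  have : cA Z x ≤ 1 := by omega
  have : Nat.card Z * cA Z x ≤ Nat.card Z * 1 := Nat.mul_le_mul_left _ this
  omega

theorem index_eq (x : X) : Z.index = cI x * cN x * cA Z x := by
  have h1 := card_cen hCA x
  have h2 := card_nor x
  have h3 := card_X x
  have h4 := Z.card_mul_index
  have hz : 0 < Nat.card Z := Nat.card_pos
  rw [h3, h2, h1] at h4
  have : Nat.card Z * Z.index = Nat.card Z * (cI x * cN x * cA Z x) := by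
    rw [h4]; ring
  exact Nat.eq_of_mul_eq_mul_left hz this

theorem card_cls' {x : X} (hx : x ∉ Z) :
    Nat.card {y : X // y ∉ Z ∧ rel x y} = Nat.card Z * (cI x * (cA Z x - 1)) := by
  have h0 := card_cls hCA hx
  have h1 := card_cen hCA x
  have h2 := card_nor x
  have h3 := card_X x
  have hn : 0 < Nat.card (Subgroup.normalizer (cen x : Set X)) := Nat.card_pos
  have ha := two_le_cA hCA hx
  apply Nat.eq_of_mul_eq_mul_right hn
  have e1 : Nat.card X * Nat.card (cen x) = Nat.card Z * (cI x * (cA Z x - 1)) *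
      Nat.card (Subgroup.normalizer (cen x : Set X)) + Nat.card X * Nat.card Z := by
    rw [h1]
    conv_lhs => rw [h3]
    conv_rhs => rw [h3]
    obtain ⟨a', ha'⟩ : ∃ a', cA Z x = a' + 1 := ⟨cA Z x - 1, by omega⟩
    rw [ha']
    simp only [Nat.add_sub_cancel]
    ring
  omega

/-- **the class equation**. -/
theorem class_equation [Fintype (Quotient (setoid hCA))] :
    Z.index = 1 + ∑ q : Quotient (setoid hCA), cI q.out.1 * (cA Z q.out.1 - 1) := by
  have h := card_eq_sum_cls hCA
  have hz : 0 < Nat.card Z := Nat.card_pos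
  have h4 := Z.card_mul_index
  have h5 : ∑ q : Quotient (setoid hCA), Nat.card {y : X // y ∉ Z ∧ rel q.out.1 y}
      = Nat.card Z * ∑ q : Quotient (setoid hCA), cI q.out.1 * (cA Z q.out.1 - 1) := by
    rw [Finset.mul_sum]
    exact Finset.sum_congr rfl (fun q _ => card_cls' hCA q.out.2)
  rw [h5, ← h4] at h
  have : Nat.card Z * Z.index = Nat.card Z *
      (1 + ∑ q : Quotient (setoid hCA), cI q.out.1 * (cA Z q.out.1 - 1)) := by
    rw [h]; ring
  exact Nat.eq_of_mul_eq_mul_left hz this

/-- invariance of the class data. -/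
theorem inv_of_rel {x y : X} (hx : x ∉ Z) (hy : y ∉ Z) (h : rel x y) :
    cA Z y = cA Z x ∧ cN y = cN x ∧ cI y = cI x := by
  obtain ⟨u, hu⟩ := h
  have hpiv : u * x * u⁻¹ ∉ Z := fun h => hx ((conj_mem_iff hCA.central u x).mp h)
  have h1 : cen y = (cen x).map (MulAut.conj u).toMonoidHom := by
    rw [← hCA.cen_eq_of_commute hpiv hy hu, cen_conj]
  have hinj : Function.Injective (MulAut.conj u).toMonoidHom := (MulAut.conj u).injective
  have h2 : Nat.card (cen y) = Nat.card (cen x) := by
    rw [h1]; exact Subgroup.card_map_of_injective hinj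
  have h3 : Subgroup.normalizer (cen y : Set X) =
      (Subgroup.normalizer (cen x : Set X)).map (MulAut.conj u).toMonoidHom := by
    rw [h1, Subgroup.map_equiv_normalizer_eq]
  have h4 : Nat.card (Subgroup.normalizer (cen y : Set X)) =
      Nat.card (Subgroup.normalizer (cen x : Set X)) := by
    rw [h3]; exact Subgroup.card_map_of_injective hinj
  refine ⟨?_, ?_, ?_⟩
  · unfold cA; rw [h2]
  · unfold cN; rw [h2, h4]
  · unfold cI
    rw [h3]
    exact Subgroup.index_map_equiv _ (MulAut.conj u)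

end inv

end Cfsg.Agent.Helper41.Dk
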