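import Cfsg.Agent.Helper41.DkClass

set_option autoImplicit false

/-!
# Dickson, part 1b: torus-like elements and orbit counting
-/

namespace Cfsg.Agent.Helper41.Dk

variable {X : Type*} [Group X]

/-- `w` is conjugate in `C(w)` only to `w` and `w⁻¹`. -/
def TorusLike (w : X) : Prop :=
  ∀ n : X, Commute (n * w * n⁻¹) w → n * w * n⁻¹ = w ∨ n * w * n⁻¹ = w⁻¹

theorem TorusLike.conj {w : X} (h : TorusLike w) (u : X) : TorusLike (u * w * u⁻¹) := by
  intro n hn
  have h1 : Commute ((u⁻¹ * n * u) * w * (u⁻¹ * n * u)⁻¹) w := by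
    have e : (u⁻¹ * n * u) * w * (u⁻¹ * n * u)⁻¹ = u⁻¹ * (n * (u * w * u⁻¹) * n⁻¹) * u := by group
    rw [e]
    exact (comm_conj_left.mp hn.symm).symm
  have e2 : n * (u * w * u⁻¹) * n⁻¹ = u * ((u⁻¹ * n * u) * w * (u⁻¹ * n * u)⁻¹) * u⁻¹ := by group
  rcases h _ h1 with h2 | h2
  · left; rw [e2, h2]
  · right; rw [e2, h2]; group

theorem mem_normalizer_cen_iff {u x : X} :
    u ∈ Subgroup.normalizer (cen x : Set X) ↔ cen (u * x * u⁻¹) = cen x := by
  rw [cen_conj]
  constructor
  · intro h
    ext g
    rw [Subgroup.mem_map_equiv]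
    simp only [MulAut.conj_symm_apply]
    have hu : u⁻¹ ∈ Subgroup.normalizer (cen x : Set X) := inv_mem h
    rw [Subgroup.mem_normalizer_iff] at hu
    rw [hu g, inv_inv]
  · intro h
    rw [Subgroup.mem_normalizer_iff]
    intro g
    have h2 : u * g * u⁻¹ ∈ Subgroup.map (MulAut.conj u).toMonoidHom (cen x) ↔ g ∈ cen x := by
      rw [Subgroup.mem_map_equiv]
      simp only [MulAut.conj_symm_apply]
      have e : u⁻¹ * (u * g * u⁻¹) * u = g := by group
      rw [e]
    rw [h] at h2
    exact h2.symm

theorem cN_eq_one_or_two [Finite X] (x : X) (h : TorusLike x) : cN x = 1 ∨ cN x = 2 := by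
  have hcard := card_nor x
  have hC : 0 < Nat.card (cen x) := Nat.card_pos
  have hNpos : 0 < Nat.card (Subgroup.normalizer (cen x : Set X)) := Nat.card_pos
  have hle : Nat.card (Subgroup.normalizer (cen x : Set X)) ≤ 2 * Nat.card (cen x) := by
    by_cases hN : ∀ n ∈ Subgroup.normalizer (cen x : Set X), n ∈ cen x
    · have : Nat.card (Subgroup.normalizer (cen x : Set X)) ≤ Nat.card (cen x) :=
        Subgroup.card_le_of_le (fun n hn => hN n hn)
      omega
    · push Not at hN
      obtain ⟨n0, hn0, hn0C⟩ := hN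
      have key : ∀ n ∈ Subgroup.normalizer (cen x : Set X), n ∉ cen x → n * x * n⁻¹ = x⁻¹ := by
        intro n hn hnC
        have h1 : n * x * n⁻¹ ∈ cen x :=
          (Subgroup.mem_normalizer_iff.mp hn x).mp (by rw [mem_cen])
        rcases h n (mem_cen.mp h1) with h2 | h2
        · exfalso
          apply hnC
          rw [mem_cen]
          show n * x = x * n
          calc n * x = (n * x * n⁻¹) * n := by group
            _ = x * n := by rw [h2]
        · exact h2
      have hsub : ((Subgroup.normalizer (cen x : Set X) : Subgroup X) : Set X) ⊆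
          (cen x : Set X) ∪ (fun c => n0 * c) '' (cen x : Set X) := by
        intro n hn
        by_cases hnC : n ∈ cen x
        · exact Or.inl hnC
        · right
          refine ⟨n0⁻¹ * n, ?_, by group⟩
          show n0⁻¹ * n ∈ cen x
          rw [mem_cen]
          have k1 := key n hn hnC
          have k2 := key n0 hn0 hn0C
          show n0⁻¹ * n * x = x * (n0⁻¹ * n)
          have k3 : n0⁻¹ * x⁻¹ * n0 = x := by
            rw [← k2]; group
          calc n0⁻¹ * n * x = n0⁻¹ * (n * x * n⁻¹) * n := by group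
            _ = n0⁻¹ * x⁻¹ * n := by rw [k1]
            _ = (n0⁻¹ * x⁻¹ * n0) * (n0⁻¹ * n) := by group
            _ = x * (n0⁻¹ * n) := by rw [k3]
      calc Nat.card (Subgroup.normalizer (cen x : Set X))
          = ((Subgroup.normalizer (cen x : Set X) : Subgroup X) : Set X).ncard :=
            (Nat.card_coe_set_eq _).symm
        _ ≤ ((cen x : Set X) ∪ (fun c => n0 * c) '' (cen x : Set X)).ncard :=
            Set.ncard_le_ncard hsub (Set.toFinite _)
        _ ≤ (cen x : Set X).ncard + ((fun c => n0 * c) '' (cen x : Set X)).ncard :=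
            Set.ncard_union_le _ _
        _ ≤ (cen x : Set X).ncard + (cen x : Set X).ncard :=
            Nat.add_le_add_left (Set.ncard_image_le (Set.toFinite _)) _
        _ = 2 * Nat.card (cen x) := by
            rw [show (cen x : Set X).ncard = Nat.card (cen x) from Nat.card_coe_set_eq _]
            ring
  rw [hcard] at hle hNpos
  have h1 : cN x ≤ 2 := by
    by_contra hc
    push Not at hc
    have : Nat.card (cen x) * 3 ≤ Nat.card (cen x) * cN x := Nat.mul_le_mul_left _ hc
    omega
  have h2 : cN x ≠ 0 := by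
    intro h0
    rw [h0] at hNpos
    simp at hNpos
  omega

/-- a class whose normalizer has index `2` consists of elements with square in `Z`. -/
theorem sq_mem_of_cI_two {Z : Subgroup X} (hCA : CA Z) {x : X} (hx : x ∉ Z)
    (ht : TorusLike x) (hI : cI x = 2) : x ^ 2 ∈ Z := by
  by_contra hsq
  have hnorm : (Subgroup.normalizer (cen x : Set X)).Normal :=
    Subgroup.normal_of_index_eq_two hI
  have hne : Subgroup.normalizer (cen x : Set X) ≠ ⊤ := by
    intro h
    rw [cI, h, Subgroup.index_top] at hI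
    omega
  obtain ⟨u, hu⟩ : ∃ u : X, u ∉ Subgroup.normalizer (cen x : Set X) := by
    by_contra hall
    push Not at hall
    exact hne (eq_top_iff.mpr (fun u _ => hall u))
  have hxN : x ∈ Subgroup.normalizer (cen x : Set X) :=
    Subgroup.le_normalizer (by rw [mem_cen])
  set x' := u * x * u⁻¹ with hx'
  have hx'N : x' ∈ Subgroup.normalizer (cen x : Set X) := hnorm.conj_mem x hxN u
  have hx'Z : x' ∉ Z := fun h => hx ((conj_mem_iff hCA.central u x).mp h)
  have hncomm : ¬ Commute x' x := by
    intro hc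
    apply hu
    rw [mem_normalizer_cen_iff]
    exact hCA.cen_eq_of_commute hx'Z hx hc
  -- x' inverts x
  have hA : x' * x * x'⁻¹ = x⁻¹ := by
    have h1 : x' * x * x'⁻¹ ∈ cen x :=
      (Subgroup.mem_normalizer_iff.mp hx'N x).mp (by rw [mem_cen])
    rcases ht x' (mem_cen.mp h1) with h2 | h2
    · exfalso
      apply hncomm
      show x' * x = x * x'
      calc x' * x = (x' * x * x'⁻¹) * x' := by group
        _ = x * x' := by rw [h2]
    · exact h2
  -- x inverts x'
  have hB : x * x' * x⁻¹ = x'⁻¹ := by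
    have hxN' : x ∈ Subgroup.normalizer (cen x' : Set X) := by
      rw [mem_normalizer_cen_iff]
      have h1 : u⁻¹ * x * u ∈ Subgroup.normalizer (cen x : Set X) := by
        have := hnorm.conj_mem x hxN u⁻¹
        rwa [inv_inv] at this
      rw [mem_normalizer_cen_iff] at h1
      have e : x * x' * x⁻¹ = u * ((u⁻¹ * x * u) * x * (u⁻¹ * x * u)⁻¹) * u⁻¹ := by
        rw [hx']; group
      rw [e, cen_conj, h1, ← cen_conj]
    have h1 : x * x' * x⁻¹ ∈ cen x' :=
      (Subgroup.mem_normalizer_iff.mp hxN' x').mp (by rw [mem_cen])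
    rcases (ht.conj u) x (mem_cen.mp h1) with h2 | h2
    · exfalso
      apply hncomm
      show x' * x = x * x'
      calc x' * x = (x * x' * x⁻¹)⁻¹⁻¹ * x := by rw [inv_inv, h2]
        _ = x * x' := by group
    · exact h2
  -- hence x² = x'⁻²
  have h1 : x * x' * x = x' := by
    calc x * x' * x = x * (x' * x * x'⁻¹) * x' := by group
      _ = x * x⁻¹ * x' := by rw [hA]
      _ = x' := by group
  have h2 : x' * x * x' = x := by
    calc x' * x * x' = x' * (x * x' * x⁻¹) * x := by group
      _ = x' * x'⁻¹ * x := by rw [hB]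
      _ = x := by group
  have h2' : x' * (x * x') = x := by rw [← mul_assoc]; exact h2
  have h3 : x ^ 2 = (x' ^ 2)⁻¹ := by
    have h4 : x' * x ^ 2 * x' = 1 := by
      have : x' * x ^ 2 * x' = x⁻¹ * ((x * x' * x) * x * x') := by rw [pow_two]; group
      rw [this, h1, mul_assoc, h2']; group
    have : x ^ 2 = x'⁻¹ * (x' * x ^ 2 * x') * x'⁻¹ := by group
    rw [this, h4]; group
  have hc1 : Commute (x ^ 2) x := (Commute.refl x).pow_left 2
  have hc2 : Commute (x ^ 2) x' := by
    rw [h3]
    exact ((Commute.refl x').pow_left 2).inv_left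
  apply hncomm
  have e1 := hCA.cen_eq_of_commute hsq hx hc1
  have e2 := hCA.cen_eq_of_commute hsq hx'Z hc2
  have : x' ∈ cen x := by rw [← e1, e2, mem_cen]
  exact mem_cen.mp this

/-! ### orbit counting -/

open MulAction in
theorem card_eq_sum_index_stabilizer (G Ω : Type*) [Group G] [MulAction G Ω] [Finite Ω]
    [Finite G] [Fintype (orbitRel.Quotient G Ω)] :
    Nat.card Ω = ∑ ω : orbitRel.Quotient G Ω, (stabilizer G ω.out).index := by
  rw [Nat.card_congr (selfEquivSigmaOrbitsQuotientStabilizer G Ω), Nat.card_sigma]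
  exact Finset.sum_congr rfl (fun ω _ => (Subgroup.index_eq_card _).symm)

open MulAction in
/-- if all stabilizers have index `k` then `k` divides the cardinality. -/
theorem dvd_card_of_index_stabilizer (G Ω : Type*) [Group G] [MulAction G Ω] [Finite Ω]
    [Finite G] (k : ℕ)
    (h : ∀ ω : Ω, (stabilizer G ω).index = k) : k ∣ Nat.card Ω := by
  classical
  haveI := Fintype.ofFinite (orbitRel.Quotient G Ω)
  rw [card_eq_sum_index_stabilizer G Ω]
  exact Finset.dvd_sum (fun ω _ => by rw [h])

open MulAction in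
/-- one fixed point, all other stabilizers trivial: the cardinality is `≡ 1` modulo `|G|`. -/
theorem card_modEq_one_of_free (G Ω : Type*) [Group G] [MulAction G Ω] [Finite Ω] [Finite G]
    (x0 : Ω) (h0 : ∀ g : G, g • x0 = x0) (h : ∀ ω : Ω, ω ≠ x0 → stabilizer G ω = ⊥) :
    ∃ m : ℕ, Nat.card Ω = 1 + m * Nat.card G := by
  classical
  haveI := Fintype.ofFinite (orbitRel.Quotient G Ω)
  rw [card_eq_sum_index_stabilizer G Ω]
  set ω0 : orbitRel.Quotient G Ω := Quotient.mk'' x0 with hω0
  have hout : ∀ ω : orbitRel.Quotient G Ω, ω.out = x0 ↔ ω = ω0 := by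
    intro ω
    constructor
    · intro h1
      rw [hω0, ← h1]
      exact (Quotient.out_eq' ω).symm
    · intro h1
      have h2 : ω0.out ∈ orbit G x0 := by
        have : (Quotient.mk'' ω0.out : orbitRel.Quotient G Ω) = Quotient.mk'' x0 :=
          Quotient.out_eq' ω0
        exact Quotient.exact' this
      obtain ⟨g, hg⟩ := h2
      rw [h1, ← hg]
      exact h0 g
  rw [← Finset.add_sum_erase _ _ (Finset.mem_univ ω0)]
  have h1 : (stabilizer G ω0.out).index = 1 := by
    rw [(hout ω0).mpr rfl]
    have : stabilizer G x0 = ⊤ := eq_top_iff.mpr (fun g _ => h0 g)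
    rw [this, Subgroup.index_top]
  have h2 : ∀ ω ∈ Finset.univ.erase ω0, (stabilizer G ω.out).index = Nat.card G := by
    intro ω hω
    have hne : ω.out ≠ x0 := fun hh => (Finset.mem_erase.mp hω).1 ((hout ω).mp hh)
    rw [h ω.out hne, Subgroup.index_bot]
  rw [h1, Finset.sum_congr rfl h2, Finset.sum_const, smul_eq_mul]
  exact ⟨_, rfl⟩

end Cfsg.Agent.Helper41.Dk
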