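import Cfsg.Agent.Helper41.DkTorus3

set_option autoImplicit false

/-!
# Dickson, part 15: tools for the maximality of the dihedral subgroups of `PSL₂(q)`
-/

namespace Cfsg.Agent.Helper41.Dk

open Cfsg.Agent.Helper41 Matrix

set_option maxRecDepth 100000 in
theorem s4_pow_fact : ∀ g : Equiv.Perm (Fin 4), g ^ 3 = 1 ∨ g ^ 4 = 1 := by decide

set_option maxRecDepth 100000 in
theorem a4_inv_fact :
    ∀ a b : alternatingGroup (Fin 4), b * a * b⁻¹ = a⁻¹ → a * a = 1 := by decide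

set_option maxRecDepth 1000000 in
theorem a5_pow_fact :
    ∀ g : alternatingGroup (Fin 5), g ^ 2 = 1 ∨ g ^ 3 = 1 ∨ g ^ 5 = 1 := by decide

variable {F : Type*} [Field F]

local notation "SL2" => Matrix.SpecialLinearGroup (Fin 2) F

/-- a power that dies in the quotient by the centre is central. -/
theorem quot_pow_center {G' : Type*} [Group G'] (Mt : Subgroup SL2)
    (e : (↥Mt ⧸ (Subgroup.center SL2).subgroupOf Mt) ≃* G') (x : Mt) (k : ℕ)
    (h : (e (QuotientGroup.mk x)) ^ k = 1) : (x : SL2) ^ k ∈ Subgroup.center SL2 := by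
  have h1 : e ((QuotientGroup.mk (x ^ k) : ↥Mt ⧸ (Subgroup.center SL2).subgroupOf Mt)) = 1 := by
    rw [QuotientGroup.mk_pow, map_pow]; exact h
  have h2 : (QuotientGroup.mk (x ^ k) : ↥Mt ⧸ (Subgroup.center SL2).subgroupOf Mt) = 1 := by
    apply e.injective; rw [h1, map_one]
  have h3 := (QuotientGroup.eq_one_iff _).mp h2
  rw [Subgroup.mem_subgroupOf] at h3
  exact h3

/-- the subfield case of Dickson's theorem, in terms of the order of a semisimple element. -/
theorem S_case [Fintype F] (p : ℕ) [Fact p.Prime] [CharP F p] (Mt : Subgroup SL2)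
    (Q : Matrix (Fin 2) (Fin 2) F) (hQ : Q.det ≠ 0) (K1 : Subfield F)
    (hS : (∀ g : SL2, g ∈ ((conjGL Q hQ).comp Mt.subtype).range ↔ MemK K1 g.1) ∨
      (∃ lam : F, lam ∉ K1 ∧ lam ^ 2 ∈ K1 ∧
        ∀ g : SL2, g ∈ ((conjGL Q hQ).comp Mt.subtype).range ↔
          (MemK K1 g.1 ∨ MemK K1 (lam • g.1))))
    (x : SL2) (hxM : x ∈ Mt) (hxc : x ∉ Subgroup.center SL2) (ht : tr x ^ 2 ≠ 4)
    (hx2 : x * x ∉ Subgroup.center SL2) :
    Mt = ⊤ ∨ ∃ r : ℕ, 2 ≤ r ∧ r ^ 2 ≤ Fintype.card F ∧ r ∣ Fintype.card F ∧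
      ((Nat.card Mt = r * (r ^ 2 - 1) ∧ (orderOf x ∣ r - 1 ∨ orderOf x ∣ r + 1)) ∨
       ((2 : F) ≠ 0 ∧ (orderOf x ∣ 2 * (r - 1) ∨ orderOf x ∣ 2 * (r + 1)))) := by
  classical
  obtain ⟨y, hy⟩ : ∃ y : SL2, y = conjGL Q hQ x := ⟨_, rfl⟩
  have hyr : y ∈ ((conjGL Q hQ).comp Mt.subtype).range := ⟨⟨x, hxM⟩, hy.symm⟩
  have hord : orderOf y = orderOf x := by
    rw [hy]; exact orderOf_injective _ (conjGL_injective Q hQ) x
  have hyc : y ∉ Subgroup.center SL2 := by rw [hy, conjGL_mem_center]; exact hxc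
  have hty : tr y ^ 2 ≠ 4 := by rw [hy, tr_conjGL]; exact ht
  haveI : Fintype K1 := Fintype.ofFinite _
  have hr2 : 2 ≤ Nat.card K1 := by
    rw [Nat.card_eq_fintype_card]; exact Fintype.one_lt_card
  have hrdvd : Nat.card K1 ∣ Fintype.card F := by
    rw [Nat.card_eq_fintype_card, Module.card_eq_pow_finrank (K := K1) (V := F)]
    exact dvd_pow_self _ (Module.finrank_pos (R := K1) (M := F)).ne'
  rcases hS with h1 | ⟨lam, hlam, hlam2, h2'⟩
  · rcases subfield_cases K1 with hK1 | hK1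
    · left
      apply eq_top_of_range_top Mt Q hQ
      intro g
      rw [h1, hK1]
      intro i j; trivial
    · right
      refine ⟨Nat.card K1, hr2, hK1, hrdvd, Or.inl ⟨?_, ?_⟩⟩
      · rw [card_of_range_SK Mt Q hQ K1 h1, card_SK]
      · rw [← hord]; exact order_dvd_of_mem_SK p K1 y ((h1 y).mp hyr) hyc hty
  · right
    have hlam0 : lam ≠ 0 := fun h => hlam (h ▸ K1.zero_mem)
    have h2F : (2 : F) ≠ 0 := fun h2 => hlam (mem_of_sq_mem_char_two h2 K1 lam hlam2)
    have hK1 : Nat.card K1 ^ 2 ≤ Fintype.card F := by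
      rcases subfield_cases K1 with hK1 | hK1
      · exfalso; rw [hK1] at hlam; exact hlam trivial
      · exact hK1
    refine ⟨Nat.card K1, hr2, hK1, hrdvd, Or.inr ⟨h2F, ?_⟩⟩
    by_cases hy1 : MemK K1 y.1
    · rcases order_dvd_of_mem_SK p K1 y hy1 hyc hty with h | h
      · left; rw [← hord]; exact Dvd.dvd.mul_left h 2
      · right; rw [← hord]; exact Dvd.dvd.mul_left h 2
    · have hy2 : MemK K1 (lam • y.1) := ((h2' y).mp hyr).resolve_left hy1
      have hyi : MemK K1 (lam • (y⁻¹).1) := by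
        have hyir : y⁻¹ ∈ ((conjGL Q hQ).comp Mt.subtype).range := inv_mem hyr
        rcases (h2' y⁻¹).mp hyir with h | h
        · exfalso
          apply hy1
          have h3 : y⁻¹ ∈ SK K1 := h
          have h4 := (SK K1).inv_mem h3
          rw [inv_inv] at h4
          exact h4
        · exact h
      have hyy : y * y ∈ SK K1 := by
        have h3 := memK_inv_mul K1 lam hlam0 hlam2 hyi hy2
        rw [inv_inv] at h3
        exact h3
      have hyyc : y * y ∉ Subgroup.center SL2 := by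
        rw [hy, ← map_mul, conjGL_mem_center]; exact hx2
      have htyy : tr (y * y) ^ 2 ≠ 4 := tr_ne_of_comm y (y * y) hyc hty (by
        show y * y * y = y * (y * y)
        rw [mul_assoc]) hyyc
      have key : ∀ m, orderOf (y * y) ∣ m → orderOf y ∣ 2 * m := by
        intro m hm
        apply orderOf_dvd_of_pow_eq_one
        rw [pow_mul, pow_two]
        exact orderOf_dvd_iff_pow_eq_one.mp hm
      rw [← hord]
      rcases order_dvd_of_mem_SK p K1 (y * y) hyy hyyc htyy with h | h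
      · left; exact key _ h
      · right; exact key _ h

/-! ### the diagonal torus -/

/-- the diagonal torus. -/
def Dg : Fˣ →* SL2 where
  toFun u := mkSL (u : F) 0 0 ((u⁻¹ : Fˣ) : F) (by rw [mul_zero, sub_zero, Units.mul_inv])
  map_one' := by
    apply sl_ext <;> simp [mk_e00, mk_e01, mk_e10, mk_e11]
  map_mul' := fun u v => by
    apply sl_ext
    · rw [mul_e00, mk_e00, mk_e00, mk_e00, mk_e01, Units.val_mul]; ring
    · rw [mul_e01, mk_e01, mk_e01, mk_e00, mk_e01]; ring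
    · rw [mul_e10, mk_e10, mk_e10, mk_e00, mk_e11, mk_e10]; ring
    · rw [mul_e11, mk_e11, mk_e11, mk_e11, mk_e10, mk_e01, _root_.mul_inv_rev, Units.val_mul]; ring

theorem Dg_e00 (u : Fˣ) : (Dg u : SL2).1 0 0 = u := rfl
theorem Dg_e01 (u : Fˣ) : (Dg u : SL2).1 0 1 = 0 := rfl
theorem Dg_e10 (u : Fˣ) : (Dg u : SL2).1 1 0 = 0 := rfl
theorem Dg_e11 (u : Fˣ) : (Dg u : SL2).1 1 1 = ((u⁻¹ : Fˣ) : F) := rfl

theorem Dg_injective : Function.Injective (Dg : Fˣ → SL2) := by
  intro u v h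
  apply Units.ext
  have h1 := congrArg (fun g : SL2 => g.1 0 0) h
  exact h1

theorem Dg_mem_center_iff (u : Fˣ) : (Dg u : SL2) ∈ Subgroup.center SL2 ↔ u * u = 1 := by
  rw [center_iff_entries, Dg_e00, Dg_e01, Dg_e10, Dg_e11]
  constructor
  · rintro ⟨-, -, h⟩
    apply Units.ext
    rw [Units.val_mul, Units.val_one]
    nth_rewrite 2 [h]
    exact Units.mul_inv u
  · intro h
    refine ⟨rfl, rfl, ?_⟩
    have h1 : u = u⁻¹ := eq_inv_of_mul_eq_one_left h
    exact congrArg Units.val h1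

theorem Dg_pow_center (u : Fˣ) (k : ℕ) (h : (Dg u : SL2) ^ k ∈ Subgroup.center SL2) :
    u ^ (2 * k) = 1 := by
  rw [← map_pow, Dg_mem_center_iff] at h
  rw [two_mul, pow_add]; exact h

theorem Dg_tr (u : Fˣ) (hu : u * u ≠ 1) : tr (Dg u : SL2) ^ 2 ≠ 4 := by
  intro h
  apply hu
  rw [tr_eq, Dg_e00, Dg_e11] at h
  have h1 : (u : F) * ((u⁻¹ : Fˣ) : F) = 1 := Units.mul_inv u
  have h2 : ((u : F) - ((u⁻¹ : Fˣ) : F)) ^ 2 = 0 := by linear_combination h - 4 * h1
  have h3 : (u : F) = ((u⁻¹ : Fˣ) : F) := sub_eq_zero.mp (pow_eq_zero_iff two_ne_zero |>.mp h2)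
  apply Units.ext
  rw [Units.val_mul, Units.val_one]
  nth_rewrite 2 [h3]
  exact h1

/-- the Weyl element. -/
def wS : SL2 := mkSL 0 1 (-1) 0 (by ring)

theorem wS_conj (u : Fˣ) : wS * Dg u * wS⁻¹ = (Dg u : SL2)⁻¹ := by
  apply sl_ext <;>
    simp only [wS, mul_e00, mul_e01, mul_e10, mul_e11, mk_e00, mk_e01, mk_e10, mk_e11,
      inv_e00, inv_e01, inv_e10, inv_e11, Dg_e00, Dg_e01, Dg_e10, Dg_e11] <;> ring

theorem no_fix_Dg_wS (u : Fˣ) (hu : u * u ≠ 1) (v : Fin 2 → F) (hv : v ≠ 0) (c c' : F)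
    (h1 : (Dg u : SL2).1 *ᵥ v = c • v) (h2 : (wS : SL2).1 *ᵥ v = c' • v) : False := by
  have e0 := congrFun h1 0
  have e1 := congrFun h1 1
  have f0 := congrFun h2 0
  have f1 := congrFun h2 1
  simp only [Matrix.mulVec, dotProduct, Fin.sum_univ_two, Pi.smul_apply, smul_eq_mul, wS,
    Dg_e00, Dg_e01, Dg_e10, Dg_e11, mk_e00, mk_e01, mk_e10, mk_e11, zero_mul, add_zero,
    zero_add, one_mul] at e0 e1 f0 f1
  have hv0 : v 0 ≠ 0 := by
    intro h0
    apply hv
    ext i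
    fin_cases i
    · exact h0
    · show v 1 = 0
      rw [f0, h0, mul_zero]
  have hv1 : v 1 ≠ 0 := by
    intro h0
    apply hv0
    rw [h0, mul_zero] at f1
    linear_combination (-1 : F) * f1
  have hc0 : (u : F) = c := mul_right_cancel₀ hv0 e0
  have hc1 : ((u⁻¹ : Fˣ) : F) = c := mul_right_cancel₀ hv1 e1
  apply hu
  apply Units.ext
  rw [Units.val_mul, Units.val_one]
  nth_rewrite 2 [hc0]
  rw [← hc1]
  exact Units.mul_inv u

/-- a generator of the multiplicative group. -/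
theorem exists_gen [Fintype F] : ∃ ζ : Fˣ, orderOf ζ = Fintype.card F - 1 := by
  classical
  obtain ⟨ζ, hζ⟩ := IsCyclic.exists_generator (α := Fˣ)
  refine ⟨ζ, ?_⟩
  rw [orderOf_eq_card_of_forall_mem_zpowers hζ, Nat.card_eq_fintype_card, Fintype.card_units]

end Cfsg.Agent.Helper41.Dk
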