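import Cfsg.Agent.Helper41.DkDih

set_option autoImplicit false

/-!
# Dickson, part 16: a generator of a non-split torus of `SL₂(q)`
-/

namespace Cfsg.Agent.Helper41.Dk

open Cfsg.Agent.Helper41 Matrix

variable {F : Type*} [Field F]

local notation "SL2" => Matrix.SpecialLinearGroup (Fin 2) F

theorem center_sq (z : SL2) (hz : z ∈ Subgroup.center SL2) : z * z = 1 := by
  rw [center_iff_entries] at hz
  obtain ⟨h10, h01, h00⟩ := hz
  have hd := sl2_det z
  rw [h10, h01, ← h00] at hd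
  apply sl_ext
  · rw [mul_e00, h01, h10]; simp only [Matrix.SpecialLinearGroup.coe_one, Matrix.one_apply_eq]
    linear_combination hd
  · rw [mul_e01, h01]; simp
  · rw [mul_e10, h10]; simp
  · rw [mul_e11, h01, h10, ← h00]
    simp only [Matrix.SpecialLinearGroup.coe_one, Matrix.one_apply_eq]
    linear_combination hd

theorem pow_center_sq (x : SL2) (k : ℕ) (h : x ^ k ∈ Subgroup.center SL2) : x ^ (2 * k) = 1 := by
  rw [two_mul, pow_add]; exact center_sq _ h

/-- a generator `x₁` of a non-split torus, an element inverting it, and an element `x₀` of the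
torus without eigenvectors. -/
theorem exists_nonsplit_elt [Fintype F] (p : ℕ) [Fact p.Prime] [CharP F p] :
    ∃ x0 x1 w : SL2, x1 ∉ Subgroup.center SL2 ∧ tr x1 ^ 2 ≠ 4 ∧
      orderOf x1 = Fintype.card F + 1 ∧ w * x1 * w⁻¹ = x1⁻¹ ∧
      Nat.card (cen x1) = Fintype.card F + 1 ∧ Commute x0 x1 ∧
      ∀ v : Fin 2 → F, v ≠ 0 → ∀ c : F, x0.1 *ᵥ v ≠ c • v := by
  classical
  have hq : 2 ≤ Fintype.card F := Fintype.one_lt_card
  obtain ⟨τ, hτ⟩ := exists_nonsplit (F := F)
  obtain ⟨x0, h00, h01, h10, h11⟩ : ∃ x0 : SL2, x0.1 0 0 = 0 ∧ x0.1 0 1 = -1 ∧ x0.1 1 0 = 1 ∧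
      x0.1 1 1 = τ := ⟨mkSL 0 (-1) 1 τ (by ring), rfl, rfl, rfl, rfl⟩
  have htr0 : tr x0 = τ := by rw [tr_eq, h00, h11, zero_add]
  have hns : ∀ ρ : F, ρ ^ 2 + tr x0 * ρ + 1 ≠ 0 := by rw [htr0]; exact hτ
  have hx0c : x0 ∉ Subgroup.center SL2 :=
    (not_center_iff x0).mpr (Or.inl (by rw [h10]; exact one_ne_zero))
  have ht0 : tr x0 ^ 2 ≠ 4 := by
    rw [htr0]
    intro h
    have h1 : (τ - 2) * (τ + 2) = 0 := by linear_combination h
    rcases mul_eq_zero.mp h1 with h2 | h2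
    · apply hτ (-1)
      have h3 : τ = 2 := sub_eq_zero.mp h2
      rw [h3]; ring
    · apply hτ 1
      have h3 : τ = -2 := eq_neg_of_add_eq_zero_left h2
      rw [h3]; ring
  have hcard0 := card_cen_nonsplit p x0 hx0c ht0 hns
  obtain ⟨hcyc, -⟩ := torus_cyclic p hx0c ht0
  haveI := hcyc
  obtain ⟨g, hg⟩ := IsCyclic.exists_generator (α := cen x0)
  have hordg : orderOf g = Fintype.card F + 1 := by
    rw [orderOf_eq_card_of_forall_mem_zpowers hg, hcard0]
  have hord1 : orderOf (g : SL2) = Fintype.card F + 1 := by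
    rw [Subgroup.orderOf_coe, hordg]
  have hc : Commute (g : SL2) x0 := mem_cen.mp g.2
  have hx1c : (g : SL2) ∉ Subgroup.center SL2 := by
    intro h
    have h1 : (g : SL2) ^ 2 = 1 := by rw [pow_two]; exact center_sq _ h
    have h2 := orderOf_dvd_of_pow_eq_one h1
    rw [hord1] at h2
    have h3 := Nat.le_of_dvd (by norm_num) h2
    omega
  have ht1 : tr (g : SL2) ^ 2 ≠ 4 := tr_ne_of_comm x0 g hx0c ht0 hc hx1c
  have hcen : cen (g : SL2) = cen x0 := sl2_CA.cen_eq_of_commute hx1c hx0c hc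
  obtain ⟨w, hw⟩ := exists_inv_nonsplit p x0 hx0c ht0 hns
  refine ⟨x0, g, w, hx1c, ht1, hord1, inv_of_comm x0 g w hx0c hc hw, by rw [hcen, hcard0],
    hc.symm, ?_⟩
  intro v hv c h
  have e0 := congrFun h 0
  have e1 := congrFun h 1
  simp only [Matrix.mulVec, dotProduct, Fin.sum_univ_two, Pi.smul_apply, smul_eq_mul,
    h00, h01, h10, h11] at e0 e1
  have h3 : v 0 * ((-c) ^ 2 + τ * (-c) + 1) = 0 := by linear_combination e1 + (τ - c) * e0
  rcases mul_eq_zero.mp h3 with h4 | h4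
  · apply hv
    ext i
    fin_cases i
    · exact h4
    · show v 1 = 0
      linear_combination (-1 : F) * e0 - c * h4
  · exact hτ (-c) h4

end Cfsg.Agent.Helper41.Dk
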