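import Cfsg.Agent.Helper41.DkMat
import Cfsg.Agent.Helper41.SL2d

set_option autoImplicit false

/-!
# Dickson, part 5: the field case

A subgroup `H` of `SL₂(F)` (`F` finite) containing the transvection `Ux 1`, an element with
zero upper left entry, and satisfying the Bruhat decomposition `H = N ∪ U w N`
(`N` the upper triangular elements, `U` the upper unitriangular elements of `H`),
is `SL₂(K₀)` or `SL₂(K₀)⟨diag(λ, λ⁻¹)⟩` for a subfield `K₀`.
-/

namespace Cfsg.Agent.Helper41.Dk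

open Cfsg.Agent.Helper41 Matrix

variable {F : Type*} [Field F]

local notation "SL2" => Matrix.SpecialLinearGroup (Fin 2) F

theorem mul_e00 (g h : SL2) : (g * h).1 0 0 = g.1 0 0 * h.1 0 0 + g.1 0 1 * h.1 1 0 := by
  rw [Matrix.SpecialLinearGroup.coe_mul, Matrix.mul_apply, Fin.sum_univ_two]

theorem mul_e01 (g h : SL2) : (g * h).1 0 1 = g.1 0 0 * h.1 0 1 + g.1 0 1 * h.1 1 1 := by
  rw [Matrix.SpecialLinearGroup.coe_mul, Matrix.mul_apply, Fin.sum_univ_two]

theorem mul_e10 (g h : SL2) : (g * h).1 1 0 = g.1 1 0 * h.1 0 0 + g.1 1 1 * h.1 1 0 := by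
  rw [Matrix.SpecialLinearGroup.coe_mul, Matrix.mul_apply, Fin.sum_univ_two]

theorem mul_e11 (g h : SL2) : (g * h).1 1 1 = g.1 1 0 * h.1 0 1 + g.1 1 1 * h.1 1 1 := by
  rw [Matrix.SpecialLinearGroup.coe_mul, Matrix.mul_apply, Fin.sum_univ_two]

theorem mk_e00 (a b c d : F) (h : a * d - b * c = 1) : (mkSL a b c d h).1 0 0 = a := rfl
theorem mk_e01 (a b c d : F) (h : a * d - b * c = 1) : (mkSL a b c d h).1 0 1 = b := rfl
theorem mk_e10 (a b c d : F) (h : a * d - b * c = 1) : (mkSL a b c d h).1 1 0 = c := rfl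
theorem mk_e11 (a b c d : F) (h : a * d - b * c = 1) : (mkSL a b c d h).1 1 1 = d := rfl
theorem Ux_e00 (t : F) : (Ux t).1 0 0 = 1 := rfl
theorem Ux_e01 (t : F) : (Ux t).1 0 1 = t := rfl
theorem Ux_e10 (t : F) : (Ux t).1 1 0 = 0 := rfl
theorem Ux_e11 (t : F) : (Ux t).1 1 1 = 1 := rfl
theorem inv_e00 (x : SL2) : (x⁻¹).1 0 0 = x.1 1 1 := (inv_entries x).1
theorem inv_e01 (x : SL2) : (x⁻¹).1 0 1 = - x.1 0 1 := (inv_entries x).2.1
theorem inv_e10 (x : SL2) : (x⁻¹).1 1 0 = - x.1 1 0 := (inv_entries x).2.2.1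
theorem inv_e11 (x : SL2) : (x⁻¹).1 1 1 = x.1 0 0 := (inv_entries x).2.2.2

/-- all entries lie in the subfield. -/
def MemK (K0 : Subfield F) (M : Matrix (Fin 2) (Fin 2) F) : Prop := ∀ i j, M i j ∈ K0

theorem memK_iff (K0 : Subfield F) (M : Matrix (Fin 2) (Fin 2) F) :
    MemK K0 M ↔ M 0 0 ∈ K0 ∧ M 0 1 ∈ K0 ∧ M 1 0 ∈ K0 ∧ M 1 1 ∈ K0 := by
  constructor
  · intro h; exact ⟨h 0 0, h 0 1, h 1 0, h 1 1⟩
  · rintro ⟨h00, h01, h10, h11⟩ i j
    fin_cases i <;> fin_cases j <;> assumption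

theorem memK_mul (K0 : Subfield F) {M N : Matrix (Fin 2) (Fin 2) F} (hM : MemK K0 M)
    (hN : MemK K0 N) : MemK K0 (M * N) := by
  intro i j
  rw [Matrix.mul_apply]
  exact sum_mem (fun k _ => K0.mul_mem (hM i k) (hN k j))

/-- the lower unipotent element. -/
def Lx (s : F) : SL2 := mkSL 1 0 s 1 (by ring)

/-- two elements outside a finite subfield with squares inside have product inside. -/
theorem quad_mul_mem [Finite F] (K0 : Subfield F) {x y : F} (hx : x ∉ K0) (hy : y ∉ K0)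
    (hx2 : x ^ 2 ∈ K0) (hy2 : y ^ 2 ∈ K0) : x * y ∈ K0 := by
  classical
  haveI : Fintype K0 := Fintype.ofFinite _
  have hx0 : x ≠ 0 := fun h => hx (h ▸ K0.zero_mem)
  have hy0 : y ≠ 0 := fun h => hy (h ▸ K0.zero_mem)
  have hnsq : ∀ z : F, z ∉ K0 → ∀ hz2 : z ^ 2 ∈ K0, ¬ IsSquare (⟨z ^ 2, hz2⟩ : K0) := by
    intro z hz hz2 hsq
    obtain ⟨s, hs⟩ := hsq
    have h1 : z ^ 2 = (s : F) * s := by
      have := congrArg Subtype.val hs
      simpa using this
    have h2 : (z - s) * (z + s) = 0 := by linear_combination h1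
    rcases mul_eq_zero.mp h2 with h3 | h3
    · apply hz
      have : z = s := by linear_combination h3
      rw [this]; exact s.2
    · apply hz
      have : z = -s := by linear_combination h3
      rw [this]; exact K0.neg_mem s.2
  have h1 := quadraticChar_neg_one_iff_not_isSquare.mpr (hnsq x hx hx2)
  have h2 := quadraticChar_neg_one_iff_not_isSquare.mpr (hnsq y hy hy2)
  have h3 : quadraticChar K0 ((⟨x ^ 2, hx2⟩ : K0) * ⟨y ^ 2, hy2⟩) = 1 := by
    rw [map_mul, h1, h2]; norm_num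
  have hne : ((⟨x ^ 2, hx2⟩ : K0) * ⟨y ^ 2, hy2⟩) ≠ 0 := by
    intro h
    have := congrArg Subtype.val h
    simp at this
    rcases this with h | h
    · exact hx0 h
    · exact hy0 h
  obtain ⟨s, hs⟩ := (quadraticChar_one_iff_isSquare hne).mp h3
  have h4 : x ^ 2 * y ^ 2 = (s : F) * s := by
    have := congrArg Subtype.val hs
    simpa using this
  have h5 : (x * y - s) * (x * y + s) = 0 := by linear_combination h4
  rcases mul_eq_zero.mp h5 with h6 | h6
  · have : x * y = s := by linear_combination h6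
    rw [this]; exact s.2
  · have : x * y = -s := by linear_combination h6
    rw [this]; exact K0.neg_mem s.2

section fieldcase

variable [Fintype F] (p : ℕ) [Fact p.Prime] [CharP F p]

include p in
theorem field_case (H : Subgroup SL2) (hU : Ux 1 ∈ H) (hw : ∃ w ∈ H, w.1 0 0 = 0)
    (hBru : ∀ w ∈ H, ∀ h ∈ H, w.1 1 0 ≠ 0 → h.1 1 0 ≠ 0 →
      ∃ t : F, ∃ n ∈ H, Ux t ∈ H ∧ n.1 1 0 = 0 ∧ h = Ux t * w * n) :
    ∃ K0 : Subfield F, (∀ t : F, t ∈ K0 ↔ Ux t ∈ H) ∧ ((∀ g : SL2, g ∈ H ↔ MemK K0 g.1) ∨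
      (∃ lam : F, lam ∉ K0 ∧ lam ^ 2 ∈ K0 ∧
        ∀ g : SL2, g ∈ H ↔ (MemK K0 g.1 ∨ MemK K0 (lam • g.1)))) := by
  classical
  have hA0 : Ux (0 : F) ∈ H := by rw [Ux_zero]; exact one_mem _
  have hAadd : ∀ s t : F, Ux s ∈ H → Ux t ∈ H → Ux (s + t) ∈ H := by
    intro s t hs ht; rw [← Ux_mul]; exact mul_mem hs ht
  have hAneg : ∀ t : F, Ux t ∈ H → Ux (-t) ∈ H := by
    intro t ht; rw [← Ux_inv]; exact inv_mem ht
  have hAsub : ∀ s t : F, Ux s ∈ H → Ux t ∈ H → Ux (s - t) ∈ H := by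
    intro s t hs ht; rw [sub_eq_add_neg]; exact hAadd _ _ hs (hAneg _ ht)
  obtain ⟨w, hwH, hw0⟩ := hw
  have hwdet := sl2_det w
  rw [hw0] at hwdet
  have hwc : w.1 1 0 ≠ 0 := by
    intro h; rw [h] at hwdet; simp at hwdet
  -- (R1)
  have hR1a : ∀ h ∈ H, h.1 1 0 ≠ 0 → Ux (h.1 0 0 / h.1 1 0) ∈ H := by
    intro h hh hc
    obtain ⟨t, n, hnH, htH, hn0, heq⟩ := hBru w hwH h hh hwc hc
    have hndet := sl2_det n
    rw [hn0] at hndet
    have hna : n.1 0 0 ≠ 0 := by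
      intro h0; rw [h0] at hndet; simp at hndet
    have e1 : h.1 0 0 = t * w.1 1 0 * n.1 0 0 := by
      rw [heq]; simp only [mul_e00, mul_e01, mul_e10, mul_e11, mk_e00, mk_e01, mk_e10, mk_e11, Ux_e00, Ux_e01, Ux_e10, Ux_e11, inv_e00, inv_e01, inv_e10, inv_e11]; rw [hw0, hn0]; ring
    have e2 : h.1 1 0 = w.1 1 0 * n.1 0 0 := by
      rw [heq]; simp only [mul_e00, mul_e01, mul_e10, mul_e11, mk_e00, mk_e01, mk_e10, mk_e11, Ux_e00, Ux_e01, Ux_e10, Ux_e11, inv_e00, inv_e01, inv_e10, inv_e11]; rw [hn0]; ring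
    have e3 : h.1 0 0 / h.1 1 0 = t := by
      rw [e1, e2]; field_simp
    rw [e3]; exact htH
  have hR1d : ∀ h ∈ H, h.1 1 0 ≠ 0 → Ux (h.1 1 1 / h.1 1 0) ∈ H := by
    intro h hh hc
    have h1 := hR1a h⁻¹ (inv_mem hh) (by rw [inv_e10]; exact neg_ne_zero.mpr hc)
    rw [inv_e00, inv_e10] at h1
    have := hAneg _ h1
    have e : -(h.1 1 1 / -h.1 1 0) = h.1 1 1 / h.1 1 0 := by field_simp
    rwa [e] at this
  -- an antidiagonal element
  obtain ⟨w', hw'H, hw'a, hw'd⟩ : ∃ w' ∈ H, w'.1 0 0 = 0 ∧ w'.1 1 1 = 0 := by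
    refine ⟨w * Ux (-(w.1 1 1 / w.1 1 0)), mul_mem hwH (hAneg _ (hR1d w hwH hwc)), ?_, ?_⟩
    · simp only [mul_e00, mul_e01, mul_e10, mul_e11, mk_e00, mk_e01, mk_e10, mk_e11, Ux_e00, Ux_e01, Ux_e10, Ux_e11, inv_e00, inv_e01, inv_e10, inv_e11]; rw [hw0]; ring
    · simp only [mul_e00, mul_e01, mul_e10, mul_e11, mk_e00, mk_e01, mk_e10, mk_e11, Ux_e00, Ux_e01, Ux_e10, Ux_e11, inv_e00, inv_e01, inv_e10, inv_e11]; field_simp; ring
  have hw'det := sl2_det w'
  rw [hw'a, hw'd] at hw'det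
  obtain ⟨c, hc⟩ : ∃ c : F, c = w'.1 1 0 := ⟨_, rfl⟩
  obtain ⟨b, hb⟩ : ∃ b : F, b = w'.1 0 1 := ⟨_, rfl⟩
  rw [← hc, ← hb] at hw'det
  have hbc : b * c = -1 := by linear_combination (-1 : F) * hw'det
  have hc0 : c ≠ 0 := by
    intro h; rw [h, mul_zero] at hbc
    exact absurd hbc (by simp)
  -- lower unipotents
  have hL : ∀ t : F, Ux t ∈ H → Lx (-(c ^ 2 * t)) ∈ H := by
    intro t ht
    have e : Lx (-(c ^ 2 * t)) = w' * Ux t * w'⁻¹ := by
      apply sl_ext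
      · simp only [Lx, mul_e00, mul_e01, mul_e10, mul_e11, mk_e00, mk_e01, mk_e10, mk_e11, Ux_e00, Ux_e01, Ux_e10, Ux_e11, inv_e00, inv_e01, inv_e10, inv_e11, hw'a, hw'd, ← hc, ← hb]; linear_combination hbc
      · simp only [Lx, mul_e00, mul_e01, mul_e10, mul_e11, mk_e00, mk_e01, mk_e10, mk_e11, Ux_e00, Ux_e01, Ux_e10, Ux_e11, inv_e00, inv_e01, inv_e10, inv_e11, hw'a, hw'd, ← hc, ← hb]; ring
      · simp only [Lx, mul_e00, mul_e01, mul_e10, mul_e11, mk_e00, mk_e01, mk_e10, mk_e11, Ux_e00, Ux_e01, Ux_e10, Ux_e11, inv_e00, inv_e01, inv_e10, inv_e11, hw'a, hw'd, ← hc, ← hb]; ring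
      · simp only [Lx, mul_e00, mul_e01, mul_e10, mul_e11, mk_e00, mk_e01, mk_e10, mk_e11, Ux_e00, Ux_e01, Ux_e10, Ux_e11, inv_e00, inv_e01, inv_e10, inv_e11, hw'a, hw'd, ← hc, ← hb]; linear_combination hbc
    rw [e]; exact mul_mem (mul_mem hw'H ht) (inv_mem hw'H)
  have hR2 : ∀ t : F, Ux t ∈ H → t ≠ 0 → Ux ((c ^ 2 * t)⁻¹) ∈ H := by
    intro t ht ht0
    have hne : -(c ^ 2 * t) ≠ 0 := neg_ne_zero.mpr (mul_ne_zero (pow_ne_zero 2 hc0) ht0)
    have h1 := hR1a _ (hL t ht) (by simp only [Lx, mk_e10]; exact hne)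
    simp only [Lx, mk_e00, mk_e10] at h1
    have := hAneg _ h1
    have e : -(1 / -(c ^ 2 * t)) = (c ^ 2 * t)⁻¹ := by field_simp
    rwa [e] at this
  have hγ : Ux ((c ^ 2)⁻¹) ∈ H := by
    have := hR2 1 hU one_ne_zero
    rwa [mul_one] at this
  -- the elements n(t)
  have hn : ∀ t : F, Ux t ∈ H → ∀ ht0 : t ≠ 0,
      mkSL 0 t (-t⁻¹) 0 (by rw [mul_neg, mul_inv_cancel₀ ht0]; ring) ∈ H := by
    intro t ht ht0
    have h1 : Lx (-t⁻¹) ∈ H := by
      have := hL _ (hR2 t ht ht0)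
      have e : -(c ^ 2 * (c ^ 2 * t)⁻¹) = -t⁻¹ := by field_simp
      rwa [e] at this
    have e : mkSL 0 t (-t⁻¹) 0 (by rw [mul_neg, mul_inv_cancel₀ ht0]; ring) =
        Ux t * Lx (-t⁻¹) * Ux t := by
      apply sl_ext
      · simp only [Lx, mul_e00, mul_e01, mul_e10, mul_e11, mk_e00, mk_e01, mk_e10, mk_e11, Ux_e00, Ux_e01, Ux_e10, Ux_e11, inv_e00, inv_e01, inv_e10, inv_e11]; field_simp; ring
      · simp only [Lx, mul_e00, mul_e01, mul_e10, mul_e11, mk_e00, mk_e01, mk_e10, mk_e11, Ux_e00, Ux_e01, Ux_e10, Ux_e11, inv_e00, inv_e01, inv_e10, inv_e11]; field_simp; ring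
      · simp only [Lx, mul_e00, mul_e01, mul_e10, mul_e11, mk_e00, mk_e01, mk_e10, mk_e11, Ux_e00, Ux_e01, Ux_e10, Ux_e11, inv_e00, inv_e01, inv_e10, inv_e11]; ring
      · simp only [Lx, mul_e00, mul_e01, mul_e10, mul_e11, mk_e00, mk_e01, mk_e10, mk_e11, Ux_e00, Ux_e01, Ux_e10, Ux_e11, inv_e00, inv_e01, inv_e10, inv_e11]; field_simp; ring
    rw [e]; exact mul_mem (mul_mem ht h1) ht
  have hn1 : mkSL (0 : F) 1 (-1) 0 (by ring) ∈ H := by
    have h1 := hn 1 hU one_ne_zero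
    have e : mkSL (0 : F) 1 (-1) 0 (by ring) =
        mkSL 0 1 (-(1 : F)⁻¹) 0 (by rw [mul_neg, mul_inv_cancel₀ one_ne_zero]; ring) := by
      apply sl_ext <;> simp only [mk_e00, mk_e01, mk_e10, mk_e11, inv_one]
    rw [e]; exact h1
  have hdiag : ∀ t : F, Ux t ∈ H → ∀ ht0 : t ≠ 0,
      mkSL t 0 0 t⁻¹ (by rw [mul_inv_cancel₀ ht0]; ring) ∈ H := by
    intro t ht ht0
    have e : mkSL t 0 0 t⁻¹ (by rw [mul_inv_cancel₀ ht0]; ring) =
        mkSL 0 t (-t⁻¹) 0 (by rw [mul_neg, mul_inv_cancel₀ ht0]; ring) *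
          (mkSL (0 : F) 1 (-1) 0 (by ring))⁻¹ := by
      apply sl_ext
      · simp only [mul_e00, mul_e01, mul_e10, mul_e11, mk_e00, mk_e01, mk_e10, mk_e11, Ux_e00, Ux_e01, Ux_e10, Ux_e11, inv_e00, inv_e01, inv_e10, inv_e11]; ring
      · simp only [mul_e00, mul_e01, mul_e10, mul_e11, mk_e00, mk_e01, mk_e10, mk_e11, Ux_e00, Ux_e01, Ux_e10, Ux_e11, inv_e00, inv_e01, inv_e10, inv_e11]; ring
      · simp only [mul_e00, mul_e01, mul_e10, mul_e11, mk_e00, mk_e01, mk_e10, mk_e11, Ux_e00, Ux_e01, Ux_e10, Ux_e11, inv_e00, inv_e01, inv_e10, inv_e11]; ring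
      · simp only [mul_e00, mul_e01, mul_e10, mul_e11, mk_e00, mk_e01, mk_e10, mk_e11, Ux_e00, Ux_e01, Ux_e10, Ux_e11, inv_e00, inv_e01, inv_e10, inv_e11]; ring
    rw [e]; exact mul_mem (hn t ht ht0) (inv_mem hn1)
  have hsq : ∀ t t' : F, Ux t ∈ H → Ux t' ∈ H → Ux (t ^ 2 * t') ∈ H := by
    intro t t' ht ht'
    by_cases ht0 : t = 0
    · rw [ht0]; simpa using hA0
    · have e : Ux (t ^ 2 * t') = mkSL t 0 0 t⁻¹ (by rw [mul_inv_cancel₀ ht0]; ring) * Ux t' *
          (mkSL t 0 0 t⁻¹ (by rw [mul_inv_cancel₀ ht0]; ring))⁻¹ := by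
        apply sl_ext
        · simp only [mul_e00, mul_e01, mul_e10, mul_e11, mk_e00, mk_e01, mk_e10, mk_e11, Ux_e00, Ux_e01, Ux_e10, Ux_e11, inv_e00, inv_e01, inv_e10, inv_e11]; field_simp; ring
        · simp only [mul_e00, mul_e01, mul_e10, mul_e11, mk_e00, mk_e01, mk_e10, mk_e11, Ux_e00, Ux_e01, Ux_e10, Ux_e11, inv_e00, inv_e01, inv_e10, inv_e11]; ring
        · simp only [mul_e00, mul_e01, mul_e10, mul_e11, mk_e00, mk_e01, mk_e10, mk_e11, Ux_e00, Ux_e01, Ux_e10, Ux_e11, inv_e00, inv_e01, inv_e10, inv_e11]; ring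
        · simp only [mul_e00, mul_e01, mul_e10, mul_e11, mk_e00, mk_e01, mk_e10, mk_e11, Ux_e00, Ux_e01, Ux_e10, Ux_e11, inv_e00, inv_e01, inv_e10, inv_e11]; field_simp; ring
      rw [e]; exact mul_mem (mul_mem (hdiag t ht ht0) ht') (inv_mem (hdiag t ht ht0))
  have hmul : ∀ t t' : F, Ux t ∈ H → Ux t' ∈ H → Ux (t * t') ∈ H := by
    intro t t' ht ht'
    rcases (Fact.out : p.Prime).eq_two_or_odd' with hp2 | hpodd
    · have hpow : ∀ k : ℕ, Ux ((t ^ 2) ^ k * t') ∈ H := by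
        intro k
        induction k with
        | zero => simpa using ht'
        | succ k ih =>
          have := hsq t _ ht ih
          have e : t ^ 2 * ((t ^ 2) ^ k * t') = (t ^ 2) ^ (k + 1) * t' := by ring
          rwa [e] at this
      obtain ⟨n, _, hn⟩ := FiniteField.card F p
      have hq : Fintype.card F = 2 * 2 ^ ((n : ℕ) - 1) := by
        rw [hn, hp2]
        have := n.pos
        conv_lhs => rw [show (n : ℕ) = ((n : ℕ) - 1) + 1 by omega]
        rw [pow_succ]; ring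
      have := hpow (2 ^ ((n : ℕ) - 1))
      have e : (t ^ 2) ^ (2 ^ ((n : ℕ) - 1)) = t := by
        rw [← pow_mul, ← hq, FiniteField.pow_card]
      rwa [e] at this
    · have h2 : (2 : F) ≠ 0 := by
        intro h
        have h3 : ((2 : ℕ) : F) = 0 := by exact_mod_cast h
        rw [CharP.cast_eq_zero_iff F p] at h3
        have h4 := Nat.le_of_dvd (by norm_num) h3
        have h5 := (Fact.out : p.Prime).two_le
        have h6 : p = 2 := by omega
        rw [h6] at hpodd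
        exact absurd hpodd (by decide)
      have hhalf : ∀ x : F, Ux x ∈ H → Ux (x / 2) ∈ H := by
        intro x hx
        have := pow_mem hx ((p + 1) / 2)
        rw [Ux_pow] at this
        have e : (((p + 1) / 2 : ℕ) : F) * x = x / 2 := by
          have h3 : (2 : F) * (((p + 1) / 2 : ℕ) : F) = 1 := by
            have h4 : 2 * ((p + 1) / 2) = p + 1 := by obtain ⟨k, hk⟩ := hpodd; omega
            have h5 : ((2 * ((p + 1) / 2) : ℕ) : F) = ((p + 1 : ℕ) : F) := by rw [h4]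
            push_cast at h5
            rw [CharP.cast_eq_zero F p] at h5
            linear_combination h5
          field_simp
          linear_combination x * h3
        rwa [e] at this
      have h1 := hsq (t + t') 1 (hAadd _ _ ht ht') hU
      have h2' := hsq t 1 ht hU
      have h3 := hsq t' 1 ht' hU
      have h4 := hhalf _ (hAsub _ _ (hAsub _ _ h1 h2') h3)
      have e : ((t + t') ^ 2 * 1 - t ^ 2 * 1 - t' ^ 2 * 1) / 2 = t * t' := by field_simp; ring
      rwa [e] at h4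
  have hpowmem : ∀ t : F, Ux t ∈ H → ∀ k : ℕ, Ux (t ^ k) ∈ H := by
    intro t ht k
    induction k with
    | zero => simpa using hU
    | succ k ih => rw [pow_succ]; exact hmul _ _ ih ht
  have hinv : ∀ t : F, Ux t ∈ H → Ux t⁻¹ ∈ H := by
    intro t ht
    by_cases ht0 : t = 0
    · rw [ht0, _root_.inv_zero]; exact hA0
    · have h1 := FiniteField.pow_card_sub_one_eq_one t ht0
      have h2 : 2 ≤ Fintype.card F := Fintype.one_lt_card
      have h3 : t⁻¹ = t ^ (Fintype.card F - 2) := by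
        apply inv_eq_of_mul_eq_one_right
        rw [← pow_succ']
        rw [show Fintype.card F - 2 + 1 = Fintype.card F - 1 by omega]
        exact h1
      rw [h3]; exact hpowmem t ht _
  let K0 : Subfield F :=
    { carrier := {t | Ux t ∈ H}
      mul_mem' := fun {a b} ha hb => hmul a b ha hb
      one_mem' := hU
      add_mem' := fun {a b} ha hb => hAadd a b ha hb
      zero_mem' := hA0
      neg_mem' := fun {a} ha => hAneg a ha
      inv_mem' := fun a ha => hinv a ha }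
  have hK0 : ∀ t : F, t ∈ K0 ↔ Ux t ∈ H := fun t => Iff.rfl
  refine ⟨K0, hK0, ?_⟩
  have hc2 : c ^ 2 ∈ K0 := by
    have : ((c ^ 2)⁻¹)⁻¹ ∈ K0 := K0.inv_mem ((hK0 _).mpr hγ)
    rwa [inv_inv] at this
  have hLK : ∀ s ∈ K0, Lx s ∈ H := by
    intro s hs
    have h1 : -(s / c ^ 2) ∈ K0 := K0.neg_mem (K0.div_mem hs hc2)
    have := hL _ ((hK0 _).mp h1)
    have e : -(c ^ 2 * -(s / c ^ 2)) = s := by field_simp
    rwa [e] at this
  have hsub : ∀ g : SL2, MemK K0 g.1 → g ∈ H := by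
    intro g hg
    rw [memK_iff] at hg
    obtain ⟨ga, gb, gc, gd⟩ := hg
    have hdet := sl2_det g
    by_cases hgc : g.1 1 0 = 0
    · rw [hgc] at hdet
      have ha0 : g.1 0 0 ≠ 0 := by intro h; rw [h] at hdet; simp at hdet
      have e : g = mkSL (g.1 0 0) 0 0 (g.1 0 0)⁻¹ (by rw [mul_inv_cancel₀ ha0]; ring) *
          Ux (g.1 0 1 / g.1 0 0) := by
        apply sl_ext
        · simp only [mul_e00, mul_e01, mul_e10, mul_e11, mk_e00, mk_e01, mk_e10, mk_e11, Ux_e00, Ux_e01, Ux_e10, Ux_e11, inv_e00, inv_e01, inv_e10, inv_e11]; ring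
        · simp only [mul_e00, mul_e01, mul_e10, mul_e11, mk_e00, mk_e01, mk_e10, mk_e11, Ux_e00, Ux_e01, Ux_e10, Ux_e11, inv_e00, inv_e01, inv_e10, inv_e11]; field_simp; ring
        · simp only [mul_e00, mul_e01, mul_e10, mul_e11, mk_e00, mk_e01, mk_e10, mk_e11, Ux_e00, Ux_e01, Ux_e10, Ux_e11, inv_e00, inv_e01, inv_e10, inv_e11]; rw [hgc]; ring
        · simp only [mul_e00, mul_e01, mul_e10, mul_e11, mk_e00, mk_e01, mk_e10, mk_e11, Ux_e00, Ux_e01, Ux_e10, Ux_e11, inv_e00, inv_e01, inv_e10, inv_e11]; field_simp; linear_combination hdet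
      rw [e]
      exact mul_mem (hdiag _ ((hK0 _).mp ga) ha0) ((hK0 _).mp (K0.div_mem gb ga))
    · have e : g = Ux ((g.1 0 0 - 1) / g.1 1 0) * Lx (g.1 1 0) * Ux ((g.1 1 1 - 1) / g.1 1 0) := by
        apply sl_ext
        · simp only [Lx, mul_e00, mul_e01, mul_e10, mul_e11, mk_e00, mk_e01, mk_e10, mk_e11, Ux_e00, Ux_e01, Ux_e10, Ux_e11, inv_e00, inv_e01, inv_e10, inv_e11]; field_simp; ring
        · simp only [Lx, mul_e00, mul_e01, mul_e10, mul_e11, mk_e00, mk_e01, mk_e10, mk_e11, Ux_e00, Ux_e01, Ux_e10, Ux_e11, inv_e00, inv_e01, inv_e10, inv_e11]; field_simp; linear_combination (-1 : F) * hdet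
        · simp only [Lx, mul_e00, mul_e01, mul_e10, mul_e11, mk_e00, mk_e01, mk_e10, mk_e11, Ux_e00, Ux_e01, Ux_e10, Ux_e11, inv_e00, inv_e01, inv_e10, inv_e11]; ring
        · simp only [Lx, mul_e00, mul_e01, mul_e10, mul_e11, mk_e00, mk_e01, mk_e10, mk_e11, Ux_e00, Ux_e01, Ux_e10, Ux_e11, inv_e00, inv_e01, inv_e10, inv_e11]; field_simp; ring
      rw [e]
      exact mul_mem (mul_mem ((hK0 _).mp (K0.div_mem (K0.sub_mem ga K0.one_mem) gc)) (hLK _ gc))
        ((hK0 _).mp (K0.div_mem (K0.sub_mem gd K0.one_mem) gc))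
  -- upper triangular elements
  have hup : ∀ g ∈ H, ∀ hg0 : g.1 1 0 = 0, g.1 0 1 / g.1 0 0 ∈ K0 ∧
      mkSL (g.1 0 0) 0 0 (g.1 1 1)
        (by have := sl2_det g; rw [hg0] at this; linear_combination this) ∈ H := by
    intro g hg hg0
    have hdet := sl2_det g
    rw [hg0] at hdet
    have ha0 : g.1 0 0 ≠ 0 := by intro h; rw [h] at hdet; simp at hdet
    have h1 := hR1d (mkSL (0 : F) 1 (-1) 0 (by ring) * g) (mul_mem hn1 hg)
      (by simp only [mul_e00, mul_e01, mul_e10, mul_e11, mk_e00, mk_e01, mk_e10, mk_e11, Ux_e00, Ux_e01, Ux_e10, Ux_e11, inv_e00, inv_e01, inv_e10, inv_e11]; rw [hg0]; simpa using ha0)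
    simp only [mul_e00, mul_e01, mul_e10, mul_e11, mk_e00, mk_e01, mk_e10, mk_e11, Ux_e00, Ux_e01, Ux_e10, Ux_e11, inv_e00, inv_e01, inv_e10, inv_e11] at h1
    have e1 : (-1 * g.1 0 1 + 0 * g.1 1 1) / (-1 * g.1 0 0 + 0 * g.1 1 0) = g.1 0 1 / g.1 0 0 := by
      have h2 : (-1 * g.1 0 0 + 0 * g.1 1 0) = -g.1 0 0 := by ring
      have h3 : (-1 * g.1 0 1 + 0 * g.1 1 1) = -g.1 0 1 := by ring
      rw [h2, h3, neg_div_neg_eq]
    rw [e1] at h1
    refine ⟨(hK0 _).mpr h1, ?_⟩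
    have e : mkSL (g.1 0 0) 0 0 (g.1 1 1)
        (by have := sl2_det g; rw [hg0] at this; linear_combination this) =
        g * Ux (-(g.1 0 1 / g.1 0 0)) := by
      apply sl_ext
      · simp only [mul_e00, mul_e01, mul_e10, mul_e11, mk_e00, mk_e01, mk_e10, mk_e11, Ux_e00, Ux_e01, Ux_e10, Ux_e11, inv_e00, inv_e01, inv_e10, inv_e11]; ring
      · simp only [mul_e00, mul_e01, mul_e10, mul_e11, mk_e00, mk_e01, mk_e10, mk_e11, Ux_e00, Ux_e01, Ux_e10, Ux_e11, inv_e00, inv_e01, inv_e10, inv_e11]; field_simp; ring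
      · simp only [mul_e00, mul_e01, mul_e10, mul_e11, mk_e00, mk_e01, mk_e10, mk_e11, Ux_e00, Ux_e01, Ux_e10, Ux_e11, inv_e00, inv_e01, inv_e10, inv_e11]; rw [hg0]; ring
      · simp only [mul_e00, mul_e01, mul_e10, mul_e11, mk_e00, mk_e01, mk_e10, mk_e11, Ux_e00, Ux_e01, Ux_e10, Ux_e11, inv_e00, inv_e01, inv_e10, inv_e11]; rw [hg0]; ring
    rw [e]; exact mul_mem hg (hAneg _ h1)
  have hup2 : ∀ g ∈ H, g.1 1 0 = 0 → g.1 0 0 ^ 2 ∈ K0 := by
    intro g hg hg0
    have hdet := sl2_det g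
    rw [hg0] at hdet
    have hD := (hup g hg hg0).2
    rw [hK0]
    have e : Ux (g.1 0 0 ^ 2) = mkSL (g.1 0 0) 0 0 (g.1 1 1)
        (by have := sl2_det g; rw [hg0] at this; linear_combination this) * Ux 1 *
        (mkSL (g.1 0 0) 0 0 (g.1 1 1)
        (by have := sl2_det g; rw [hg0] at this; linear_combination this))⁻¹ := by
      apply sl_ext
      · simp only [mul_e00, mul_e01, mul_e10, mul_e11, mk_e00, mk_e01, mk_e10, mk_e11, Ux_e00, Ux_e01, Ux_e10, Ux_e11, inv_e00, inv_e01, inv_e10, inv_e11]; linear_combination (-1 : F) * hdet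
      · simp only [mul_e00, mul_e01, mul_e10, mul_e11, mk_e00, mk_e01, mk_e10, mk_e11, Ux_e00, Ux_e01, Ux_e10, Ux_e11, inv_e00, inv_e01, inv_e10, inv_e11]; ring
      · simp only [mul_e00, mul_e01, mul_e10, mul_e11, mk_e00, mk_e01, mk_e10, mk_e11, Ux_e00, Ux_e01, Ux_e10, Ux_e11, inv_e00, inv_e01, inv_e10, inv_e11]; ring
      · simp only [mul_e00, mul_e01, mul_e10, mul_e11, mk_e00, mk_e01, mk_e10, mk_e11, Ux_e00, Ux_e01, Ux_e10, Ux_e11, inv_e00, inv_e01, inv_e10, inv_e11]; linear_combination (-1 : F) * hdet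
    rw [e]; exact mul_mem (mul_mem hD hU) (inv_mem hD)
  have hU1 : ∀ g ∈ H, g.1 1 0 = 0 → g.1 0 0 ∈ K0 → MemK K0 g.1 := by
    intro g hg hg0 hga
    have hdet := sl2_det g
    rw [hg0] at hdet
    have ha0 : g.1 0 0 ≠ 0 := by intro h; rw [h] at hdet; simp at hdet
    rw [memK_iff]
    refine ⟨hga, ?_, ?_, ?_⟩
    · have := K0.mul_mem hga (hup g hg hg0).1
      have e : g.1 0 0 * (g.1 0 1 / g.1 0 0) = g.1 0 1 := by field_simp
      rwa [e] at this
    · rw [hg0]; exact K0.zero_mem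
    · have := K0.inv_mem hga
      have e : (g.1 0 0)⁻¹ = g.1 1 1 := by
        apply inv_eq_of_mul_eq_one_right
        linear_combination hdet
      rwa [e] at this
  have hn1K : MemK K0 (mkSL (0 : F) 1 (-1) 0 (by ring)).1 := by
    rw [memK_iff]
    refine ⟨K0.zero_mem, K0.one_mem, K0.neg_mem K0.one_mem, K0.zero_mem⟩
  have hUxK : ∀ t ∈ K0, MemK K0 (Ux t).1 := by
    intro t ht
    rw [memK_iff]
    exact ⟨K0.one_mem, ht, K0.zero_mem, K0.one_mem⟩
  have hgen : ∀ g ∈ H, g.1 1 0 ≠ 0 → ∃ t ∈ K0, ∃ n ∈ H, n.1 1 0 = 0 ∧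
      g = Ux t * mkSL (0 : F) 1 (-1) 0 (by ring) * n := by
    intro g hg hgc
    obtain ⟨t, n, hnH, htH, hn0, heq⟩ := hBru _ hn1 g hg
      (by simp only [mk_e10]; exact neg_ne_zero.mpr one_ne_zero) hgc
    exact ⟨t, (hK0 t).mpr htH, n, hnH, hn0, heq⟩
  by_cases hD : ∀ g ∈ H, g.1 1 0 = 0 → g.1 0 0 ∈ K0
  · left
    intro g
    constructor
    · intro hg
      by_cases hgc : g.1 1 0 = 0
      · exact hU1 g hg hgc (hD g hg hgc)
      · obtain ⟨t, ht, n, hnH, hn0, heq⟩ := hgen g hg hgc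
        rw [heq, Matrix.SpecialLinearGroup.coe_mul, Matrix.SpecialLinearGroup.coe_mul]
        exact memK_mul K0 (memK_mul K0 (hUxK t ht) hn1K) (hU1 n hnH hn0 (hD n hnH hn0))
    · exact hsub g
  · right
    push Not at hD
    obtain ⟨g0, hg0H, hg0c, hg0a⟩ := hD
    obtain ⟨lam, hlam⟩ : ∃ lam : F, lam = g0.1 0 0 := ⟨_, rfl⟩
    obtain ⟨dl, hdl⟩ : ∃ dl : F, dl = g0.1 1 1 := ⟨_, rfl⟩
    have hg0det := sl2_det g0
    rw [hg0c, ← hlam, ← hdl] at hg0det
    have hld : lam * dl = 1 := by linear_combination hg0det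
    have hlam0 : lam ≠ 0 := by intro h; rw [h] at hld; simp at hld
    have hlamK : lam ∉ K0 := by rw [hlam]; exact hg0a
    have hlam2 : lam ^ 2 ∈ K0 := by rw [hlam]; exact hup2 g0 hg0H hg0c
    have hdl2 : dl ^ 2 ∈ K0 := by
      have := K0.inv_mem hlam2
      have e : (lam ^ 2)⁻¹ = dl ^ 2 := by
        apply inv_eq_of_mul_eq_one_right
        linear_combination (lam * dl + 1) * hld
      rwa [e] at this
    have hD0 : mkSL lam 0 0 dl (by linear_combination hld) ∈ H := by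
      have := (hup g0 hg0H hg0c).2
      have e : mkSL lam 0 0 dl (by linear_combination hld) = mkSL (g0.1 0 0) 0 0 (g0.1 1 1)
          (by have := sl2_det g0; rw [hg0c] at this; linear_combination this) := by
        apply sl_ext <;> simp only [mk_e00, mk_e01, mk_e10, mk_e11, hlam, hdl]
      rw [e]; exact this
    have hU2 : ∀ g ∈ H, g.1 1 0 = 0 → g.1 0 0 ∉ K0 → MemK K0 (lam • g.1) := by
      intro g hg hg0 hga
      have hdet := sl2_det g
      rw [hg0] at hdet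
      have ha0 : g.1 0 0 ≠ 0 := by intro h; rw [h] at hdet; simp at hdet
      have hla : lam * g.1 0 0 ∈ K0 := quad_mul_mem K0 hlamK hga hlam2 (hup2 g hg hg0)
      rw [memK_iff]
      simp only [Matrix.smul_apply, smul_eq_mul]
      refine ⟨hla, ?_, ?_, ?_⟩
      · have := K0.mul_mem hla (hup g hg hg0).1
        have e : lam * g.1 0 0 * (g.1 0 1 / g.1 0 0) = lam * g.1 0 1 := by field_simp
        rwa [e] at this
      · rw [hg0, mul_zero]; exact K0.zero_mem
      · have := K0.div_mem hla (hup2 g hg hg0)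
        have e : lam * g.1 0 0 / g.1 0 0 ^ 2 = lam * g.1 1 1 := by
          field_simp
          linear_combination (-1 : F) * hdet
        rwa [e] at this
    refine ⟨lam, hlamK, hlam2, ?_⟩
    intro g
    constructor
    · intro hg
      by_cases hgc : g.1 1 0 = 0
      · by_cases hga : g.1 0 0 ∈ K0
        · exact Or.inl (hU1 g hg hgc hga)
        · exact Or.inr (hU2 g hg hgc hga)
      · obtain ⟨t, ht, n, hnH, hn0, heq⟩ := hgen g hg hgc
        by_cases hna : n.1 0 0 ∈ K0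
        · left
          rw [heq, Matrix.SpecialLinearGroup.coe_mul, Matrix.SpecialLinearGroup.coe_mul]
          exact memK_mul K0 (memK_mul K0 (hUxK t ht) hn1K) (hU1 n hnH hn0 hna)
        · right
          rw [heq, Matrix.SpecialLinearGroup.coe_mul, Matrix.SpecialLinearGroup.coe_mul,
            ← Matrix.mul_smul]
          exact memK_mul K0 (memK_mul K0 (hUxK t ht) hn1K) (hU2 n hnH hn0 hna)
    · rintro (hg | hg)
      · exact hsub g hg
      · rw [memK_iff] at hg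
        simp only [Matrix.smul_apply, smul_eq_mul] at hg
        obtain ⟨ga, gb, gc, gd⟩ := hg
        have h1 : g * (mkSL lam 0 0 dl (by linear_combination hld))⁻¹ ∈ H := by
          apply hsub
          rw [memK_iff]
          simp only [mul_e00, mul_e01, mul_e10, mul_e11, mk_e00, mk_e01, mk_e10, mk_e11, Ux_e00, Ux_e01, Ux_e10, Ux_e11, inv_e00, inv_e01, inv_e10, inv_e11]
          refine ⟨?_, ?_, ?_, ?_⟩
          · have := K0.mul_mem ga hdl2
            have e : lam * g.1 0 0 * dl ^ 2 = g.1 0 0 * dl + g.1 0 1 * -0 := by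
              linear_combination (g.1 0 0 * dl) * hld
            rwa [e] at this
          · have e : g.1 0 0 * -0 + g.1 0 1 * lam = lam * g.1 0 1 := by ring
            rw [e]; exact gb
          · have := K0.mul_mem gc hdl2
            have e : lam * g.1 1 0 * dl ^ 2 = g.1 1 0 * dl + g.1 1 1 * -0 := by
              linear_combination (g.1 1 0 * dl) * hld
            rwa [e] at this
          · have e : g.1 1 0 * -0 + g.1 1 1 * lam = lam * g.1 1 1 := by ring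
            rw [e]; exact gd
        have := mul_mem h1 hD0
        rwa [inv_mul_cancel_right] at this

end fieldcase

end Cfsg.Agent.Helper41.Dk
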