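import Mathlib

set_option autoImplicit false

/-!
# Dickson, part 2: the arithmetic of the class equation
-/

namespace Cfsg.Agent.Helper41.Dk

theorem num_three_sorted (G i1 i2 i3 a3 : ℕ) (h1 : G = i1 * 2) (h2 : G = i2 * 3)
    (h3 : G = i3 * a3) (hsum : i1 + i2 + i3 = G + 1) (ha3 : 2 ≤ a3) :
    (a3 = 3 ∧ G = 6) ∨ (a3 = 4 ∧ G = 12) ∨ (a3 = 5 ∧ G = 30) := by
  obtain ⟨k, hk⟩ : ∃ k, i2 = 2 * k := ⟨i2 / 2, by omega⟩
  have hi1 : i1 = 3 * k := by omega
  have hG : G = 6 * k := by omega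
  have hi3 : i3 = k + 1 := by omega
  subst hi3
  have hlt : a3 < 6 := by
    by_contra hge
    push Not at hge
    have : (k + 1) * 6 ≤ (k + 1) * a3 := Nat.mul_le_mul_left _ hge
    omega
  interval_cases a3 <;> omega

/-- the solutions `(2,3,3)`, `(2,3,4)`, `(2,3,5)`. -/
def Sol (G a1 a2 a3 : ℕ) : Prop :=
  a1 = 2 ∧ a2 = 3 ∧ ((a3 = 3 ∧ G = 6) ∨ (a3 = 4 ∧ G = 12) ∨ (a3 = 5 ∧ G = 30))

theorem num_three_aux (G i1 i2 i3 a2 a3 : ℕ) (h1 : G = i1 * 2) (h2 : G = i2 * a2)
    (h3 : G = i3 * a3) (hsum : i1 + i2 + i3 = G + 1) (ha2 : 2 ≤ a2) (ha3 : 2 ≤ a3)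
    (hi2 : 2 ≤ i2) (hi3 : 2 ≤ i3) : Sol G 2 a2 a3 ∨ Sol G 2 a3 a2 := by
  have h2' : a2 ≠ 2 := by rintro rfl; omega
  have h3' : a3 ≠ 2 := by rintro rfl; omega
  by_cases h23 : a2 = 3
  · subst h23
    left
    exact ⟨rfl, rfl, num_three_sorted G i1 i2 i3 a3 h1 h2 h3 hsum ha3⟩
  · by_cases h33 : a3 = 3
    · subst h33
      right
      exact ⟨rfl, rfl, num_three_sorted G i1 i3 i2 a2 h1 h3 h2 (by omega) ha2⟩
    · exfalso
      have k2 : i2 * 4 ≤ i2 * a2 := Nat.mul_le_mul_left _ (by omega)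
      have k3 : i3 * 4 ≤ i3 * a3 := Nat.mul_le_mul_left _ (by omega)
      omega

theorem num_three (G i1 i2 i3 a1 a2 a3 : ℕ) (h1 : G = i1 * a1) (h2 : G = i2 * a2)
    (h3 : G = i3 * a3) (hsum : i1 + i2 + i3 = G + 1) (ha1 : 2 ≤ a1) (ha2 : 2 ≤ a2)
    (ha3 : 2 ≤ a3) (hi1 : 2 ≤ i1) (hi2 : 2 ≤ i2) (hi3 : 2 ≤ i3) :
    Sol G a1 a2 a3 ∨ Sol G a1 a3 a2 ∨ Sol G a2 a1 a3 ∨ Sol G a2 a3 a1 ∨ Sol G a3 a1 a2 ∨
      Sol G a3 a2 a1 := by
  by_cases e1 : a1 = 2
  · subst e1
    rcases num_three_aux G i1 i2 i3 a2 a3 h1 h2 h3 hsum ha2 ha3 hi2 hi3 with h | h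
    · exact Or.inl h
    · exact Or.inr (Or.inl h)
  · by_cases e2 : a2 = 2
    · subst e2
      rcases num_three_aux G i2 i1 i3 a1 a3 h2 h1 h3 (by omega) ha1 ha3 hi1 hi3 with h | h
      · exact Or.inr (Or.inr (Or.inl h))
      · exact Or.inr (Or.inr (Or.inr (Or.inl h)))
    · by_cases e3 : a3 = 2
      · subst e3
        rcases num_three_aux G i3 i1 i2 a1 a2 h3 h1 h2 (by omega) ha1 ha2 hi1 hi2 with h | h
        · exact Or.inr (Or.inr (Or.inr (Or.inr (Or.inl h))))
        · exact Or.inr (Or.inr (Or.inr (Or.inr (Or.inr h))))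
      · exfalso
        have k1 : i1 * 3 ≤ i1 * a1 := Nat.mul_le_mul_left _ (by omega)
        have k2 : i2 * 3 ≤ i2 * a2 := Nat.mul_le_mul_left _ (by omega)
        have k3 : i3 * 3 ≤ i3 * a3 := Nat.mul_le_mul_left _ (by omega)
        omega

theorem two_class_12 (g i1 a1 i2 a2 : ℕ) (h1 : g = i1 * a1) (h2 : g = 2 * (i2 * a2))
    (ha1 : 2 ≤ a1) (ha2 : 2 ≤ a2) (hi2 : 2 ≤ i2)
    (heq : g = 1 + i1 * (a1 - 1) + i2 * (a2 - 1)) : a1 = 3 ∧ a2 = 2 ∧ g = 12 := by
  obtain ⟨b1, rfl⟩ : ∃ b1, a1 = b1 + 1 := ⟨a1 - 1, by omega⟩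
  obtain ⟨b2, rfl⟩ : ∃ b2, a2 = b2 + 1 := ⟨a2 - 1, by omega⟩
  simp only [Nat.add_sub_cancel] at heq
  have h1' : g = i1 * b1 + i1 := by rw [h1]; ring
  have h2' : g = 2 * (i2 * b2) + 2 * i2 := by rw [h2]; ring
  have hb2 : i2 * 1 ≤ i2 * b2 := Nat.mul_le_mul_left _ (by omega)
  rcases (by omega : b1 = 1 ∨ b1 = 2 ∨ 3 ≤ b1) with h | h | h
  · subst h
    omega
  · subst h
    have hb : b2 = 1 := by
      by_contra hne
      have : i2 * 2 ≤ i2 * b2 := Nat.mul_le_mul_left _ (by omega)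
      omega
    subst hb
    omega
  · have : i1 * 3 ≤ i1 * b1 := Nat.mul_le_mul_left _ h
    omega

theorem two_class (g i1 a1 n1 i2 a2 n2 : ℕ) (h1 : g = i1 * n1 * a1) (h2 : g = i2 * n2 * a2)
    (ha1 : 2 ≤ a1) (ha2 : 2 ≤ a2) (hn1 : n1 = 1 ∨ n1 = 2) (hn2 : n2 = 1 ∨ n2 = 2)
    (hi1 : 2 ≤ i1) (hi2 : 2 ≤ i2) (heq : g = 1 + i1 * (a1 - 1) + i2 * (a2 - 1)) :
    (n1 = 1 ∧ a1 = 3 ∧ n2 = 2 ∧ a2 = 2 ∧ g = 12) ∨ (n2 = 1 ∧ a2 = 3 ∧ n1 = 2 ∧ a1 = 2 ∧ g = 12) := by
  have hu1 : i1 * a1 = i1 * (a1 - 1) + i1 := by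
    obtain ⟨b, rfl⟩ : ∃ b, a1 = b + 1 := ⟨a1 - 1, by omega⟩
    simp only [Nat.add_sub_cancel]; ring
  have hu2 : i2 * a2 = i2 * (a2 - 1) + i2 := by
    obtain ⟨b, rfl⟩ : ∃ b, a2 = b + 1 := ⟨a2 - 1, by omega⟩
    simp only [Nat.add_sub_cancel]; ring
  have hv1 : i1 * 1 ≤ i1 * (a1 - 1) := Nat.mul_le_mul_left _ (by omega)
  have hv2 : i2 * 1 ≤ i2 * (a2 - 1) := Nat.mul_le_mul_left _ (by omega)
  rcases hn1 with rfl | rfl <;> rcases hn2 with rfl | rfl
  · exfalso
    rw [mul_one] at h1 h2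
    omega
  · left
    rw [mul_one] at h1
    have h2' : g = 2 * (i2 * a2) := by rw [h2]; ring
    obtain ⟨e1, e2, e3⟩ := two_class_12 g i1 a1 i2 a2 h1 h2' ha1 ha2 hi2 heq
    exact ⟨rfl, e1, rfl, e2, e3⟩
  · right
    rw [mul_one] at h2
    have h1' : g = 2 * (i1 * a1) := by rw [h1]; ring
    obtain ⟨e1, e2, e3⟩ := two_class_12 g i2 a2 i1 a1 h2 h1' ha2 ha1 hi1 (by omega)
    exact ⟨rfl, e1, rfl, e2, e3⟩
  · exfalso
    have h1' : g = 2 * (i1 * a1) := by rw [h1]; ring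
    have h2' : g = 2 * (i2 * a2) := by rw [h2]; ring
    omega

theorem three_class (g i1 a1 n1 i2 a2 n2 i3 a3 n3 : ℕ) (h1 : g = i1 * n1 * a1)
    (h2 : g = i2 * n2 * a2) (h3 : g = i3 * n3 * a3)
    (ha1 : 2 ≤ a1) (ha2 : 2 ≤ a2) (ha3 : 2 ≤ a3)
    (hn1 : n1 = 1 ∨ n1 = 2) (hn2 : n2 = 1 ∨ n2 = 2) (hn3 : n3 = 1 ∨ n3 = 2)
    (hi1 : 2 ≤ i1) (hi2 : 2 ≤ i2) (hi3 : 2 ≤ i3)
    (heq : g = 1 + (i1 * (a1 - 1) + (i2 * (a2 - 1) + i3 * (a3 - 1)))) :
    n1 = 2 ∧ n2 = 2 ∧ n3 = 2 ∧ ∃ G, g = 2 * G ∧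
      (Sol G a1 a2 a3 ∨ Sol G a1 a3 a2 ∨ Sol G a2 a1 a3 ∨ Sol G a2 a3 a1 ∨ Sol G a3 a1 a2 ∨
        Sol G a3 a2 a1) := by
  have hu1 : i1 * a1 = i1 * (a1 - 1) + i1 := by
    obtain ⟨b, rfl⟩ : ∃ b, a1 = b + 1 := ⟨a1 - 1, by omega⟩
    simp only [Nat.add_sub_cancel]; ring
  have hu2 : i2 * a2 = i2 * (a2 - 1) + i2 := by
    obtain ⟨b, rfl⟩ : ∃ b, a2 = b + 1 := ⟨a2 - 1, by omega⟩
    simp only [Nat.add_sub_cancel]; ring
  have hu3 : i3 * a3 = i3 * (a3 - 1) + i3 := by
    obtain ⟨b, rfl⟩ : ∃ b, a3 = b + 1 := ⟨a3 - 1, by omega⟩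
    simp only [Nat.add_sub_cancel]; ring
  have hv1 : i1 * 1 ≤ i1 * (a1 - 1) := Nat.mul_le_mul_left _ (by omega)
  have hv2 : i2 * 1 ≤ i2 * (a2 - 1) := Nat.mul_le_mul_left _ (by omega)
  have hv3 : i3 * 1 ≤ i3 * (a3 - 1) := Nat.mul_le_mul_left _ (by omega)
  have k1 : g = i1 * a1 ∨ g = 2 * (i1 * a1) := by
    rcases hn1 with rfl | rfl
    · left; rw [h1]; ring
    · right; rw [h1]; ring
  have k2 : g = i2 * a2 ∨ g = 2 * (i2 * a2) := by
    rcases hn2 with rfl | rfl
    · left; rw [h2]; ring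
    · right; rw [h2]; ring
  have k3 : g = i3 * a3 ∨ g = 2 * (i3 * a3) := by
    rcases hn3 with rfl | rfl
    · left; rw [h3]; ring
    · right; rw [h3]; ring
  have e1 : n1 = 2 := by
    rcases hn1 with rfl | rfl
    · exfalso
      rw [mul_one] at h1
      omega
    · rfl
  have e2 : n2 = 2 := by
    rcases hn2 with rfl | rfl
    · exfalso
      rw [mul_one] at h2
      omega
    · rfl
  have e3 : n3 = 2 := by
    rcases hn3 with rfl | rfl
    · exfalso
      rw [mul_one] at h3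
      omega
    · rfl
  subst e1 e2 e3
  refine ⟨rfl, rfl, rfl, i1 * a1, by rw [h1]; ring, ?_⟩
  have h1' : g = 2 * (i1 * a1) := by rw [h1]; ring
  have h2' : g = 2 * (i2 * a2) := by rw [h2]; ring
  have h3' : g = 2 * (i3 * a3) := by rw [h3]; ring
  exact num_three (i1 * a1) i1 i2 i3 a1 a2 a3 rfl (by omega) (by omega) (by omega) ha1 ha2 ha3
    hi1 hi2 hi3

/-- the arithmetic of the class equation when all classes are of torus type. -/
theorem num_prime_case {Q : Type*} [Fintype Q] [DecidableEq Q] (g : ℕ) (i a n : Q → ℕ)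
    (hg : ∀ q, g = i q * n q * a q) (ha : ∀ q, 2 ≤ a q) (hn : ∀ q, n q = 1 ∨ n q = 2)
    (hi : ∀ q, 2 ≤ i q) (heq : g = 1 + ∑ q, i q * (a q - 1)) (hg2 : 2 ≤ g) :
    (g = 12 ∧ ∃ q1 q2, q1 ≠ q2 ∧ (∀ q, q = q1 ∨ q = q2) ∧ n q1 = 1 ∧ a q1 = 3 ∧ n q2 = 2 ∧
      a q2 = 2) ∨
    (∃ q1 q2 q3, q1 ≠ q2 ∧ q1 ≠ q3 ∧ q2 ≠ q3 ∧ (∀ q, q = q1 ∨ q = q2 ∨ q = q3) ∧
      n q1 = 2 ∧ n q2 = 2 ∧ n q3 = 2 ∧ a q1 = 2 ∧ a q2 = 3 ∧
      ((a q3 = 3 ∧ g = 12) ∨ (a q3 = 4 ∧ g = 24) ∨ (a q3 = 5 ∧ g = 60))) := by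
  have hu : ∀ q, i q * a q = i q * (a q - 1) + i q := by
    intro q
    obtain ⟨b, hb⟩ : ∃ b, a q = b + 1 := ⟨a q - 1, by have := ha q; omega⟩
    rw [hb]
    simp only [Nat.add_sub_cancel]; ring
  have hui : ∀ q, i q * 1 ≤ i q * (a q - 1) := fun q =>
    Nat.mul_le_mul_left _ (by have := ha q; omega)
  have ht : ∀ q, g ≤ 4 * (i q * (a q - 1)) := by
    intro q
    have h1 := hg q
    have h2 := hu q
    have h3 := hui q
    rcases hn q with h | h
    · rw [h, mul_one] at h1; omega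
    · rw [h] at h1
      have : i q * 2 * a q = 2 * (i q * a q) := by ring
      omega
  have hcard : Fintype.card Q ≤ 3 := by
    by_contra hc
    push Not at hc
    have h1 : Fintype.card Q * g ≤ ∑ q : Q, 4 * (i q * (a q - 1)) := by
      have := Finset.card_nsmul_le_sum Finset.univ (fun q => 4 * (i q * (a q - 1))) g
        (fun q _ => ht q)
      simpa [Finset.card_univ] using this
    rw [← Finset.mul_sum] at h1
    have : 4 * g ≤ Fintype.card Q * g := Nat.mul_le_mul_right _ hc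
    omega
  rcases (by omega : Fintype.card Q = 0 ∨ Fintype.card Q = 1 ∨ Fintype.card Q = 2 ∨
      Fintype.card Q = 3) with h0 | h1 | h2 | h3
  · exfalso
    have : IsEmpty Q := Fintype.card_eq_zero_iff.mp h0
    rw [Finset.univ_eq_empty, Finset.sum_empty] at heq
    omega
  · exfalso
    obtain ⟨x, hx⟩ := Fintype.card_eq_one_iff.mp h1
    have huniv : (Finset.univ : Finset Q) = {x} := by
      ext y; simp [hx y]
    rw [huniv, Finset.sum_singleton] at heq
    have k1 := hg x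
    have k2 := hu x
    have k3 := hui x
    have k4 := hi x
    rcases hn x with h | h
    · rw [h, mul_one] at k1; omega
    · rw [h] at k1
      have : i x * 2 * a x = 2 * (i x * a x) := by ring
      omega
  · left
    obtain ⟨x, y, hxy, huniv⟩ := Finset.card_eq_two.mp
      (by rwa [Finset.card_univ] : (Finset.univ : Finset Q).card = 2)
    rw [huniv, Finset.sum_pair hxy] at heq
    have hall : ∀ q, q = x ∨ q = y := by
      intro q
      have := Finset.mem_univ q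
      rw [huniv] at this
      simpa using this
    rcases two_class g (i x) (a x) (n x) (i y) (a y) (n y) (hg x) (hg y) (ha x) (ha y) (hn x)
      (hn y) (hi x) (hi y) (by omega) with ⟨e1, e2, e3, e4, e5⟩ | ⟨e1, e2, e3, e4, e5⟩
    · exact ⟨e5, x, y, hxy, hall, e1, e2, e3, e4⟩
    · refine ⟨e5, y, x, hxy.symm, ?_, e1, e2, e3, e4⟩
      intro q
      rcases hall q with h | h
      · exact Or.inr h
      · exact Or.inl h
  · right
    obtain ⟨x, y, w, hxy, hxw, hyw, huniv⟩ := Finset.card_eq_three.mp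
      (by rwa [Finset.card_univ] : (Finset.univ : Finset Q).card = 3)
    rw [huniv, Finset.sum_insert (by simp [hxy, hxw]), Finset.sum_pair hyw] at heq
    have hall : ∀ q, q = x ∨ q = y ∨ q = w := by
      intro q
      have := Finset.mem_univ q
      rw [huniv] at this
      simpa using this
    obtain ⟨e1, e2, e3, G, hG, hsol⟩ := three_class g (i x) (a x) (n x) (i y) (a y) (n y) (i w)
      (a w) (n w) (hg x) (hg y) (hg w) (ha x) (ha y) (ha w) (hn x) (hn y) (hn w) (hi x) (hi y)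
      (hi w) heq
    have fin : ∀ q1 q2 q3 : Q, q1 ≠ q2 → q1 ≠ q3 → q2 ≠ q3 → (∀ q, q = q1 ∨ q = q2 ∨ q = q3) →
        n q1 = 2 → n q2 = 2 → n q3 = 2 → Sol G (a q1) (a q2) (a q3) →
        ∃ q1 q2 q3, q1 ≠ q2 ∧ q1 ≠ q3 ∧ q2 ≠ q3 ∧ (∀ q, q = q1 ∨ q = q2 ∨ q = q3) ∧
          n q1 = 2 ∧ n q2 = 2 ∧ n q3 = 2 ∧ a q1 = 2 ∧ a q2 = 3 ∧
          ((a q3 = 3 ∧ g = 12) ∨ (a q3 = 4 ∧ g = 24) ∨ (a q3 = 5 ∧ g = 60)) := by
      intro q1 q2 q3 h12 h13 h23 hcov m1 m2 m3 ⟨s1, s2, s3⟩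
      refine ⟨q1, q2, q3, h12, h13, h23, hcov, m1, m2, m3, s1, s2, ?_⟩
      rcases s3 with ⟨s, t⟩ | ⟨s, t⟩ | ⟨s, t⟩
      · left; exact ⟨s, by omega⟩
      · right; left; exact ⟨s, by omega⟩
      · right; right; exact ⟨s, by omega⟩
    rcases hsol with h | h | h | h | h | h
    · exact fin x y w hxy hxw hyw hall e1 e2 e3 h
    · exact fin x w y hxw hxy hyw.symm (fun q => by rcases hall q with h | h | h <;> simp [h])
        e1 e3 e2 h
    · exact fin y x w hxy.symm hyw hxw (fun q => by rcases hall q with h | h | h <;> simp [h])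
        e2 e1 e3 h
    · exact fin y w x hyw hxy.symm hxw.symm
        (fun q => by rcases hall q with h | h | h <;> simp [h]) e2 e3 e1 h
    · exact fin w x y hxw.symm hyw.symm hxy
        (fun q => by rcases hall q with h | h | h <;> simp [h]) e3 e1 e2 h
    · exact fin w y x hyw.symm hxw.symm hxy.symm
        (fun q => by rcases hall q with h | h | h <;> simp [h]) e3 e2 e1 h

/-- the arithmetic of the class equation when there is a class of Sylow type. -/
theorem num_p_case {Q : Type*} [Fintype Q] [DecidableEq Q] (g : ℕ) (i a n : Q → ℕ) (qP : Q)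
    (q0 e m : ℕ) (hq0 : 2 ≤ q0) (he1 : 1 ≤ e) (hm : 1 ≤ m)
    (hg : ∀ q, g = i q * n q * a q) (ha : ∀ q, 2 ≤ a q)
    (haP : a qP = q0) (hnP : n qP = e) (hiP : i qP = 1 + m * q0) (hdvd : e ∣ q0 - 1)
    (hn : ∀ q, q ≠ qP → (n q = 1 ∨ n q = 2)) (hi : ∀ q, q ≠ qP → 2 ≤ i q)
    (hK : 2 ≤ e → ∃ qK, qK ≠ qP ∧ a qK = e)
    (heq : g = 1 + ∑ q, i q * (a q - 1)) :
    (m = 1 ∧ (e = q0 - 1 ∨ 2 * e = q0 - 1)) ∨
    (q0 = 3 ∧ m = 3 ∧ e = 2 ∧ g = 60 ∧ ∃ qK qB, qK ≠ qP ∧ qB ≠ qP ∧ qK ≠ qB ∧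
      (∀ q, q = qP ∨ q = qK ∨ q = qB) ∧ a qK = 2 ∧ n qK = 2 ∧ a qB = 5 ∧ n qB = 2) := by
  have hu : ∀ q, i q * a q = i q * (a q - 1) + i q := by
    intro q
    obtain ⟨b, hb⟩ : ∃ b, a q = b + 1 := ⟨a q - 1, by have := ha q; omega⟩
    rw [hb]
    simp only [Nat.add_sub_cancel]; ring
  have hui : ∀ q, i q * 1 ≤ i q * (a q - 1) := fun q =>
    Nat.mul_le_mul_left _ (by have := ha q; omega)
  have ht : ∀ q, q ≠ qP → g ≤ 4 * (i q * (a q - 1)) := by
    intro q hq
    have h1 := hg q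
    have h2 := hu q
    have h3 := hui q
    rcases hn q hq with h | h
    · rw [h, mul_one] at h1; omega
    · rw [h] at h1
      have : i q * 2 * a q = 2 * (i q * a q) := by ring
      omega
  obtain ⟨T, hT⟩ : ∃ T : Finset Q, T = Finset.univ.erase qP := ⟨_, rfl⟩
  have hsum : ∑ q, i q * (a q - 1) = i qP * (a qP - 1) + ∑ q ∈ T, i q * (a q - 1) := by
    rw [hT]; exact (Finset.add_sum_erase _ _ (Finset.mem_univ qP)).symm
  rw [hsum] at heq
  have hgP := hg qP
  have huP := hu qP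
  obtain ⟨M, hM⟩ : ∃ M, M = m * q0 := ⟨_, rfl⟩
  rw [hiP, hnP, haP, ← hM] at hgP
  rw [hiP, haP, ← hM] at huP
  rw [hiP, haP, ← hM] at heq
  have hmq : q0 ≤ M := by rw [hM]; exact Nat.le_mul_of_pos_left _ hm
  have hTmem : ∀ q, q ∈ T ↔ q ≠ qP := by intro q; simp [hT]
  have hcardT : ∀ s : Finset Q, s ⊆ T → s.card * g ≤ 4 * ∑ q ∈ s, i q * (a q - 1) := by
    intro s hs
    rw [Finset.mul_sum]
    have := Finset.card_nsmul_le_sum s (fun q => 4 * (i q * (a q - 1))) g
      (fun q hq => ht q ((hTmem q).mp (hs hq)))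
    simpa using this
  by_cases he : e = 1
  · subst he
    left
    rw [mul_one] at hgP
    have hS : ∑ q ∈ T, i q * (a q - 1) = M := by omega
    have hW : M * 2 ≤ M * q0 := Nat.mul_le_mul_left _ hq0
    have hg' : g = q0 + M * q0 := by rw [hgP]; ring
    have hc := hcardT T (Finset.Subset.refl _)
    rw [hS] at hc
    have hcard1 : T.card = 1 := by
      rcases (by omega : T.card = 0 ∨ T.card = 1 ∨ 2 ≤ T.card) with h | h | h
      · rw [Finset.card_eq_zero] at h
        rw [h, Finset.sum_empty] at hS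
        omega
      · exact h
      · have : 2 * g ≤ T.card * g := Nat.mul_le_mul_right _ h
        omega
    obtain ⟨qB, hqB⟩ := Finset.card_eq_one.mp hcard1
    rw [hqB, Finset.sum_singleton] at hS
    have hqBne : qB ≠ qP := (hTmem qB).mp (by rw [hqB]; simp)
    have k1 := hg qB
    have k2 := hu qB
    have k3 := hui qB
    have k4 := hi qB hqBne
    have k5 := ht qB hqBne
    rw [hS] at k2 k3 k5
    have hq3 : q0 < 4 := by
      by_contra h4
      push Not at h4
      have : M * 4 ≤ M * q0 := Nat.mul_le_mul_left _ h4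
      omega
    rcases hn qB hqBne with h | h
    · exfalso
      rw [h, mul_one] at k1
      omega
    · rw [h] at k1
      have k1' : g = 2 * (i qB * a qB) := by rw [k1]; ring
      rcases (by omega : q0 = 2 ∨ q0 = 3) with h2 | h3
      · exfalso; subst h2; omega
      · subst h3
        obtain ⟨b, hb⟩ : ∃ b, a qB = b + 1 := ⟨a qB - 1, by have := ha qB; omega⟩
        have hb0 : 1 ≤ b := by have := ha qB; omega
        rw [hb] at hS
        simp only [Nat.add_sub_cancel] at hS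
        have hb1 : b = 1 := by
          by_contra hne
          have : i qB * 2 ≤ i qB * b := Nat.mul_le_mul_left _ (by omega)
          omega
        subst hb1
        exact ⟨by omega, Or.inr (by omega)⟩
  · have he2 : 2 ≤ e := by omega
    obtain ⟨qK, hqKne, haK⟩ := hK he2
    have hq0pos : 0 < q0 - 1 := by omega
    have hele : e ≤ q0 - 1 := Nat.le_of_dvd hq0pos hdvd
    have hq3 : 3 ≤ q0 := by omega
    have hqKT : qK ∈ T := (hTmem qK).mpr hqKne
    obtain ⟨T', hT'⟩ : ∃ T' : Finset Q, T' = T.erase qK := ⟨_, rfl⟩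
    have hsum' : ∑ q ∈ T, i q * (a q - 1) = i qK * (a qK - 1) + ∑ q ∈ T', i q * (a q - 1) := by
      rw [hT']; exact (Finset.add_sum_erase _ _ hqKT).symm
    rw [hsum', haK] at heq
    have hT'sub : T' ⊆ T := by rw [hT']; exact Finset.erase_subset _ _
    have hc := hcardT T' hT'sub
    have hgV : g = ((1 + M) * q0) * e := by rw [hgP]; ring
    have kK1 := hg qK
    have kK2 := hu qK
    have kK3 := hui qK
    have kK4 := hi qK hqKne
    rw [haK] at kK1 kK2 kK3
    have hV3 : (1 + M) * 3 ≤ (1 + M) * q0 := Nat.mul_le_mul_left _ hq3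
    have hVe : ((1 + M) * q0) * 2 ≤ ((1 + M) * q0) * e := Nat.mul_le_mul_left _ he2
    rcases hn qK hqKne with hnK | hnK
    · exfalso
      rw [hnK, mul_one] at kK1
      have hiK : i qK = (1 + M) * q0 := by
        have : i qK * e = ((1 + M) * q0) * e := by rw [← kK1, hgV]
        exact Nat.eq_of_mul_eq_mul_right (by omega) this
      have hS' : ∑ q ∈ T', i q * (a q - 1) = M := by omega
      rw [hS'] at hc
      rcases Nat.eq_zero_or_pos T'.card with h0 | h0
      · rw [Finset.card_eq_zero] at h0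
        rw [h0, Finset.sum_empty] at hS'
        omega
      · have : 1 * g ≤ T'.card * g := Nat.mul_le_mul_right _ h0
        omega
    · rw [hnK] at kK1
      have hiK : 2 * i qK = (1 + M) * q0 := by
        have : (2 * i qK) * e = ((1 + M) * q0) * e := by rw [← hgV, kK1]; ring
        exact Nat.eq_of_mul_eq_mul_right (by omega) this
      have kK1' : g = 2 * (i qK * e) := by rw [kK1]; ring
      have hS' : 2 * ∑ q ∈ T', i q * (a q - 1) + (1 + M) * q0 = g + 2 * M := by omega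
      have hcard1 : T'.card = 1 := by
        rcases (by omega : T'.card = 0 ∨ T'.card = 1 ∨ 2 ≤ T'.card) with h | h | h
        · rw [Finset.card_eq_zero] at h
          rw [h, Finset.sum_empty] at hS'
          omega
        · exact h
        · have : 2 * g ≤ T'.card * g := Nat.mul_le_mul_right _ h
          omega
      obtain ⟨qB, hqB⟩ := Finset.card_eq_one.mp hcard1
      rw [hqB, Finset.sum_singleton] at hS'
      have hqBT' : qB ∈ T' := by rw [hqB]; simp
      have hqBne : qB ≠ qP := (hTmem qB).mp (hT'sub hqBT')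
      have hqBK : qB ≠ qK := by
        rw [hT'] at hqBT'
        exact (Finset.mem_erase.mp hqBT').1
      have k1 := hg qB
      have k2 := hu qB
      have k3 := hui qB
      have k4 := hi qB hqBne
      rcases hn qB hqBne with hnB | hnB
      · exfalso
        rw [hnB, mul_one] at k1
        omega
      · rw [hnB] at k1
        have k1' : g = 2 * (i qB * a qB) := by rw [k1]; ring
        have h2iB : 2 * i qB + 2 * M = (1 + M) * q0 := by omega
        have hM3 : m * 3 ≤ M := by rw [hM]; exact Nat.mul_le_mul_left _ hq3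
        obtain ⟨d, hd⟩ : ∃ d, 1 + M = d + 2 * m := ⟨1 + M - 2 * m, by omega⟩
        have hVd : (1 + M) * q0 = d * q0 + 2 * M := by rw [hd, hM]; ring
        have h2iB' : 2 * i qB = q0 * d := by rw [mul_comm q0 d]; omega
        have hdaB : d * a qB = d * e + 2 * (m * e) := by
          have h1 : q0 * (d * a qB) = q0 * ((1 + M) * e) := by
            calc q0 * (d * a qB) = (q0 * d) * a qB := by ring
              _ = 2 * (i qB * a qB) := by rw [← h2iB']; ring
              _ = g := k1'.symm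
              _ = q0 * ((1 + M) * e) := by rw [hgP]; ring
          have h2 := Nat.eq_of_mul_eq_mul_left (by omega : 0 < q0) h1
          rw [h2, hd]; ring
        have hdpos : 1 ≤ d := by omega
        obtain ⟨r, hr⟩ : ∃ r, a qB = e + r := by
          refine ⟨a qB - e, ?_⟩
          by_contra hlt
          have hlt' : a qB + 1 ≤ e := by omega
          have h5 : d * (a qB + 1) ≤ d * e := Nat.mul_le_mul_left _ hlt'
          have h6 : d * (a qB + 1) = d * a qB + d := by ring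
          omega
        have hrd : d * r = 2 * (m * e) := by
          rw [hr] at hdaB
          have : d * (e + r) = d * e + d * r := by ring
          omega
        have hme : m * e ≤ m * (q0 - 1) := Nat.mul_le_mul_left _ hele
        have hmq1 : m * (q0 - 1) + m = M := by
          obtain ⟨c, hc⟩ : ∃ c, q0 = c + 1 := ⟨q0 - 1, by omega⟩
          rw [hM, hc]; simp only [Nat.add_sub_cancel]; ring
        have hr1 : 1 ≤ r := by
          rcases Nat.eq_zero_or_pos r with h0 | h0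
          · subst h0
            have : m * 1 ≤ m * e := Nat.mul_le_mul_left _ he1
            omega
          · exact h0
        rcases (by omega : r = 1 ∨ r = 2 ∨ r = 3 ∨ 4 ≤ r) with h | h | h | h
        · subst h
          left
          have hm1 : m = 1 := by
            have h1 : 1 = 2 * (m * e) + 2 * m - m * q0 := by omega
            have h2 : m ∣ 2 * (m * e) + 2 * m - m * q0 :=
              Nat.dvd_sub (dvd_add ⟨2 * e, by ring⟩ ⟨2, by ring⟩) ⟨q0, rfl⟩
            rw [← h1] at h2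
            exact Nat.dvd_one.mp h2
          subst hm1
          exact ⟨rfl, Or.inr (by omega)⟩
        · subst h
          left
          have hm1 : m = 1 := by
            have h1 : 1 = m * e + 2 * m - m * q0 := by omega
            have h2 : m ∣ m * e + 2 * m - m * q0 :=
              Nat.dvd_sub (dvd_add ⟨e, rfl⟩ ⟨2, by ring⟩) ⟨q0, rfl⟩
            rw [← h1] at h2
            exact Nat.dvd_one.mp h2
          subst hm1
          exact ⟨rfl, Or.inl (by omega)⟩
        · subst h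
          right
          have hq03 : q0 = 3 := by
            by_contra hne
            have : m * 4 ≤ m * q0 := Nat.mul_le_mul_left _ (by omega)
            omega
          subst hq03
          have he2' : e = 2 := by omega
          subst he2'
          have hm3 : m = 3 := by omega
          subst hm3
          refine ⟨rfl, rfl, rfl, by omega, qK, qB, hqKne, hqBne, hqBK.symm, ?_, haK, hnK,
            by omega, hnB⟩
          intro q
          by_cases h1 : q = qP
          · exact Or.inl h1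
          · by_cases h2 : q = qK
            · exact Or.inr (Or.inl h2)
            · right; right
              have : q ∈ T' := by
                rw [hT']
                exact Finset.mem_erase.mpr ⟨h2, (hTmem q).mpr h1⟩
              rw [hqB] at this
              simpa using this
        · exfalso
          have : d * 4 ≤ d * r := Nat.mul_le_mul_left _ h
          omega

end Cfsg.Agent.Helper41.Dk
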