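import Mathlib
import Cfsg.Agent.Helper5.AltEmbed

set_option autoImplicit false

namespace Cfsg.Agent.Helper41

/-- In a simple group, the action on the cosets of a proper subgroup is faithful. -/
theorem toPermHom_injective_of_simple {G : Type*} [Group G] [IsSimpleGroup G] (H : Subgroup G)
    (hH : H ≠ ⊤) : Function.Injective (MulAction.toPermHom G (G ⧸ H)) := by
  rw [← MonoidHom.ker_eq_bot_iff, ← Subgroup.normalCore_eq_ker]
  rcases (H.normalCore_normal).eq_bot_or_eq_top with h | h
  · exact h
  · exact absurd (top_le_iff.mp (h ▸ H.normalCore_le)) hH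

/-- In a finite simple group, the order divides the factorial of the index of any proper
subgroup. -/
theorem card_dvd_factorial_index_of_simple {G : Type*} [Group G] [Finite G] [IsSimpleGroup G]
    (H : Subgroup G) (hH : H ≠ ⊤) : Nat.card G ∣ (H.index).factorial := by
  have hinj := toPermHom_injective_of_simple H hH
  have h1 : Nat.card G = Nat.card (MulAction.toPermHom G (G ⧸ H)).range :=
    Nat.card_congr (MonoidHom.ofInjective hinj).toEquiv
  rw [h1, Subgroup.index_eq_card, ← Nat.card_perm]
  exact Subgroup.card_subgroup_dvd_card _

/-- A simple group of order 60 is isomorphic to `A₅`. -/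
theorem simple_order_sixty {G : Type*} [Group G] [Finite G] [IsSimpleGroup G]
    (h : Nat.card G = 60) : Nonempty (G ≃* alternatingGroup (Fin 5)) := by
  classical
  have : Fact (Nat.Prime 2) := ⟨Nat.prime_two⟩
  let P : Sylow 2 G := default
  have hfac : Nat.factorization 60 2 = 2 := by
    rw [Nat.factorization_def _ Nat.prime_two]
    have : (60 : ℕ) = 2 ^ 2 * 15 := by norm_num
    rw [this, padicValNat.mul (by norm_num) (by norm_num), padicValNat.prime_pow,
      padicValNat.eq_zero_of_not_dvd (by norm_num)]
  have hPcard : Nat.card (P : Subgroup G) = 4 := by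
    rw [Sylow.card_eq_multiplicity, h, hfac]
    norm_num
  have hPidx : (P : Subgroup G).index = 15 := by
    have := (P : Subgroup G).card_mul_index
    rw [hPcard, h] at this
    omega
  set N : Subgroup G := Subgroup.normalizer ((P : Subgroup G) : Set G) with hN
  have hPN : (P : Subgroup G) ≤ N := Subgroup.le_normalizer
  have hNidx : N.index ∣ 15 := by
    rw [← hPidx]
    exact Subgroup.index_dvd_of_le hPN
  have hNcard := N.card_mul_index
  rw [h] at hNcard
  have hdiv : N.index ∈ Nat.divisors 15 := by
    rw [Nat.mem_divisors]
    exact ⟨hNidx, by norm_num⟩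
  have hdivs : Nat.divisors 15 = {1, 3, 5, 15} := by decide
  rw [hdivs] at hdiv
  simp only [Finset.mem_insert, Finset.mem_singleton] at hdiv
  rcases hdiv with h1 | h3 | h5 | h15
  · -- P normal
    exfalso
    have hNtop : N = ⊤ := Subgroup.index_eq_one.mp h1
    have hnorm : (P : Subgroup G).Normal := Subgroup.normalizer_eq_top_iff.mp hNtop
    rcases hnorm.eq_bot_or_eq_top with hb | ht
    · rw [hb] at hPcard
      simp at hPcard
    · rw [ht] at hPcard
      simp [h] at hPcard
  · exfalso
    have hNtop : N ≠ ⊤ := by
      intro ht
      rw [ht] at h3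
      simp at h3
    have := card_dvd_factorial_index_of_simple N hNtop
    rw [h, h3] at this
    revert this
    decide
  · have hNtop : N ≠ ⊤ := by
      intro ht
      rw [ht] at h5
      simp at h5
    refine Cfsg.Agent.Helper5.equiv_alternatingGroup_of_injective
      (MulAction.toPermHom G (G ⧸ N)) (toPermHom_injective_of_simple N hNtop) 5 ?_ ?_
    · rw [← Subgroup.index_eq_card, h5]
    · rw [h]
      decide
  · exfalso
    have hNc : Nat.card N = 4 := by
      rw [h15] at hNcard
      omega
    have hPeq : (P : Subgroup G) = N :=
      Subgroup.eq_of_le_of_card_ge hPN (by rw [hPcard, hNc])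
    have hcommI : IsMulCommutative (P : Subgroup G) :=
      IsPGroup.isMulCommutative_of_card_eq_prime_sq (p := 2) (by rw [hPcard]; norm_num)
    have hcomm : ∀ a b : (P : Subgroup G), a * b = b * a := fun a b => mul_comm' a b
    have hNC : Subgroup.normalizer ((P : Subgroup G) : Set G) ≤
        Subgroup.centralizer ((P : Subgroup G) : Set G) := by
      intro x hx
      rw [← hN, ← hPeq] at hx
      rw [Subgroup.mem_centralizer_iff]
      intro y hy
      have := hcomm ⟨y, hy⟩ ⟨x, hx⟩
      exact congrArg Subtype.val this
    have hcompl := MonoidHom.ker_transferSylow_isComplement' P hNC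
    have hc := hcompl.card_mul_card
    rw [h, hPcard] at hc
    have hKn : (MonoidHom.transferSylow P hNC).ker.Normal := inferInstance
    rcases hKn.eq_bot_or_eq_top with hb | ht
    · rw [hb] at hc
      simp at hc
    · rw [ht] at hc
      simp [h] at hc

end Cfsg.Agent.Helper41
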