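import Cfsg.Agent.Helper41.DkClass2
import Cfsg.Agent.Helper41.DkNum
import Cfsg.Agent.Helper41.Order60

set_option autoImplicit false

/-!
# Dickson, part 4: identification of `A₄`, `S₄`, `A₅` from the class data
-/

namespace Cfsg.Agent.Helper41.Dk

variable {X : Type*} [Group X]

theorem relIndex_mul_card_of_le [Finite X] {Z C : Subgroup X} (h : Z ≤ C) :
    Z.relIndex C * Nat.card Z = Nat.card C := by
  have h1 := (Z.subgroupOf C).card_mul_index
  rw [Nat.card_congr (Subgroup.subgroupOfEquivOfLe h).toEquiv] at h1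
  rw [Subgroup.relIndex, mul_comm]; exact h1

theorem inv_of_mem_normalizer {x n : X} (h : TorusLike x)
    (hn : n ∈ Subgroup.normalizer (cen x : Set X)) (hnC : n ∉ cen x) : n * x * n⁻¹ = x⁻¹ := by
  have h1 : n * x * n⁻¹ ∈ cen x :=
    (Subgroup.mem_normalizer_iff.mp hn x).mp (by rw [mem_cen])
  rcases h n (mem_cen.mp h1) with h2 | h2
  · exfalso
    apply hnC
    rw [mem_cen]
    show n * x = x * n
    calc n * x = (n * x * n⁻¹) * n := by group
      _ = x * n := by rw [h2]
  · exact h2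

theorem central_normal {Z : Subgroup X} (hZ : Z ≤ Subgroup.center X) : Z.Normal :=
  ⟨fun z hz g => (conj_mem_iff hZ g z).mpr hz⟩

theorem pow_cA_mem [Finite X] {Z : Subgroup X} (hCA : CA Z) (x : X) {g : X} (hg : g ∈ cen x) :
    g ^ cA Z x ∈ Z := by
  haveI : Z.Normal := central_normal hCA.central
  have h1 : (⟨g, hg⟩ : cen x) ^ (Z.subgroupOf (cen x)).index ∈ Z.subgroupOf (cen x) :=
    Subgroup.pow_index_mem _ _
  have h2 : (Z.subgroupOf (cen x)).index = cA Z x := by
    have h3 := relIndex_mul_card_of_le (hCA.le_cen x)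
    have h4 := card_cen hCA x
    have hz : 0 < Nat.card Z := Nat.card_pos
    rw [Subgroup.relIndex] at h3
    apply Nat.eq_of_mul_eq_mul_right hz
    rw [h3, h4, mul_comm]
  rw [h2] at h1
  simpa [Subgroup.mem_subgroupOf] using h1

theorem exists_quot_embed (Z K : Subgroup X) [Z.Normal] (hcore : K.normalCore = Z) :
    ∃ φ : X ⧸ Z →* Equiv.Perm (X ⧸ K), Function.Injective φ := by
  have hker : Z ≤ (MulAction.toPermHom X (X ⧸ K)).ker := by
    rw [← Subgroup.normalCore_eq_ker, hcore]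
  refine ⟨QuotientGroup.lift Z (MulAction.toPermHom X (X ⧸ K)) hker, ?_⟩
  rw [injective_iff_map_eq_one]
  intro a
  induction a using QuotientGroup.induction_on with
  | H x =>
    intro h
    rw [QuotientGroup.lift_mk] at h
    have h2 : x ∈ (MulAction.toPermHom X (X ⧸ K)).ker := h
    rw [← Subgroup.normalCore_eq_ker, hcore] at h2
    exact (QuotientGroup.eq_one_iff x).mpr h2

theorem ident_A4 [Finite X] {Z : Subgroup X} [Z.Normal] (hCA : CA Z) (hg : Z.index = 12)
    (x : X) (hx : x ∉ Z) (ha : cA Z x = 3) (hn : cN x = 1) :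
    Nonempty (X ⧸ Z ≃* alternatingGroup (Fin 4)) := by
  have hidx := index_eq hCA x
  rw [hg, ha, hn] at hidx
  have hI : cI x = 4 := by omega
  have hC4 : (cen x).index = 4 := by
    have h1 := card_X x
    have h2 := card_nor x
    have h3 := (cen x).card_mul_index
    have hpos : 0 < Nat.card (cen x) := Nat.card_pos
    rw [hI, h2, hn] at h1
    apply Nat.eq_of_mul_eq_mul_left hpos
    rw [h3, h1]; ring
  have hcore : (cen x).normalCore = Z := by
    apply le_antisymm
    · intro k hk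
      by_contra hkZ
      have hkC : k ∈ cen x := Subgroup.normalCore_le _ hk
      have hcen : cen k = cen x := hCA.cen_eq_of_commute hkZ hx (mem_cen.mp hkC)
      have hall : ∀ u : X, u ∈ Subgroup.normalizer (cen k : Set X) := by
        intro u
        rw [mem_normalizer_cen_iff]
        have huk : u * k * u⁻¹ ∈ (cen x).normalCore :=
          (Subgroup.normalCore_normal _).conj_mem k hk u
        have huC : u * k * u⁻¹ ∈ cen x := Subgroup.normalCore_le _ huk
        have hukZ : u * k * u⁻¹ ∉ Z := fun h => hkZ ((conj_mem_iff hCA.central u k).mp h)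
        rw [hCA.cen_eq_of_commute hukZ hx (mem_cen.mp huC), hcen]
      have h1 : cI k = 1 := by
        unfold cI
        rw [Subgroup.index_eq_one]
        exact eq_top_iff.mpr (fun u _ => hall u)
      have h2 : cI k = cI x := by unfold cI; rw [hcen]
      omega
    · exact (Subgroup.normal_le_normalCore).mpr (hCA.le_cen x)
  obtain ⟨φ, hφ⟩ := exists_quot_embed Z (cen x) hcore
  refine Cfsg.Agent.Helper5.equiv_alternatingGroup_of_injective φ hφ 4 ?_ ?_
  · rw [← Subgroup.index_eq_card]; exact hC4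
  · rw [← Subgroup.index_eq_card, hg]; rfl

theorem ident_S4 [Finite X] {Z : Subgroup X} [Z.Normal] (hCA : CA Z) (hg : Z.index = 24)
    (x : X) (hx : x ∉ Z) (ht : TorusLike x) (ha : cA Z x = 3) (hn : cN x = 2)
    (hall : ∀ y : X, y ∉ Z → cI y ≠ 1) :
    Nonempty (X ⧸ Z ≃* Equiv.Perm (Fin 4)) := by
  have hidx := index_eq hCA x
  rw [hg, ha, hn] at hidx
  have hI : cI x = 4 := by omega
  obtain ⟨N, hN⟩ : ∃ N, N = Subgroup.normalizer (cen x : Set X) := ⟨_, rfl⟩
  have hα : ∀ n ∈ N, n ∉ cen x → n * x * n⁻¹ = x⁻¹ := fun n hn hnC =>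
    inv_of_mem_normalizer ht (hN ▸ hn) hnC
  have hβ : ∀ n ∈ N, ∀ n' ∈ N, n ∉ cen x → n' ∉ cen x → n'⁻¹ * n ∈ cen x := by
    intro n hn n' hn' hnC hn'C
    rw [mem_cen]
    have h1 := hα n hn hnC
    have h2 := hα n' hn' hn'C
    show n'⁻¹ * n * x = x * (n'⁻¹ * n)
    have h3 : n'⁻¹ * x⁻¹ * n' = x := by rw [← h2]; group
    calc n'⁻¹ * n * x = n'⁻¹ * (n * x * n⁻¹) * n := by group
      _ = n'⁻¹ * x⁻¹ * n := by rw [h1]
      _ = (n'⁻¹ * x⁻¹ * n') * (n'⁻¹ * n) := by group
      _ = x * (n'⁻¹ * n) := by rw [h3]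
  have hγ : ∀ n ∈ N, n ^ 2 ∈ cen x := by
    intro n hn
    by_cases hnC : n ∈ cen x
    · exact pow_mem hnC 2
    · have h1 := hβ n hn n⁻¹ (inv_mem hn) hnC (fun h => hnC (by simpa using inv_mem h))
      rw [inv_inv] at h1
      rw [pow_two]; exact h1
  have hδ : ∀ g ∈ cen x, g ^ 3 ∈ Z := by
    intro g hg
    have := pow_cA_mem hCA x hg
    rwa [ha] at this
  have hfin : ∀ k : X, k ∉ Z → (∀ u : X, Commute (u * k * u⁻¹) k) → False := by
    intro k hkZ hcomm
    apply hall k hkZ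
    unfold cI
    rw [Subgroup.index_eq_one]
    refine eq_top_iff.mpr (fun u _ => ?_)
    rw [mem_normalizer_cen_iff]
    have hukZ : u * k * u⁻¹ ∉ Z := fun h => hkZ ((conj_mem_iff hCA.central u k).mp h)
    exact hCA.cen_eq_of_commute hukZ hkZ (hcomm u)
  have hcore : N.normalCore = Z := by
    apply le_antisymm
    · intro k hk
      by_contra hkZ
      have hconj : ∀ u : X, u * k * u⁻¹ ∈ N.normalCore := fun u =>
        (Subgroup.normalCore_normal _).conj_mem k hk u
      by_cases hex : ∃ k' ∈ N.normalCore, k' ∈ cen x ∧ k' ∉ Z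
      · obtain ⟨k', hk', hk'C, hk'Z⟩ := hex
        apply hfin k' hk'Z
        intro u
        have hy : u * k' * u⁻¹ ∈ N :=
          Subgroup.normalCore_le _ ((Subgroup.normalCore_normal _).conj_mem k' hk' u)
        have hy3 : (u * k' * u⁻¹) ^ 3 ∈ Z := by
          rw [conj_pow, conj_mem_iff hCA.central]
          exact hδ k' hk'C
        have hy2 := hγ _ hy
        have hyC : u * k' * u⁻¹ ∈ cen x := by
          have e : u * k' * u⁻¹ = (u * k' * u⁻¹) ^ 3 * ((u * k' * u⁻¹) ^ 2)⁻¹ := by group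
          rw [e]
          exact mul_mem (hCA.le_cen x hy3) (inv_mem hy2)
        exact hCA.cen_comm hx hyC hk'C
      · push Not at hex
        have hkC : k ∉ cen x := fun h => hkZ (hex k hk h)
        have hkN : k ∈ N := Subgroup.normalCore_le _ hk
        apply hfin k hkZ
        intro u
        have hyc := hconj u
        have hyN : u * k * u⁻¹ ∈ N := Subgroup.normalCore_le _ hyc
        have hyZ : u * k * u⁻¹ ∉ Z := fun h => hkZ ((conj_mem_iff hCA.central u k).mp h)
        have hyC : u * k * u⁻¹ ∉ cen x := fun h => hyZ (hex _ hyc h)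
        have h1 : k⁻¹ * (u * k * u⁻¹) ∈ cen x := hβ _ hyN k hkN hyC hkC
        have h2 : k⁻¹ * (u * k * u⁻¹) ∈ Z := hex _ (mul_mem (inv_mem hk) hyc) h1
        have h3 := Subgroup.mem_center_iff.mp (hCA.central h2) k
        show u * k * u⁻¹ * k = k * (u * k * u⁻¹)
        calc u * k * u⁻¹ * k = k * ((k⁻¹ * (u * k * u⁻¹)) * k) := by group
          _ = k * (k * (k⁻¹ * (u * k * u⁻¹))) := by rw [← h3]
          _ = k * (u * k * u⁻¹) := by group
    · refine (Subgroup.normal_le_normalCore).mpr ?_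
      rw [hN]
      exact le_trans (hCA.le_cen x) Subgroup.le_normalizer
  obtain ⟨φ, hφ⟩ := exists_quot_embed Z N hcore
  have hc4 : Nat.card (X ⧸ N) = 4 := by rw [← Subgroup.index_eq_card, hN]; exact hI
  have hc24 : Nat.card (X ⧸ Z) = 24 := by rw [← Subgroup.index_eq_card]; exact hg
  have hperm : Nat.card (Equiv.Perm (X ⧸ N)) = 24 := by
    rw [Nat.card_perm, hc4]; rfl
  have hbij : Function.Bijective φ :=
    hφ.bijective_of_nat_card_le (by rw [hperm, hc24])
  exact ⟨(MulEquiv.ofBijective φ hbij).trans (Equiv.permCongrHom (Finite.equivFinOfCardEq hc4))⟩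

open Classical in
theorem card_sub_eq_sum_cls [Finite X] {Z : Subgroup X} (hCA : CA Z)
    [Fintype (Quotient (setoid hCA))] (K : Subgroup X) (hZK : Z ≤ K)
    (hK : ∀ y y' : X, y ∉ Z → y' ∉ Z → rel y y' → y ∈ K → y' ∈ K) :
    Nat.card K = Nat.card Z + ∑ q : Quotient (setoid hCA),
      if q.out.1 ∈ K then Nat.card {y : X // y ∉ Z ∧ rel q.out.1 y} else 0 := by
  classical
  have h0 := card_compl_sub hZK
  rw [← h0, add_comm]
  congr 1
  let α := {y : {x : X // x ∉ Z} // y.1 ∈ K}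
  have e1 : {y : X // y ∉ Z ∧ y ∈ K} ≃ α :=
    ⟨fun y => ⟨⟨y.1, y.2.1⟩, y.2.2⟩, fun y => ⟨y.1.1, y.1.2, y.2⟩, fun _ => rfl, fun _ => rfl⟩
  have e2 := Equiv.sigmaFiberEquiv (fun y : α => Quotient.mk (setoid hCA) y.1)
  rw [Nat.card_congr e1, ← Nat.card_congr e2, Nat.card_sigma]
  refine Finset.sum_congr rfl ?_
  intro q _
  split_ifs with hq
  · refine Nat.card_congr ⟨fun y => ⟨y.1.1.1, y.1.1.2, ?_⟩,
      fun y => ⟨⟨⟨y.1, y.2.1⟩, ?_⟩, ?_⟩, ?_, ?_⟩
    · have : Quotient.mk (setoid hCA) y.1.1 = Quotient.mk (setoid hCA) q.out := by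
        rw [y.2, Quotient.out_eq]
      exact rel_symm (Quotient.exact this)
    · exact hK _ _ q.out.2 y.2.1 y.2.2 hq
    · have : Quotient.mk (setoid hCA) ⟨y.1, y.2.1⟩ = Quotient.mk (setoid hCA) q.out :=
        Quotient.sound (rel_symm y.2.2)
      rw [this, Quotient.out_eq]
    · intro y; rfl
    · intro y; rfl
  · have : IsEmpty {y : α // Quotient.mk (setoid hCA) y.1 = q} := by
      constructor
      rintro ⟨y, hy⟩
      apply hq
      have h1 : Quotient.mk (setoid hCA) y.1 = Quotient.mk (setoid hCA) q.out := by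
        rw [hy, Quotient.out_eq]
      exact hK _ _ y.1.2 q.out.2 (Quotient.exact h1) y.2
    exact Nat.card_of_isEmpty

theorem cen_le_of_prime [Finite X] {Z : Subgroup X} (hCA : CA Z) (K : Subgroup X) (hZK : Z ≤ K)
    {w : X} (hwK : w ∈ K) (hwZ : w ∉ Z) (hp : (cA Z w).Prime) : cen w ≤ K := by
  have hZD : Z ≤ K ⊓ cen w := le_inf hZK (hCA.le_cen w)
  have h1 : Nat.card Z ∣ Nat.card (K ⊓ cen w : Subgroup X) := Subgroup.card_dvd_of_le hZD
  have h2 : Nat.card (K ⊓ cen w : Subgroup X) ∣ Nat.card (cen w) :=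
    Subgroup.card_dvd_of_le inf_le_right
  have h3 := card_cen hCA w
  have hz : 0 < Nat.card Z := Nat.card_pos
  obtain ⟨d, hd⟩ := h1
  rw [hd, h3] at h2
  have h4 : d ∣ cA Z w := (Nat.mul_dvd_mul_iff_left hz).mp h2
  rcases (Nat.dvd_prime hp).mp h4 with h5 | h5
  · exfalso
    rw [h5, mul_one] at hd
    have : Z = K ⊓ cen w := Subgroup.eq_of_le_of_card_ge hZD (le_of_eq hd)
    apply hwZ
    rw [this]
    exact Subgroup.mem_inf.mpr ⟨hwK, mem_cen.mpr (Commute.refl w)⟩
  · have h6 : Nat.card (K ⊓ cen w : Subgroup X) = Nat.card (cen w) := by rw [hd, h5, h3]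
    have : K ⊓ cen w = cen w := Subgroup.eq_of_le_of_card_ge inf_le_right (le_of_eq h6.symm)
    rw [← this]; exact inf_le_left

theorem ident_A5 [Finite X] {Z : Subgroup X} [Z.Normal] (hCA : CA Z) (hg : Z.index = 60)
    [Fintype (Quotient (setoid hCA))]
    (q1 q2 q3 : Quotient (setoid hCA)) (hcov : ∀ q, q = q1 ∨ q = q2 ∨ q = q3)
    (ha1 : cA Z q1.out.1 = 2) (ha2 : cA Z q2.out.1 = 3) (ha3 : cA Z q3.out.1 = 5)
    (hn1 : cN q1.out.1 = 2) (hn2 : cN q2.out.1 = 2) (hn3 : cN q3.out.1 = 2) :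
    Nonempty (X ⧸ Z ≃* alternatingGroup (Fin 5)) := by
  classical
  have hi1 := index_eq hCA q1.out.1
  have hi2 := index_eq hCA q2.out.1
  have hi3 := index_eq hCA q3.out.1
  rw [hg, ha1, hn1] at hi1
  rw [hg, ha2, hn2] at hi2
  rw [hg, ha3, hn3] at hi3
  have hI1 : cI q1.out.1 = 15 := by omega
  have hI2 : cI q2.out.1 = 10 := by omega
  have hI3 : cI q3.out.1 = 6 := by omega
  have h12 : q1 ≠ q2 := by intro h; rw [h] at ha1; omega
  have h13 : q1 ≠ q3 := by intro h; rw [h] at ha1; omega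
  have h23 : q2 ≠ q3 := by intro h; rw [h] at ha2; omega
  have huniv : (Finset.univ : Finset (Quotient (setoid hCA))) = {q1, q2, q3} := by
    ext q
    simp only [Finset.mem_univ, Finset.mem_insert, Finset.mem_singleton, true_iff]
    exact hcov q
  have hprime : ∀ w : X, w ∉ Z → (cA Z w).Prime := by
    intro w hw
    have hrel : rel (Quotient.mk (setoid hCA) ⟨w, hw⟩).out.1 w :=
      Quotient.exact (Quotient.out_eq (Quotient.mk (setoid hCA) ⟨w, hw⟩))
    have h1 := (inv_of_rel hCA (Quotient.mk (setoid hCA) ⟨w, hw⟩).out.2 hw hrel).1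
    rw [h1]
    rcases hcov (Quotient.mk (setoid hCA) ⟨w, hw⟩) with h | h | h <;> rw [h]
    · rw [ha1]; exact Nat.prime_two
    · rw [ha2]; exact Nat.prime_three
    · rw [ha3]; exact Nat.prime_five
  have hz : 0 < Nat.card Z := Nat.card_pos
  have hX : Nat.card X = Nat.card Z * 60 := by rw [← hg]; exact (Z.card_mul_index).symm
  have hnt : Nontrivial (X ⧸ Z) := by
    rw [← Finite.one_lt_card_iff_nontrivial, ← Subgroup.index_eq_card, hg]; norm_num
  have hsimple : IsSimpleGroup (X ⧸ Z) := by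
    refine { exists_pair_ne := hnt.exists_pair_ne, eq_bot_or_eq_top_of_normal := ?_ }
    intro Nb hNb
    obtain ⟨K, hKdef⟩ : ∃ K, K = Nb.comap (QuotientGroup.mk' Z) := ⟨_, rfl⟩
    have hKn : K.Normal := by rw [hKdef]; exact hNb.comap _
    have hZK : Z ≤ K := by
      intro z hz
      rw [hKdef, Subgroup.mem_comap]
      have : QuotientGroup.mk' Z z = 1 := (QuotientGroup.eq_one_iff z).mpr hz
      rw [this]; exact one_mem _
    have hclosed : ∀ y y' : X, y ∉ Z → y' ∉ Z → rel y y' → y ∈ K → y' ∈ K := by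
      intro y y' hy hy' hr hyK
      obtain ⟨u, hu⟩ := hr
      have hwK : u * y * u⁻¹ ∈ K := hKn.conj_mem y hyK u
      have hwZ : u * y * u⁻¹ ∉ Z := fun h => hy ((conj_mem_iff hCA.central u y).mp h)
      exact cen_le_of_prime hCA K hZK hwK hwZ (hprime _ hwZ) (mem_cen.mpr hu.symm)
    have hcard := card_sub_eq_sum_cls hCA K hZK hclosed
    rw [huniv, Finset.sum_insert (by simp [h12, h13]), Finset.sum_insert (by simp [h23]),
      Finset.sum_singleton] at hcard
    have c1 := card_cls' hCA q1.out.2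
    have c2 := card_cls' hCA q2.out.2
    have c3 := card_cls' hCA q3.out.2
    rw [hI1, ha1] at c1
    rw [hI2, ha2] at c2
    rw [hI3, ha3] at c3
    rw [c1, c2, c3] at hcard
    have hdvd : Nat.card K ∣ Nat.card X := Subgroup.card_subgroup_dvd_card K
    have key : ∀ c : ℕ, Nat.card K = Nat.card Z * c → (c = 1 ∨ c = 60 ∨ ¬ c ∣ 60) →
        Nb = ⊥ ∨ Nb = ⊤ := by
      intro c hc hcc
      have hcd : c ∣ 60 := by
        rw [hc, hX] at hdvd
        exact (Nat.mul_dvd_mul_iff_left hz).mp hdvd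
      have hNb : Nb = K.map (QuotientGroup.mk' Z) := by
        rw [hKdef, Subgroup.map_comap_eq_self_of_surjective (QuotientGroup.mk'_surjective Z)]
      rcases hcc with h | h | h
      · left
        subst h
        have hKZ : Z = K := Subgroup.eq_of_le_of_card_ge hZK (by rw [hc]; simp)
        rw [hNb, ← hKZ, eq_bot_iff]
        rintro _ ⟨z, hz, rfl⟩
        exact (QuotientGroup.eq_one_iff z).mpr hz
      · right
        subst h
        have hKtop : K = ⊤ := by
          apply Subgroup.eq_top_of_card_eq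
          rw [hc, hX]
        rw [hNb, hKtop]
        exact Subgroup.map_top_of_surjective _ (QuotientGroup.mk'_surjective Z)
      · exact absurd hcd h
    by_cases m1 : q1.out.1 ∈ K <;> by_cases m2 : q2.out.1 ∈ K <;> by_cases m3 : q3.out.1 ∈ K <;>
      simp only [m1, m2, m3, if_true, if_false] at hcard
    · exact key 60 (by rw [hcard]; ring) (Or.inr (Or.inl rfl))
    · exact key 36 (by rw [hcard]; ring) (Or.inr (Or.inr (by decide)))
    · exact key 40 (by rw [hcard]; ring) (Or.inr (Or.inr (by decide)))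
    · exact key 16 (by rw [hcard]; ring) (Or.inr (Or.inr (by decide)))
    · exact key 45 (by rw [hcard]; ring) (Or.inr (Or.inr (by decide)))
    · exact key 21 (by rw [hcard]; ring) (Or.inr (Or.inr (by decide)))
    · exact key 25 (by rw [hcard]; ring) (Or.inr (Or.inr (by decide)))
    · exact key 1 (by rw [hcard]; ring) (Or.inl rfl)
  haveI := hsimple
  apply simple_order_sixty
  rw [← Subgroup.index_eq_card]; exact hg

/-- **the coprime case**: all elements outside `Z` are torus-like. -/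
theorem abstract_prime_case [Finite X] {Z : Subgroup X} [Z.Normal] (hCA : CA Z)
    (htor : ∀ y : X, y ∉ Z → TorusLike y) :
    Z = ⊤ ∨ (∃ x : X, x ∉ Z ∧ cI x = 1) ∨
    (Z.index = 12 ∧ Nonempty (X ⧸ Z ≃* alternatingGroup (Fin 4))) ∨
    (Z.index = 24 ∧ Nonempty (X ⧸ Z ≃* Equiv.Perm (Fin 4))) ∨
    (Z.index = 60 ∧ Nonempty (X ⧸ Z ≃* alternatingGroup (Fin 5))) := by
  classical
  haveI : Fintype (Quotient (setoid hCA)) := Fintype.ofFinite _
  by_cases htop : Z = ⊤
  · exact Or.inl htop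
  by_cases hex : ∃ x : X, x ∉ Z ∧ cI x = 1
  · exact Or.inr (Or.inl hex)
  push Not at hex
  right; right
  have hI0 : ∀ x : X, cI x ≠ 0 := fun x => Subgroup.index_ne_zero_of_finite
  have hg2 : 2 ≤ Z.index := by
    have h0 : Z.index ≠ 0 := Subgroup.index_ne_zero_of_finite
    have h1 : Z.index ≠ 1 := fun h => htop (Subgroup.index_eq_one.mp h)
    omega
  have hnum := num_prime_case Z.index (fun q : Quotient (setoid hCA) => cI q.out.1)
    (fun q => cA Z q.out.1) (fun q => cN q.out.1)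
    (fun q => index_eq hCA q.out.1) (fun q => two_le_cA hCA q.out.2)
    (fun q => cN_eq_one_or_two q.out.1 (htor _ q.out.2))
    (fun q => by have := hex q.out.1 q.out.2; have := hI0 q.out.1; omega)
    (class_equation hCA) hg2
  rcases hnum with ⟨hg, q1, q2, _, _, hn1, ha1, _, _⟩ |
    ⟨q1, q2, q3, h12, h13, h23, hcov, hn1, hn2, hn3, ha1, ha2, h3⟩
  · left
    exact ⟨hg, ident_A4 hCA hg q1.out.1 q1.out.2 ha1 hn1⟩
  · beta_reduce at hn1 hn2 hn3 ha1 ha2 h3
    rcases h3 with ⟨ha3, hg⟩ | ⟨ha3, hg⟩ | ⟨ha3, hg⟩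
    · exfalso
      have hidx := index_eq hCA q2.out.1
      rw [hg, ha2, hn2] at hidx
      have hI : cI q2.out.1 = 2 := by omega
      have hsq := sq_mem_of_cI_two hCA q2.out.2 (htor _ q2.out.2) hI
      have hcube := pow_cA_mem hCA q2.out.1 (show q2.out.1 ∈ cen q2.out.1 by rw [mem_cen])
      rw [ha2] at hcube
      apply q2.out.2
      have e : q2.out.1 = q2.out.1 ^ 3 * (q2.out.1 ^ 2)⁻¹ := by group
      rw [e]; exact mul_mem hcube (inv_mem hsq)
    · right; left
      exact ⟨hg, ident_S4 hCA hg q2.out.1 q2.out.2 (htor _ q2.out.2) ha2 hn2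
        (fun y hy => hex y hy)⟩
    · right; right
      exact ⟨hg, ident_A5 hCA hg q1 q2 q3 hcov ha1 ha2 ha3 hn1 hn2 hn3⟩

/-- **the `p`-case**: a distinguished class (of the unipotent elements). -/
theorem abstract_p_case [Finite X] {Z : Subgroup X} [Z.Normal] (hCA : CA Z) (x1 : X)
    (hx1 : x1 ∉ Z) (q0 e m : ℕ) (hA : cA Z x1 = q0) (hN : cN x1 = e)
    (hI : cI x1 = 1 + m * q0) (hm : 1 ≤ m) (hdvd : e ∣ q0 - 1)
    (htor : ∀ y : X, y ∉ Z → ¬ rel x1 y → TorusLike y)
    (hK : 2 ≤ e → ∃ k : X, k ∉ Z ∧ ¬ rel x1 k ∧ cA Z k = e) :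
    m = 1 ∨ (∃ y : X, y ∉ Z ∧ ¬ rel x1 y ∧ cI y = 1) ∨
      (Z.index = 60 ∧ Nonempty (X ⧸ Z ≃* alternatingGroup (Fin 5))) := by
  classical
  haveI : Fintype (Quotient (setoid hCA)) := Fintype.ofFinite _
  by_cases hex : ∃ y : X, y ∉ Z ∧ ¬ rel x1 y ∧ cI y = 1
  · exact Or.inr (Or.inl hex)
  push Not at hex
  obtain ⟨qP, hqP⟩ : ∃ qP : Quotient (setoid hCA), qP = Quotient.mk (setoid hCA) ⟨x1, hx1⟩ :=
    ⟨_, rfl⟩
  have hrelP : rel x1 qP.out.1 := by
    have h1 : Quotient.mk (setoid hCA) qP.out = Quotient.mk (setoid hCA) ⟨x1, hx1⟩ := by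
      rw [Quotient.out_eq, hqP]
    exact rel_symm (Quotient.exact h1)
  obtain ⟨hPa, hPn, hPi⟩ := inv_of_rel hCA hx1 qP.out.2 hrelP
  have hne : ∀ q : Quotient (setoid hCA), q ≠ qP → ¬ rel x1 q.out.1 := by
    intro q hq hr
    apply hq
    rw [← Quotient.out_eq q, hqP]
    exact Quotient.sound (rel_symm hr)
  have hI0 : ∀ x : X, cI x ≠ 0 := fun x => Subgroup.index_ne_zero_of_finite
  have he1 : 1 ≤ e := by
    have h1 := card_nor x1
    have h2 : 0 < Nat.card (Subgroup.normalizer (cen x1 : Set X)) := Nat.card_pos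
    rw [h1, hN] at h2
    exact Nat.pos_of_mul_pos_left h2
  have hq0 : 2 ≤ q0 := by rw [← hA]; exact two_le_cA hCA hx1
  have hnum := num_p_case Z.index (fun q : Quotient (setoid hCA) => cI q.out.1)
    (fun q => cA Z q.out.1) (fun q => cN q.out.1) qP q0 e m hq0 he1 hm
    (fun q => index_eq hCA q.out.1) (fun q => two_le_cA hCA q.out.2)
    (by rw [← hA]; exact hPa) (by rw [← hN]; exact hPn) (by rw [← hI]; exact hPi) hdvd
    (fun q hq => cN_eq_one_or_two q.out.1 (htor _ q.out.2 (hne q hq)))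
    (fun q hq => by have := hex q.out.1 q.out.2 (hne q hq); have := hI0 q.out.1; omega)
    (fun he2 => by
      obtain ⟨k, hkZ, hkr, hka⟩ := hK he2
      refine ⟨Quotient.mk (setoid hCA) ⟨k, hkZ⟩, ?_, ?_⟩
      · intro h
        apply hkr
        rw [hqP] at h
        exact rel_symm (Quotient.exact h)
      · have hr0 : rel (Quotient.mk (setoid hCA) ⟨k, hkZ⟩).out.1 k :=
          Quotient.exact (Quotient.out_eq (Quotient.mk (setoid hCA) ⟨k, hkZ⟩))
        have hr : rel k (Quotient.mk (setoid hCA) ⟨k, hkZ⟩).out.1 := rel_symm hr0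
        rw [← hka]
        exact (inv_of_rel hCA hkZ (Quotient.mk (setoid hCA) ⟨k, hkZ⟩).out.2 hr).1)
    (class_equation hCA)
  rcases hnum with ⟨hm1, _⟩ |
    ⟨hq3, _, he2, hg, qK, qB, hKP, hBP, hKB, hcov, haK, hnK, haB, hnB⟩
  · exact Or.inl hm1
  · right; right
    refine ⟨hg, ident_A5 hCA hg qK qP qB ?_ haK ?_ haB hnK ?_ hnB⟩
    · intro q
      rcases hcov q with h | h | h
      · right; left; exact h
      · left; exact h
      · right; right; exact h
    · rw [hPa, hA, hq3]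
    · rw [hPn, hN, he2]

end Cfsg.Agent.Helper41.Dk
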