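import Cfsg.Agent.Helper41.DkNorm

set_option autoImplicit false

/-!
# Dickson's classification of the finite subgroups of `SL₂(F)`, `F` a finite field

`Cfsg.Agent.Helper41.Dk.dickson`: for an injective hom `ι : X →* SL₂(F)` whose image contains
the centre (`Z` = preimage of the centre), one of the following holds (`Dk.Concl ι Z`):

* (B) the image fixes a line of `F²`;
* (T) there is a non-central `x` with `tr(ι x)² ≠ 4` such that every `g` conjugates `x` to `x`
  or `x⁻¹` (so `X` normalises the torus `C(x)`; the image in `PSL₂` is cyclic or dihedral);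
* `X ⧸ Z ≃* A₄`, `S₄` or `A₅` (with `Z.index = 12, 24, 60`);
* (S) after conjugation by some `Q ∈ GL₂(F)` the image is `SL₂(K₀)` (all entries in the
  subfield `K₀`) or `SL₂(K₀) ∪ λ⁻¹·(matrices over K₀)` with `λ ∉ K₀`, `λ² ∈ K₀`
  (image `PGL₂(K₀)` in `PSL₂(F)`).
-/

namespace Cfsg.Agent.Helper41.Dk

open Cfsg.Agent.Helper41 Matrix

variable {F : Type*} [Field F]

local notation "SL2" => Matrix.SpecialLinearGroup (Fin 2) F

theorem conjGL_of_center (Q : Matrix (Fin 2) (Fin 2) F) (hQ : Q.det ≠ 0) {z : SL2}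
    (hz : z ∈ Subgroup.center SL2) : conjGL Q hQ z = z := by
  apply Subtype.ext
  rw [conjGL_coe]
  have e := Matrix.nonsing_inv_mul Q (isUnit_iff_ne_zero.mpr hQ)
  rcases (mem_center_iff_pm z).mp hz with h | h
  · rw [h, Matrix.mul_one, e]
  · rw [h, Matrix.mul_neg, Matrix.mul_one, Matrix.neg_mul, e]

theorem conjGL_mem_center (Q : Matrix (Fin 2) (Fin 2) F) (hQ : Q.det ≠ 0) (g : SL2) :
    conjGL Q hQ g ∈ Subgroup.center SL2 ↔ g ∈ Subgroup.center SL2 := by
  constructor
  · intro h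
    have h1 := conjGL_of_center Q hQ h
    have h2 : conjGL Q hQ g = g := conjGL_injective Q hQ h1
    rw [← h2]; exact h
  · intro h
    rw [conjGL_of_center Q hQ h]; exact h

theorem tr_conjGL (Q : Matrix (Fin 2) (Fin 2) F) (hQ : Q.det ≠ 0) (g : SL2) :
    tr (conjGL Q hQ g) = tr g := by
  show (Q⁻¹ * g.1 * Q).trace = g.1.trace
  rw [Matrix.trace_mul_comm, ← Matrix.mul_assoc,
    Matrix.mul_nonsing_inv Q (isUnit_iff_ne_zero.mpr hQ), Matrix.one_mul]

theorem conjGL_comp (Q1 Q2 : Matrix (Fin 2) (Fin 2) F) (h1 : Q1.det ≠ 0) (h2 : Q2.det ≠ 0)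
    (h12 : (Q1 * Q2).det ≠ 0) (g : SL2) :
    conjGL Q2 h2 (conjGL Q1 h1 g) = conjGL (Q1 * Q2) h12 g := by
  apply Subtype.ext
  symm
  apply conjGL_eq_of_mul_eq
  rw [conjGL_coe, conjGL_coe]
  have e1 : Q1 * Q1⁻¹ = 1 := Matrix.mul_nonsing_inv Q1 (isUnit_iff_ne_zero.mpr h1)
  have e2 : Q2 * Q2⁻¹ = 1 := Matrix.mul_nonsing_inv Q2 (isUnit_iff_ne_zero.mpr h2)
  calc Q1 * Q2 * (Q2⁻¹ * (Q1⁻¹ * g.1 * Q1) * Q2)
      = Q1 * (Q2 * Q2⁻¹) * (Q1⁻¹ * g.1 * Q1) * Q2 := by simp only [Matrix.mul_assoc]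
    _ = (Q1 * Q1⁻¹) * g.1 * Q1 * Q2 := by rw [e2, Matrix.mul_one]; simp only [Matrix.mul_assoc]
    _ = g.1 * (Q1 * Q2) := by rw [e1, Matrix.one_mul, Matrix.mul_assoc]

/-- **Dickson's theorem** for finite subgroups of `SL₂(F)` containing the centre. -/
theorem dickson [Fintype F] (p : ℕ) [Fact p.Prime] [CharP F p] {X : Type*} [Group X] [Finite X]
    (ι : X →* Matrix.SpecialLinearGroup (Fin 2) F) (hι : Function.Injective ι)
    (Z : Subgroup X) [Z.Normal]
    (hZ : ∀ g : X, g ∈ Z ↔ ι g ∈ Subgroup.center SL2)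
    (hcen : ∀ z : SL2, z ∈ Subgroup.center SL2 → ∃ g : X, ι g = z) : Concl ι Z := by
  by_cases hex : ∃ u : X, u ∉ Z ∧ tr (ι u : SL2) ^ 2 = 4
  · obtain ⟨u0, hu0Z, hu0⟩ := hex
    obtain ⟨u, huZ, hu⟩ : ∃ u : X, u ∉ Z ∧ tr (ι u : SL2) = 2 := by
      have h1 : (tr (ι u0 : SL2) - 2) * (tr (ι u0 : SL2) + 2) = 0 := by
        linear_combination hu0
      rcases mul_eq_zero.mp h1 with h | h
      · exact ⟨u0, hu0Z, by linear_combination h⟩
      · obtain ⟨z, hz⟩ := hcen (mkSL (-1) 0 0 (-1) (by ring))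
          ((center_iff_entries _).mpr ⟨rfl, rfl, rfl⟩)
        have hzZ : z ∈ Z :=
          (hZ z).mpr (by rw [hz]; exact (center_iff_entries _).mpr ⟨rfl, rfl, rfl⟩)
        refine ⟨z * u0, fun hh => hu0Z (by
          have := mul_mem (inv_mem hzZ) hh
          rwa [inv_mul_cancel_left] at this), ?_⟩
        rw [tr_eq] at h ⊢
        rw [map_mul, hz]; simp only [mul_e00, mul_e01, mul_e10, mul_e11, mk_e00, mk_e01, mk_e10, mk_e11, Ux_e00, Ux_e01, Ux_e10, Ux_e11, inv_e00, inv_e01, inv_e10, inv_e11]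
        linear_combination (-1 : F) * h
    obtain ⟨n, b, c, hn, hform⟩ := unip_form (ι u) hu
    have h00 : (ι u).1 0 0 = 1 + n := by rw [hform]; rfl
    have h01 : (ι u).1 0 1 = b := by rw [hform]; rfl
    have h10 : (ι u).1 1 0 = c := by rw [hform]; rfl
    have h11 : (ι u).1 1 1 = 1 - n := by rw [hform]; rfl
    obtain ⟨Q, hQ, hQu⟩ : ∃ (Q : Matrix (Fin 2) (Fin 2) F) (hQ : Q.det ≠ 0),
        conjGL Q hQ (ι u) = Ux 1 := by
      by_cases hc : c = 0
      · have hn0 : n = 0 := by
          rw [hc, mul_zero, add_zero] at hn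
          exact mul_self_eq_zero.mp hn
        have hb0 : b ≠ 0 := by
          intro hb
          apply huZ
          rw [hZ]
          exact (center_iff_entries _).mpr
            ⟨by rw [h10, hc], by rw [h01, hb], by rw [h00, h11, hn0]; ring⟩
        refine ⟨!![b, 0; 0, 1], by rw [Matrix.det_fin_two_of]; simpa using hb0, ?_⟩
        apply Subtype.ext
        apply conjGL_eq_of_mul_eq
        rw [hform, hc, hn0]
        ext i j
        fin_cases i <;> fin_cases j <;> simp [Ux, Matrix.mul_apply, Fin.sum_univ_two]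
      · refine ⟨!![n, 1; c, 0], by rw [Matrix.det_fin_two_of]; simpa using hc, ?_⟩
        apply Subtype.ext
        apply conjGL_eq_of_mul_eq
        rw [hform]
        ext i j
        fin_cases i <;> fin_cases j <;> simp [Ux, Matrix.mul_apply, Fin.sum_univ_two]
        all_goals first | ring1 | linear_combination (-1 : F) * hn
    obtain ⟨ι', hι'⟩ : ∃ ι' : X →* SL2, ι' = (conjGL Q hQ).comp ι := ⟨_, rfl⟩
    have hι'a : ∀ g : X, ι' g = conjGL Q hQ (ι g) := fun g => by rw [hι']; rfl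
    have D : NData ι' Z u :=
      { inj := by rw [hι']; exact (conjGL_injective Q hQ).comp hι
        hZ := fun g => by rw [hZ, hι'a, conjGL_mem_center]
        hx1 := by rw [hι'a, hQu]
        hcen := fun z hz => by
          obtain ⟨g, hg⟩ := hcen z hz
          exact ⟨g, by rw [hι'a, hg, conjGL_of_center Q hQ hz]⟩ }
    have hQi := Matrix.nonsing_inv_mul Q (isUnit_iff_ne_zero.mpr hQ)
    have hQi' := Matrix.mul_nonsing_inv Q (isUnit_iff_ne_zero.mpr hQ)
    rcases norm_case p D with ⟨v, hv0, hv⟩ | ⟨x, hxZ, hxt, hx⟩ | h | h | h | ⟨Q2, hQ2, K0, hK⟩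
    · left
      refine ⟨Q *ᵥ v, ?_, ?_⟩
      · intro h0
        apply hv0
        have : Q⁻¹ *ᵥ (Q *ᵥ v) = v := by
          rw [Matrix.mulVec_mulVec, hQi, Matrix.one_mulVec]
        rw [← this, h0, Matrix.mulVec_zero]
      · intro g
        obtain ⟨c, hc⟩ := hv g
        refine ⟨c, ?_⟩
        rw [hι'a, conjGL_coe] at hc
        have h1 := congrArg (fun w => Q *ᵥ w) hc
        simp only [Matrix.mulVec_mulVec, Matrix.mulVec_smul] at h1
        rw [← Matrix.mul_assoc, ← Matrix.mul_assoc, hQi', Matrix.one_mul] at h1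
        rw [Matrix.mulVec_mulVec]; exact h1
    · right; left
      refine ⟨x, hxZ, ?_, hx⟩
      rw [hι'a, tr_conjGL] at hxt; exact hxt
    · right; right; left; exact h
    · right; right; right; left; exact h
    · right; right; right; right; left; exact h
    · right; right; right; right; right
      have hQQ : (Q * Q2).det ≠ 0 := by rw [Matrix.det_mul]; exact mul_ne_zero hQ hQ2
      refine ⟨Q * Q2, hQQ, K0, ?_⟩
      have e : (conjGL (Q * Q2) hQQ).comp ι = (conjGL Q2 hQ2).comp ι' := by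
        apply MonoidHom.ext
        intro g
        rw [MonoidHom.comp_apply, MonoidHom.comp_apply, hι'a, conjGL_comp Q Q2 hQ hQ2 hQQ]
      rw [e]; exact hK
  · push Not at hex
    have hCA := ca_of_hom ι hι Z hZ
    rcases abstract_prime_case hCA (fun y hy =>
      torusLike_of_tr ι hι (fun h => hy ((hZ y).mpr h)) (hex y hy)) with
      h | ⟨x, hxZ, hI⟩ | h | h | h
    · left
      refine ⟨![1, 0], ?_, ?_⟩
      · intro h0
        have := congrFun h0 0
        simp at this
      · intro g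
        have hg : g ∈ Z := by rw [h]; trivial
        obtain ⟨g1, g2, g3⟩ := (center_iff_entries _).mp ((hZ g).mp hg)
        refine ⟨(ι g).1 0 0, ?_⟩
        ext i
        fin_cases i
        · simp [Matrix.mulVec, dotProduct, Fin.sum_univ_two]
        · simp [Matrix.mulVec, dotProduct, Fin.sum_univ_two, g1]
    · right; left
      exact ⟨x, hxZ, hex x hxZ, concl_T_of_cI ι hι Z hZ hxZ (hex x hxZ) hI⟩
    · right; right; left; exact h
    · right; right; right; left; exact h
    · right; right; right; right; left; exact h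

/-- **Dickson's theorem** for subgroups of `SL₂(F)` containing the centre. -/
theorem dickson_subgroup [Fintype F] (p : ℕ) [Fact p.Prime] [CharP F p]
    (H : Subgroup (Matrix.SpecialLinearGroup (Fin 2) F)) (hH : Subgroup.center SL2 ≤ H) :
    Concl H.subtype ((Subgroup.center SL2).subgroupOf H) := by
  classical
  exact dickson p H.subtype H.subtype_injective _ (fun g => Iff.rfl)
    (fun z hz => ⟨⟨z, hH hz⟩, rfl⟩)

end Cfsg.Agent.Helper41.Dk
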