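import Cfsg.Agent.Helper41.DkUnip
import Cfsg.Agent.Helper41.DkClass

set_option autoImplicit false

/-!
# Dickson, part 3: matrix facts on `SL₂(F)`
-/

namespace Cfsg.Agent.Helper41.Dk

open Cfsg.Agent.Helper41 Matrix

variable {F : Type*} [Field F]

local notation "SL2" => Matrix.SpecialLinearGroup (Fin 2) F

theorem not_center_iff (z : SL2) :
    z ∉ Subgroup.center SL2 ↔ (z.1 1 0 ≠ 0 ∨ z.1 0 1 ≠ 0 ∨ z.1 0 0 ≠ z.1 1 1) := by
  constructor
  · intro h
    apply entries_of_pmk_ne_one
    rw [Ne, pmk_eq_one_iff, ← mem_center_iff_pm]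
    exact h
  · intro h hc
    rw [mem_center_iff_pm] at hc
    rcases hc with hc | hc <;> rw [hc] at h <;> simp at h

theorem coe_mul_eq (g z : SL2) (h : Commute g z) : g.1 * z.1 = z.1 * g.1 := by
  have := congrArg Subtype.val h.eq
  simpa using this

/-- the commutant of a non-scalar element is `F[z]`. -/
theorem comm_coords (z g : SL2) (hz : z ∉ Subgroup.center SL2) (h : Commute g z) :
    ∃ α β : F, g.1 0 0 = α + β * z.1 0 0 ∧ g.1 0 1 = β * z.1 0 1 ∧ g.1 1 0 = β * z.1 1 0 ∧
      g.1 1 1 = α + β * z.1 1 1 := by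
  have hm := coe_mul_eq g z h
  have e00 := congrFun (congrFun hm 0) 0
  have e01 := congrFun (congrFun hm 0) 1
  have e10 := congrFun (congrFun hm 1) 0
  simp only [Matrix.mul_apply, Fin.sum_univ_two] at e00 e01 e10
  rcases (not_center_iff z).mp hz with hc | hb | had
  · refine ⟨g.1 0 0 - g.1 1 0 / z.1 1 0 * z.1 0 0, g.1 1 0 / z.1 1 0, by ring, ?_, ?_, ?_⟩
    · field_simp
      linear_combination e00
    · field_simp
    · field_simp
      linear_combination e10
  · refine ⟨g.1 0 0 - g.1 0 1 / z.1 0 1 * z.1 0 0, g.1 0 1 / z.1 0 1, by ring, ?_, ?_, ?_⟩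
    · field_simp
    · field_simp
      linear_combination (-1 : F) * e00
    · field_simp
      linear_combination (-1 : F) * e01
  · have hd : z.1 0 0 - z.1 1 1 ≠ 0 := sub_ne_zero.mpr had
    by_cases hb : z.1 0 1 = 0
    · by_cases hc : z.1 1 0 = 0
      · have h01 : g.1 0 1 = 0 := by
          have : g.1 0 1 * (z.1 0 0 - z.1 1 1) = 0 := by
            rw [hb] at e01; linear_combination (-1 : F) * e01
          exact (mul_eq_zero.mp this).resolve_right hd
        have h10 : g.1 1 0 = 0 := by
          have : g.1 1 0 * (z.1 0 0 - z.1 1 1) = 0 := by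
            rw [hc] at e10; linear_combination e10
          exact (mul_eq_zero.mp this).resolve_right hd
        refine ⟨g.1 0 0 - (g.1 0 0 - g.1 1 1) / (z.1 0 0 - z.1 1 1) * z.1 0 0,
          (g.1 0 0 - g.1 1 1) / (z.1 0 0 - z.1 1 1), by ring, ?_, ?_, ?_⟩
        · rw [hb, h01]; ring
        · rw [hc, h10]; ring
        · field_simp
          ring
      · refine ⟨g.1 0 0 - g.1 1 0 / z.1 1 0 * z.1 0 0, g.1 1 0 / z.1 1 0, by ring, ?_, ?_, ?_⟩
        · field_simp
          linear_combination e00
        · field_simp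
        · field_simp
          linear_combination e10
    · refine ⟨g.1 0 0 - g.1 0 1 / z.1 0 1 * z.1 0 0, g.1 0 1 / z.1 0 1, by ring, ?_, ?_, ?_⟩
      · field_simp
      · field_simp
        linear_combination (-1 : F) * e00
      · field_simp
        linear_combination (-1 : F) * e01

theorem comm_of_coords (z g : SL2) (α β : F) (h00 : g.1 0 0 = α + β * z.1 0 0)
    (h01 : g.1 0 1 = β * z.1 0 1) (h10 : g.1 1 0 = β * z.1 1 0)
    (h11 : g.1 1 1 = α + β * z.1 1 1) : Commute g z := by
  apply Subtype.ext
  rw [Matrix.SpecialLinearGroup.coe_mul, Matrix.SpecialLinearGroup.coe_mul]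
  ext i j
  fin_cases i <;> fin_cases j <;>
    simp [Matrix.mul_apply, Fin.sum_univ_two, h00, h01, h10, h11] <;> ring

/-- `SL₂(F)` is a CA-group modulo its centre. -/
theorem sl2_CA : CA (Subgroup.center SL2) := by
  refine ⟨le_refl _, ?_⟩
  intro z hz g h hg hh
  obtain ⟨α, β, g00, g01, g10, g11⟩ := comm_coords z g hz hg
  obtain ⟨α', β', h00, h01, h10, h11⟩ := comm_coords z h hz hh
  apply Subtype.ext
  rw [Matrix.SpecialLinearGroup.coe_mul, Matrix.SpecialLinearGroup.coe_mul]
  ext i j
  fin_cases i <;> fin_cases j <;>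
    simp [Matrix.mul_apply, Fin.sum_univ_two, g00, g01, g10, g11, h00, h01, h10, h11] <;> ring

/-- the trace of an element of `SL₂`. -/
abbrev tr (g : SL2) : F := (g : Matrix (Fin 2) (Fin 2) F).trace

theorem tr_eq (g : SL2) : tr g = g.1 0 0 + g.1 1 1 := Matrix.trace_fin_two _

theorem tr_conj (u g : SL2) : tr (u * g * u⁻¹) = tr g := trace_conj u g

theorem inv_entries (x : SL2) : (x⁻¹).1 0 0 = x.1 1 1 ∧ (x⁻¹).1 0 1 = - x.1 0 1 ∧
    (x⁻¹).1 1 0 = - x.1 1 0 ∧ (x⁻¹).1 1 1 = x.1 0 0 := by
  rw [Matrix.SpecialLinearGroup.coe_inv, Matrix.adjugate_fin_two]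
  simp

theorem sl_ext {g h : SL2} (h00 : g.1 0 0 = h.1 0 0) (h01 : g.1 0 1 = h.1 0 1)
    (h10 : g.1 1 0 = h.1 1 0) (h11 : g.1 1 1 = h.1 1 1) : g = h := by
  apply Subtype.ext
  ext i j
  fin_cases i <;> fin_cases j <;> assumption

/-- a conjugate of a regular semisimple `x` which commutes with `x` is `x` or `x⁻¹`. -/
theorem torus_conj (x y : SL2) (hx : x ∉ Subgroup.center SL2) (ht : tr x ^ 2 ≠ 4)
    (hc : Commute y x) (htr : tr y = tr x) : y = x ∨ y = x⁻¹ := by
  obtain ⟨α, β, y00, y01, y10, y11⟩ := comm_coords x y hx hc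
  have hdx := sl2_det x
  have hdy := sl2_det y
  obtain ⟨i00, i01, i10, i11⟩ := inv_entries x
  rw [tr_eq, tr_eq, y00, y11] at htr
  rw [tr_eq] at ht
  rw [y00, y01, y10, y11] at hdy
  set a := x.1 0 0
  set b := x.1 0 1
  set c := x.1 1 0
  set d := x.1 1 1
  have h1 : 2 * α + β * (a + d) = a + d := by linear_combination htr
  have h2 : α ^ 2 + α * β * (a + d) + β ^ 2 = 1 := by
    linear_combination hdy - β ^ 2 * hdx
  have h3 : (1 - β ^ 2) * ((a + d) ^ 2 - 4) = 0 := by
    linear_combination 4 * h2 - (2 * α + (a + d) * (1 - β) + 2 * β * (a + d)) * h1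
  have h4 : 1 - β ^ 2 = 0 := (mul_eq_zero.mp h3).resolve_right (sub_ne_zero.mpr ht)
  have h5 : (β - 1) * (β + 1) = 0 := by linear_combination (-1 : F) * h4
  rcases mul_eq_zero.mp h5 with hb | hb
  · have hβ : β = 1 := by linear_combination hb
    subst hβ
    have h6 : α * (α + (a + d)) = 0 := by linear_combination h2
    have h7 : (2 : F) * α = 0 := by linear_combination h1
    rcases mul_eq_zero.mp h6 with ha | ha
    · left
      apply sl_ext
      · rw [y00, ha]; ring
      · rw [y01]; ring
      · rw [y10]; ring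
      · rw [y11, ha]; ring
    · have hα : α = -(a + d) := by linear_combination ha
      by_cases ht0 : a + d = 0
      · left
        apply sl_ext
        · rw [y00, hα]; linear_combination (-1 : F) * ht0
        · rw [y01]; ring
        · rw [y10]; ring
        · rw [y11, hα]; linear_combination (-1 : F) * ht0
      · right
        have h20 : (2 : F) = 0 := by
          have : (2 : F) * (a + d) = 0 := by rw [hα] at h7; linear_combination (-1 : F) * h7
          exact (mul_eq_zero.mp this).resolve_right ht0
        apply sl_ext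
        · rw [y00, i00, hα]; linear_combination (-d) * h20
        · rw [y01, i01]; linear_combination b * h20
        · rw [y10, i10]; linear_combination c * h20
        · rw [y11, i11, hα]; linear_combination (-a) * h20
  · have hβ : β = -1 := by linear_combination hb
    subst hβ
    have h6 : α * (α - (a + d)) = 0 := by linear_combination h2
    have h7 : (2 : F) * α = 2 * (a + d) := by linear_combination h1
    rcases mul_eq_zero.mp h6 with ha | ha
    · by_cases ht0 : a + d = 0
      · right
        apply sl_ext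
        · rw [y00, i00, ha]; linear_combination (-1 : F) * ht0
        · rw [y01, i01]; ring
        · rw [y10, i10]; ring
        · rw [y11, i11, ha]; linear_combination (-1 : F) * ht0
      · left
        have h20 : (2 : F) = 0 := by
          have : (2 : F) * (a + d) = 0 := by rw [ha] at h7; linear_combination (-1 : F) * h7
          exact (mul_eq_zero.mp this).resolve_right ht0
        apply sl_ext
        · rw [y00, ha]; linear_combination (-a) * h20
        · rw [y01]; linear_combination (-b) * h20
        · rw [y10]; linear_combination (-c) * h20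
        · rw [y11, ha]; linear_combination (-d) * h20
    · right
      have hα : α = a + d := by linear_combination ha
      apply sl_ext
      · rw [y00, i00, hα]; ring
      · rw [y01, i01]; ring
      · rw [y10, i10]; ring
      · rw [y11, i11, hα]; ring

end Cfsg.Agent.Helper41.Dk
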