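import Cfsg.Agent.Helper41.DkPSL

set_option autoImplicit false

/-!
# Dickson, part 11: tools for overgroups / maximal subgroups of `PSL₂(q)`
-/

namespace Cfsg.Agent.Helper41.Dk

open Cfsg.Agent.Helper41 Matrix

variable {F : Type*} [Field F]

local notation "SL2" => Matrix.SpecialLinearGroup (Fin 2) F

/-- the full preimage in `SL₂` of a subgroup of `PSL₂`. -/
abbrev pre (H : Subgroup (SL2 ⧸ Subgroup.center SL2)) : Subgroup SL2 :=
  H.comap (QuotientGroup.mk' (Subgroup.center SL2))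

theorem center_le_pre (H : Subgroup (SL2 ⧸ Subgroup.center SL2)) :
    Subgroup.center SL2 ≤ pre H := by
  intro z hz
  rw [Subgroup.mem_comap, QuotientGroup.mk'_apply, (QuotientGroup.eq_one_iff z).mpr hz]
  exact H.one_mem

theorem pre_le_pre {H M : Subgroup (SL2 ⧸ Subgroup.center SL2)} : pre H ≤ pre M ↔ H ≤ M :=
  Subgroup.comap_le_comap_of_surjective (QuotientGroup.mk'_surjective _)

theorem pre_injective :
    Function.Injective (pre : Subgroup (SL2 ⧸ Subgroup.center SL2) → Subgroup SL2) :=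
  Subgroup.comap_injective (QuotientGroup.mk'_surjective _)

theorem pre_eq_top {H : Subgroup (SL2 ⧸ Subgroup.center SL2)} : pre H = ⊤ ↔ H = ⊤ := by
  constructor
  · intro h
    apply pre_injective
    rw [h]; rfl
  · rintro rfl; rfl

theorem pre_map (S : Subgroup SL2) (hS : Subgroup.center SL2 ≤ S) :
    pre (S.map (QuotientGroup.mk' (Subgroup.center SL2))) = S := by
  rw [pre, Subgroup.comap_map_eq, QuotientGroup.ker_mk', sup_eq_left.mpr hS]

/-- maximality in `PSL₂` from maximality of the preimage in `SL₂`. -/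
theorem isCoatom_of_pre (H : Subgroup (SL2 ⧸ Subgroup.center SL2)) (hH : pre H ≠ ⊤)
    (hmax : ∀ Mt : Subgroup SL2, pre H ≤ Mt → Mt ≠ pre H → Mt = ⊤) : IsCoatom H := by
  refine ⟨fun h => hH (pre_eq_top.mpr h), fun M hM => ?_⟩
  apply pre_eq_top.mp
  apply hmax (pre M) (pre_le_pre.mpr hM.le)
  intro h
  exact hM.ne (pre_injective h).symm

theorem card_pre [Fintype F] (H : Subgroup (SL2 ⧸ Subgroup.center SL2)) :
    Nat.card (pre H) = Nat.card H * Nat.card (Subgroup.center SL2) := by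
  classical
  obtain ⟨e⟩ := psl_bridge H
  rw [Subgroup.card_eq_card_quotient_mul_card_subgroup
    ((Subgroup.center SL2).subgroupOf (pre H)), Nat.card_congr e.toEquiv,
    Nat.card_congr (Subgroup.subgroupOfEquivOfLe (center_le_pre H)).toEquiv]

theorem card_of_index [Fintype F] (Mt : Subgroup SL2) (hle : Subgroup.center SL2 ≤ Mt) :
    Nat.card Mt = ((Subgroup.center SL2).subgroupOf Mt).index *
      Nat.card (Subgroup.center SL2) := by
  classical
  rw [← Subgroup.index_mul_card ((Subgroup.center SL2).subgroupOf Mt),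
    Nat.card_congr (Subgroup.subgroupOfEquivOfLe hle).toEquiv]

/-! ### killing the Borel case -/

theorem no_fix_Ux_Lx (v : Fin 2 → F) (hv : v ≠ 0) (c c' : F)
    (h1 : (Ux (1 : F)).1 *ᵥ v = c • v) (h2 : (Lx (1 : F)).1 *ᵥ v = c' • v) : False := by
  have e0 := congrFun h1 0
  have e1 := congrFun h1 1
  have f0 := congrFun h2 0
  have f1 := congrFun h2 1
  simp only [Matrix.mulVec, dotProduct, Fin.sum_univ_two, Pi.smul_apply, smul_eq_mul, Lx,
    Ux_e00, Ux_e01, Ux_e10, Ux_e11, mk_e00, mk_e01, mk_e10, mk_e11] at e0 e1 f0 f1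
  have hv1 : v 1 = 0 := by
    have h : v 1 ^ 2 = 0 := by linear_combination (v 1) * e0 - (v 0) * e1
    exact pow_eq_zero_iff two_ne_zero |>.mp h
  have hv0 : v 0 = 0 := by
    have h : v 0 ^ 2 = 0 := by linear_combination (v 0) * f1 - (v 1) * f0
    exact pow_eq_zero_iff two_ne_zero |>.mp h
  apply hv
  ext i
  fin_cases i
  · exact hv0
  · exact hv1

theorem tr_eq_two_of_fix (k : SL2) (v : Fin 2 → F) (hv : v ≠ 0) (h : k.1 *ᵥ v = v) :
    tr k = 2 := by
  have e0 := congrFun h 0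
  have e1 := congrFun h 1
  simp only [Matrix.mulVec, dotProduct, Fin.sum_univ_two] at e0 e1
  have hd := sl2_det k
  have h0 : (tr k - 2) * v 0 = 0 := by
    rw [tr_eq]
    linear_combination (v 0) * hd - (k.1 1 1 - 1) * e0 + k.1 0 1 * e1
  have h1 : (tr k - 2) * v 1 = 0 := by
    rw [tr_eq]
    linear_combination (v 1) * hd - (k.1 0 0 - 1) * e1 + k.1 1 0 * e0
  by_contra hne
  have hne' : tr k - 2 ≠ 0 := sub_ne_zero.mpr hne
  apply hv
  ext i
  fin_cases i
  · exact (mul_eq_zero.mp h0).resolve_left hne'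
  · exact (mul_eq_zero.mp h1).resolve_left hne'

theorem fix_ne_zero (g : SL2) (v : Fin 2 → F) (hv : v ≠ 0) (c : F) (h : g.1 *ᵥ v = c • v) :
    c ≠ 0 := by
  rintro rfl
  apply hv
  have h1 : (g⁻¹).1 *ᵥ (g.1 *ᵥ v) = v := by
    rw [Matrix.mulVec_mulVec, ← Matrix.SpecialLinearGroup.coe_mul, inv_mul_cancel,
      Matrix.SpecialLinearGroup.coe_one, Matrix.one_mulVec]
  rw [h, zero_smul, Matrix.mulVec_zero] at h1
  exact h1.symm

theorem inv_fix (g : SL2) (v : Fin 2 → F) (hv : v ≠ 0) (c : F) (h : g.1 *ᵥ v = c • v) :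
    (g⁻¹).1 *ᵥ v = c⁻¹ • v := by
  have hc := fix_ne_zero g v hv c h
  have h1 : (g⁻¹).1 *ᵥ (g.1 *ᵥ v) = v := by
    rw [Matrix.mulVec_mulVec, ← Matrix.SpecialLinearGroup.coe_mul, inv_mul_cancel,
      Matrix.SpecialLinearGroup.coe_one, Matrix.one_mulVec]
  rw [h, Matrix.mulVec_smul] at h1
  rw [← h1, smul_smul, inv_mul_cancel₀ hc, one_smul, h1]

theorem mul_fix (g h : SL2) (v : Fin 2 → F) (c c' : F) (hg : g.1 *ᵥ v = c • v)
    (hh : h.1 *ᵥ v = c' • v) : (g * h).1 *ᵥ v = (c * c') • v := by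
  rw [Matrix.SpecialLinearGroup.coe_mul, ← Matrix.mulVec_mulVec, hh, Matrix.mulVec_smul, hg,
    smul_smul, mul_comm]

/-- commutators of elements fixing a common line are unipotent. -/
theorem comm_pow_of_fix (p : ℕ) [CharP F p] (v : Fin 2 → F) (hv : v ≠ 0) (g h : SL2)
    (hg : ∃ c : F, g.1 *ᵥ v = c • v) (hh : ∃ c : F, h.1 *ᵥ v = c • v) :
    (g * h * g⁻¹ * h⁻¹) ^ p = 1 := by
  obtain ⟨c, hc⟩ := hg
  obtain ⟨c', hc'⟩ := hh
  have hc0 := fix_ne_zero g v hv c hc
  have hc0' := fix_ne_zero h v hv c' hc'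
  have h1 := mul_fix _ _ v _ _ (mul_fix _ _ v _ _ (mul_fix g h v c c' hc hc')
    (inv_fix g v hv c hc)) (inv_fix h v hv c' hc')
  have h2 : c * c' * c⁻¹ * c'⁻¹ = 1 := by field_simp
  rw [h2, one_smul] at h1
  exact unip_pow_char p _ (tr_eq_two_of_fix _ v hv h1)

/-! ### killing the torus case -/

/-- in a group normalizing a torus, squares commute. -/
theorem sq_comm_of_T {X : Type*} [Group X] (ι : X →* Matrix.SpecialLinearGroup (Fin 2) F)
    (hι : Function.Injective ι) (Z : Subgroup X)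
    (hZ : ∀ g : X, g ∈ Z ↔ ι g ∈ Subgroup.center SL2) (x : X) (hxZ : x ∉ Z)
    (hx : ∀ g : X, g * x * g⁻¹ = x ∨ g * x * g⁻¹ = x⁻¹) (g h : X) :
    Commute (g * g) (h * h) := by
  have hCA : CA Z := ca_of_hom ι hι Z hZ
  have key : ∀ g : X, g * g ∈ cen x := by
    intro g
    rw [mem_cen]
    show g * g * x = x * (g * g)
    have e : g * g * x * (g * g)⁻¹ = x := by
      rcases hx g with h1 | h1
      · calc g * g * x * (g * g)⁻¹ = g * (g * x * g⁻¹) * g⁻¹ := by group
          _ = x := by rw [h1, h1]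
      · calc g * g * x * (g * g)⁻¹ = g * (g * x * g⁻¹) * g⁻¹ := by group
          _ = g * x⁻¹ * g⁻¹ := by rw [h1]
          _ = (g * x * g⁻¹)⁻¹ := by group
          _ = x := by rw [h1, inv_inv]
    calc g * g * x = g * g * x * (g * g)⁻¹ * (g * g) := by group
      _ = x * (g * g) := by rw [e]
  exact hCA.cen_comm hxZ (key g) (key h)

/-! ### subfield subgroups -/

/-- `SL₂(K₀)` inside `SL₂(F)`. -/
def SK (K0 : Subfield F) : Subgroup SL2 where
  carrier := {g | MemK K0 g.1}
  mul_mem' := fun {a b} ha hb => by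
    show MemK K0 (a * b).1
    rw [Matrix.SpecialLinearGroup.coe_mul]; exact memK_mul K0 ha hb
  one_mem' := by
    show MemK K0 (1 : SL2).1
    rw [memK_iff]
    simp only [Matrix.SpecialLinearGroup.coe_one, Matrix.one_apply_eq, ne_eq, zero_ne_one,
      not_false_eq_true, Matrix.one_apply_ne, one_ne_zero]
    exact ⟨K0.one_mem, K0.zero_mem, K0.zero_mem, K0.one_mem⟩
  inv_mem' := fun {g} hg => by
    show MemK K0 (g⁻¹).1
    rw [memK_iff, inv_e00, inv_e01, inv_e10, inv_e11]
    exact ⟨hg 1 1, K0.neg_mem (hg 0 1), K0.neg_mem (hg 1 0), hg 0 0⟩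

theorem mem_SK {K0 : Subfield F} {g : SL2} : g ∈ SK K0 ↔ MemK K0 g.1 := Iff.rfl

theorem center_le_SK (K0 : Subfield F) : Subgroup.center SL2 ≤ SK K0 := by
  intro z hz
  rw [center_iff_entries] at hz
  obtain ⟨h10, h01, h00⟩ := hz
  have hd := sl2_det z
  rw [h10, h01, ← h00] at hd
  have h1 : (z.1 0 0 - 1) * (z.1 0 0 + 1) = 0 := by linear_combination hd
  have h2 : z.1 0 0 ∈ K0 := by
    rcases mul_eq_zero.mp h1 with h | h
    · rw [sub_eq_zero.mp h]; exact K0.one_mem
    · rw [eq_neg_of_add_eq_zero_left h]; exact K0.neg_mem K0.one_mem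
  rw [mem_SK, memK_iff, h10, h01, ← h00]
  exact ⟨h2, K0.zero_mem, K0.zero_mem, h2⟩

theorem Ux_mem_SK (K0 : Subfield F) {t : F} (ht : t ∈ K0) : Ux t ∈ SK K0 := by
  rw [mem_SK, memK_iff, Ux_e00, Ux_e01, Ux_e10, Ux_e11]
  exact ⟨K0.one_mem, ht, K0.zero_mem, K0.one_mem⟩

theorem Lx_mem_SK (K0 : Subfield F) {t : F} (ht : t ∈ K0) : Lx t ∈ SK K0 := by
  rw [mem_SK, memK_iff]
  simp only [Lx, mk_e00, mk_e01, mk_e10, mk_e11]
  exact ⟨K0.one_mem, K0.zero_mem, ht, K0.one_mem⟩

theorem card_SK [Fintype F] (K0 : Subfield F) :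
    Nat.card (SK K0) = Nat.card K0 * (Nat.card K0 ^ 2 - 1) := by
  classical
  haveI : Fintype K0 := Fintype.ofFinite _
  rw [Nat.card_eq_fintype_card (α := K0), ← Cfsg.Agent.Helper5.card_SL2 (F := K0)]
  symm
  apply Nat.card_congr
  refine Equiv.ofBijective (fun g' => (⟨Matrix.SpecialLinearGroup.map K0.subtype g',
    fun i j => (g'.1 i j).2⟩ : SK K0)) ⟨?_, ?_⟩
  · intro g' h' hgh
    have h1 : Matrix.SpecialLinearGroup.map K0.subtype g' =
        Matrix.SpecialLinearGroup.map K0.subtype h' := congrArg Subtype.val hgh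
    apply Subtype.ext
    ext i j
    have h2 := congrFun (congrFun (congrArg Subtype.val h1) i) j
    exact h2
  · rintro ⟨g, hg⟩
    have hφ : ∀ c : F, c ∈ K0 ↔ ∃ k : K0, K0.subtype k = c := by
      intro c
      constructor
      · intro hc; exact ⟨⟨c, hc⟩, rfl⟩
      · rintro ⟨k, rfl⟩; exact k.2
    obtain ⟨M', hM'⟩ := exists_lift K0.subtype K0 hφ _ hg
    have hdet : M'.det = 1 := by
      apply K0.subtype.injective
      rw [det_lift K0.subtype _ M' hM', map_one]; exact g.2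
    refine ⟨⟨M', hdet⟩, ?_⟩
    apply Subtype.ext
    apply Subtype.ext
    ext i j
    exact hM' i j

/-- conjugating `SL₂(K₀)` into `SL₂(K₁)` forces `K₀ ≤ K₁` (traces). -/
theorem subfield_le_of_conj (Q : Matrix (Fin 2) (Fin 2) F) (hQ : Q.det ≠ 0) (K0 K1 : Subfield F)
    (h : ∀ g : SL2, MemK K0 g.1 → MemK K1 (conjGL Q hQ g).1) : K0 ≤ K1 := by
  intro t ht
  obtain ⟨g0, hg0⟩ : ∃ g0 : SL2, g0 = mkSL t (-1) 1 0 (by ring) := ⟨_, rfl⟩
  have g00 : g0.1 0 0 = t := by rw [hg0, mk_e00]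
  have g01 : g0.1 0 1 = -1 := by rw [hg0, mk_e01]
  have g10 : g0.1 1 0 = 1 := by rw [hg0, mk_e10]
  have g11 : g0.1 1 1 = 0 := by rw [hg0, mk_e11]
  have hm : MemK K0 g0.1 := by
    rw [memK_iff, g00, g01, g10, g11]
    exact ⟨ht, K0.neg_mem K0.one_mem, K0.one_mem, K0.zero_mem⟩
  have h1 := h _ hm
  have h2 := tr_conjGL Q hQ g0
  rw [tr_eq, tr_eq, g00, g11, add_zero] at h2
  rw [← h2]; exact K1.add_mem (h1 0 0) (h1 1 1)

theorem subfield_le_of_conj' (h2 : (2 : F) ≠ 0) (Q : Matrix (Fin 2) (Fin 2) F) (hQ : Q.det ≠ 0)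
    (K0 K1 : Subfield F) (lam : F) (hlam : lam ≠ 0) (hlam2 : lam ^ 2 ∈ K1)
    (h : ∀ g : SL2, MemK K0 g.1 →
      MemK K1 (conjGL Q hQ g).1 ∨ MemK K1 (lam • (conjGL Q hQ g).1)) : K0 ≤ K1 := by
  have hsq : ∀ g : SL2, MemK K0 g.1 → MemK K1 (conjGL Q hQ (g * g)).1 := by
    intro g hg
    rw [map_mul, Matrix.SpecialLinearGroup.coe_mul]
    rcases h g hg with h1 | h1
    · exact memK_mul K1 h1 h1
    · have e : (conjGL Q hQ g).1 * (conjGL Q hQ g).1 = (lam ^ 2)⁻¹ •
          ((lam • (conjGL Q hQ g).1) * (lam • (conjGL Q hQ g).1)) := by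
        rw [Matrix.smul_mul, Matrix.mul_smul, smul_smul, smul_smul]
        have : (lam ^ 2)⁻¹ * lam * lam = 1 := by field_simp
        rw [this, one_smul]
      rw [e]
      intro i j
      rw [Matrix.smul_apply, smul_eq_mul]
      exact K1.mul_mem (K1.inv_mem hlam2) (memK_mul K1 h1 h1 i j)
  have h2K : (2 : F) ∈ K1 := by
    rw [← one_add_one_eq_two]; exact K1.add_mem K1.one_mem K1.one_mem
  have hsqt : ∀ t ∈ K0, t ^ 2 ∈ K1 := by
    intro t ht
    obtain ⟨g0, hg0⟩ : ∃ g0 : SL2, g0 = mkSL t (-1) 1 0 (by ring) := ⟨_, rfl⟩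
    have g00 : g0.1 0 0 = t := by rw [hg0, mk_e00]
    have g01 : g0.1 0 1 = -1 := by rw [hg0, mk_e01]
    have g10 : g0.1 1 0 = 1 := by rw [hg0, mk_e10]
    have g11 : g0.1 1 1 = 0 := by rw [hg0, mk_e11]
    have hm : MemK K0 g0.1 := by
      rw [memK_iff, g00, g01, g10, g11]
      exact ⟨ht, K0.neg_mem K0.one_mem, K0.one_mem, K0.zero_mem⟩
    have h1 := hsq _ hm
    have h3 := tr_conjGL Q hQ (g0 * g0)
    rw [tr_eq, tr_eq, mul_e00, mul_e11, g00, g01, g10, g11] at h3
    have h4 : t ^ 2 = (conjGL Q hQ (g0 * g0)).1 0 0 + (conjGL Q hQ (g0 * g0)).1 1 1 + 2 := by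
      linear_combination -h3
    rw [h4]
    exact K1.add_mem (K1.add_mem (h1 0 0) (h1 1 1)) h2K
  intro t ht
  have e : t = ((t + 1) ^ 2 - t ^ 2 - 1) * (2 : F)⁻¹ := by field_simp; ring
  rw [e]
  exact K1.mul_mem (K1.sub_mem (K1.sub_mem (hsqt (t + 1) (K0.add_mem ht K0.one_mem))
    (hsqt t ht)) K1.one_mem) (K1.inv_mem h2K)

/-- in characteristic `2`, square roots of elements of a finite subfield lie in it. -/
theorem mem_of_sq_mem_char_two [Finite F] (h2 : (2 : F) = 0) (K1 : Subfield F) (lam : F)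
    (h : lam ^ 2 ∈ K1) : lam ∈ K1 := by
  haveI : CharP F 2 := CharTwo.of_one_ne_zero_of_two_eq_zero one_ne_zero h2
  haveI : CharP K1 2 := RingHom.charP K1.subtype K1.subtype.injective 2
  obtain ⟨c, hc⟩ := FiniteField.isSquare_of_char_two (ringChar.eq K1 2) (⟨lam ^ 2, h⟩ : K1)
  have hc' : lam ^ 2 = (c : F) * c := by
    have := congrArg Subtype.val hc
    simpa using this
  have h3 : (lam - c) ^ 2 = 0 := by linear_combination hc' + ((c : F) ^ 2 - lam * c) * h2
  have h4 : lam = c := by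
    have := pow_eq_zero_iff two_ne_zero |>.mp h3
    linear_combination this
  rw [h4]; exact c.2

/-- a tower `K₀ ≤ K₁ ≤ F` of finite fields with `[F : K₀]` prime. -/
theorem tower_prime [Fintype F] (K0 K1 : Subfield F) (h01 : K0 ≤ K1) (r : ℕ) (hr : r.Prime)
    (hF : Fintype.card F = Nat.card K0 ^ r) : K1 = K0 ∨ K1 = ⊤ := by
  classical
  haveI : Fintype K0 := Fintype.ofFinite _
  haveI : Fintype K1 := Fintype.ofFinite _
  letI : Algebra K0 K1 := (Subfield.inclusion h01).toAlgebra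
  have c1 : Fintype.card K1 = Fintype.card K0 ^ Module.finrank K0 K1 :=
    Module.card_eq_pow_finrank
  have c2 : Fintype.card F = Fintype.card K1 ^ Module.finrank K1 F :=
    Module.card_eq_pow_finrank
  rw [Nat.card_eq_fintype_card] at hF
  have c3 := c2
  rw [c1, ← pow_mul] at c3
  have hq0 : 2 ≤ Fintype.card K0 := Fintype.one_lt_card
  have hmul : Module.finrank K0 K1 * Module.finrank K1 F = r :=
    Nat.pow_right_injective hq0 (c3.symm.trans hF)
  rcases (Nat.dvd_prime hr).mp ⟨_, hmul.symm⟩ with h1 | h1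
  · left
    rw [h1, pow_one] at c1
    apply le_antisymm _ h01
    have hs : (K0 : Set F) = (K1 : Set F) := by
      apply Set.eq_of_subset_of_ncard_le h01
      rw [← Nat.card_coe_set_eq, ← Nat.card_coe_set_eq]
      show Nat.card K1 ≤ Nat.card K0
      rw [Nat.card_eq_fintype_card, Nat.card_eq_fintype_card, c1]
    intro x hx
    have : x ∈ (K1 : Set F) := hx
    rw [← hs] at this
    exact this
  · right
    rw [h1] at hmul
    have h3 : Module.finrank K1 F = 1 := by
      have := hr.pos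
      exact Nat.eq_of_mul_eq_mul_left this (by rw [hmul, mul_one])
    rw [h3, pow_one] at c2
    rw [eq_top_iff]
    intro x _
    have hs : (K1 : Set F) = Set.univ := by
      apply Set.eq_of_subset_of_ncard_le (Set.subset_univ _)
      rw [← Nat.card_coe_set_eq, ← Nat.card_coe_set_eq]
      show Nat.card (Set.univ : Set F) ≤ Nat.card K1
      rw [Nat.card_eq_fintype_card (α := K1), ← c2, Nat.card_congr (Equiv.Set.univ F),
        Nat.card_eq_fintype_card]
    have : x ∈ (K1 : Set F) := by rw [hs]; trivial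
    exact this

/-- an odd-degree extension of finite fields of odd characteristic contains no square root of
a non-square of the small field. -/
theorem no_quad_of_odd [Fintype F] (h2 : (2 : F) ≠ 0) (K0 : Subfield F) (r : ℕ) (hr : Odd r)
    (hF : Fintype.card F = Nat.card K0 ^ r) (lam : F) (hlam : lam ∉ K0)
    (hlam2 : lam ^ 2 ∈ K0) : False := by
  classical
  haveI : Fintype K0 := Fintype.ofFinite _
  have hq0 : Fintype.card K0 = Nat.card K0 := (Nat.card_eq_fintype_card).symm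
  obtain ⟨τ, hτ⟩ := Cfsg.Agent.Helper44.exists_frob (F := K0) (K := F) hq0 hF
    (by rintro rfl; simp at hr)
  have h1 : τ lam ^ 2 = lam ^ 2 := by
    rw [← map_pow, hτ]
    have h := FiniteField.pow_card (⟨lam ^ 2, hlam2⟩ : K0)
    have h' := congrArg Subtype.val h
    rw [hq0] at h'
    simpa using h'
  have h3 : τ lam = -lam := by
    have h4 : (τ lam - lam) * (τ lam + lam) = 0 := by linear_combination h1
    rcases mul_eq_zero.mp h4 with h5 | h5
    · exfalso
      apply hlam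
      obtain ⟨a, ha⟩ := Cfsg.Agent.Helper44.mem_range_of_pow_eq (F := K0) (K := F) hq0 lam
        (by rw [← hτ]; linear_combination h5)
      rw [← ha]; exact a.2
    · linear_combination h5
  have h6 : ∀ j : ℕ, τ^[j] lam = (-1) ^ j * lam := by
    intro j
    induction j with
    | zero => simp
    | succ j ih =>
      rw [Function.iterate_succ_apply', ih, map_mul, map_pow, map_neg, map_one, h3, pow_succ]
      ring
  have h7 : ∀ (j : ℕ) (x : F), τ^[j] x = x ^ (Nat.card K0 ^ j) := by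
    intro j x
    induction j with
    | zero => simp
    | succ j ih => rw [Function.iterate_succ_apply', ih, hτ, ← pow_mul, pow_succ]
  have h8 := h6 r
  rw [h7, ← hF, FiniteField.pow_card, hr.neg_one_pow] at h8
  apply hlam
  have h9 : lam = 0 := by
    have h10 : (2 : F) * lam = 0 := by linear_combination h8
    exact (mul_eq_zero.mp h10).resolve_left h2
  rw [h9]; exact K0.zero_mem

theorem card_range_conj [Fintype F] (Mt : Subgroup SL2) (Q : Matrix (Fin 2) (Fin 2) F)
    (hQ : Q.det ≠ 0) :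
    Nat.card ((conjGL Q hQ).comp Mt.subtype).range = Nat.card Mt := by
  have hinj : Function.Injective ((conjGL Q hQ).comp Mt.subtype) :=
    (conjGL_injective Q hQ).comp Subtype.val_injective
  exact (Nat.card_congr (MonoidHom.ofInjective hinj).toEquiv).symm

/-- case (S), first alternative: the order of the group. -/
theorem card_of_range_SK [Fintype F] (Mt : Subgroup SL2) (Q : Matrix (Fin 2) (Fin 2) F)
    (hQ : Q.det ≠ 0) (K1 : Subfield F)
    (h : ∀ g : SL2, g ∈ ((conjGL Q hQ).comp Mt.subtype).range ↔ MemK K1 g.1) :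
    Nat.card Mt = Nat.card (SK K1) := by
  rw [← card_range_conj Mt Q hQ]
  have e : ((conjGL Q hQ).comp Mt.subtype).range = SK K1 := by
    ext g; rw [h, mem_SK]
  rw [e]

theorem eq_top_of_range_top [Fintype F] (Mt : Subgroup SL2) (Q : Matrix (Fin 2) (Fin 2) F)
    (hQ : Q.det ≠ 0) (h : ∀ g : SL2, g ∈ ((conjGL Q hQ).comp Mt.subtype).range) : Mt = ⊤ := by
  classical
  apply Subgroup.eq_top_of_card_eq
  rw [← card_range_conj Mt Q hQ]
  have e : ((conjGL Q hQ).comp Mt.subtype).range = ⊤ := by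
    rw [Subgroup.eq_top_iff']; exact h
  rw [e, Subgroup.card_top]

end Cfsg.Agent.Helper41.Dk
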