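import Cfsg.Agent.Helper41.DkIdent
import Cfsg.Agent.Helper41.DkField

set_option autoImplicit false

/-!
# Dickson, part 6: finite subgroups of `SL₂(F)` containing the transvection `Ux 1`
-/

namespace Cfsg.Agent.Helper41.Dk

open Cfsg.Agent.Helper41 Matrix

variable {F : Type*} [Field F]

local notation "SL2" => Matrix.SpecialLinearGroup (Fin 2) F

theorem center_iff_entries (z : SL2) : z ∈ Subgroup.center SL2 ↔
    (z.1 1 0 = 0 ∧ z.1 0 1 = 0 ∧ z.1 0 0 = z.1 1 1) := by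
  have h := not_center_iff z
  constructor
  · intro hz
    by_contra hc
    apply (h.mpr ?_) hz
    by_contra hc2
    push Not at hc2
    exact hc hc2
  · rintro ⟨h1, h2, h3⟩
    by_contra hz
    rcases h.mp hz with h' | h' | h'
    · exact h' h1
    · exact h' h2
    · exact h' h3

theorem unip_pow_eq (g : SL2) (h : tr g = 2) (n : ℕ) :
    ((g ^ n : SL2) : Matrix (Fin 2) (Fin 2) F) =
      (n : F) • g.1 - ((n : F) - 1) • (1 : Matrix (Fin 2) (Fin 2) F) := by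
  have hsq := sl2_sq g
  have h' : (g : Matrix (Fin 2) (Fin 2) F).trace = 2 := h
  rw [h'] at hsq
  induction n with
  | zero => simp
  | succ n ih =>
    rw [pow_succ, Matrix.SpecialLinearGroup.coe_mul, ih, Matrix.sub_mul, Matrix.smul_mul,
      Matrix.smul_mul, hsq, Matrix.one_mul]
    push_cast
    module

theorem unip_pow_char (p : ℕ) [CharP F p] (g : SL2) (h : tr g = 2) : g ^ p = 1 := by
  apply Subtype.ext
  rw [unip_pow_eq g h, CharP.cast_eq_zero F p]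
  simp

theorem isPGroup_zpowers_of_pow {G : Type*} [Group G] (p : ℕ) (y : G) (h : y ^ p = 1) :
    IsPGroup p (Subgroup.zpowers y) := by
  rintro ⟨g, hg⟩
  obtain ⟨k, rfl⟩ := Subgroup.mem_zpowers_iff.mp hg
  refine ⟨1, ?_⟩
  apply Subtype.ext
  show (y ^ k) ^ p ^ 1 = 1
  rw [pow_one, ← zpow_natCast, ← _root_.zpow_mul, mul_comm, _root_.zpow_mul, zpow_natCast, h, _root_.one_zpow]

theorem card_ne_add_one {α : Type*} [Finite α] (a : α) :
    Nat.card {x : α // x ≠ a} + 1 = Nat.card α := by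
  classical
  haveI := Fintype.ofFinite α
  have h1 := Fintype.card_subtype_compl (fun x : α => x = a)
  rw [Fintype.card_subtype_eq] at h1
  have h2 : 0 < Fintype.card α := Fintype.card_pos_iff.mpr ⟨a⟩
  rw [Nat.card_eq_fintype_card, Nat.card_eq_fintype_card]
  have h3 : Fintype.card {x : α // x ≠ a} = Fintype.card {x : α // ¬ x = a} := rfl
  omega

section hom

variable {X : Type*} [Group X] (ι : X →* Matrix.SpecialLinearGroup (Fin 2) F)

theorem ca_of_hom (hι : Function.Injective ι) (Z : Subgroup X)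
    (hZ : ∀ g : X, g ∈ Z ↔ ι g ∈ Subgroup.center SL2) : CA Z := by
  refine ⟨?_, ?_⟩
  · intro z hz
    rw [Subgroup.mem_center_iff]
    intro g
    apply hι
    rw [map_mul, map_mul]
    exact Subgroup.mem_center_iff.mp ((hZ z).mp hz) (ι g)
  · intro z hz g h hg hh
    have hz' : ι z ∉ Subgroup.center SL2 := fun h => hz ((hZ z).mpr h)
    have h1 : Commute (ι g) (ι z) := hg.map ι
    have h2 : Commute (ι h) (ι z) := hh.map ι
    have h3 := sl2_CA.comm (ι z) hz' (ι g) (ι h) h1 h2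
    show g * h = h * g
    apply hι
    rw [map_mul, map_mul]; exact h3.eq

theorem torusLike_of_tr (hι : Function.Injective ι) {x : X}
    (hx : ι x ∉ Subgroup.center SL2) (ht : tr (ι x) ^ 2 ≠ 4) : TorusLike x := by
  intro n hn
  have h1 : Commute (ι (n * x * n⁻¹)) (ι x) := hn.map ι
  have h2 : tr (ι (n * x * n⁻¹)) = tr (ι x) := by
    rw [map_mul, map_mul, map_inv]; exact tr_conj _ _
  rcases torus_conj (ι x) (ι (n * x * n⁻¹)) hx ht h1 h2 with h | h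
  · left; exact hι h
  · right; apply hι; rw [h, map_inv]

theorem concl_T_of_cI (hι : Function.Injective ι) (Z : Subgroup X)
    (hZ : ∀ g : X, g ∈ Z ↔ ι g ∈ Subgroup.center SL2) [Finite X] {y : X} (hyZ : y ∉ Z)
    (ht : tr (ι y) ^ 2 ≠ 4) (hI : cI y = 1) :
    ∀ g : X, g * y * g⁻¹ = y ∨ g * y * g⁻¹ = y⁻¹ := by
  intro g
  have htop : Subgroup.normalizer (cen y : Set X) = ⊤ := Subgroup.index_eq_one.mp hI
  have hg : g ∈ Subgroup.normalizer (cen y : Set X) := by rw [htop]; trivial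
  have h1 : g * y * g⁻¹ ∈ cen y := (Subgroup.mem_normalizer_iff.mp hg y).mp (by rw [mem_cen])
  exact torusLike_of_tr ι hι (fun h => hyZ ((hZ y).mpr h)) ht g (mem_cen.mp h1)

/-- the upper unitriangular part. -/
def Pι : Subgroup X where
  carrier := {g | (ι g).1 1 0 = 0 ∧ (ι g).1 0 0 = 1 ∧ (ι g).1 1 1 = 1}
  mul_mem' := by
    rintro a b ⟨a1, a2, a3⟩ ⟨b1, b2, b3⟩
    refine ⟨?_, ?_, ?_⟩
    · show (ι (a * b)).1 1 0 = 0
      rw [map_mul, mul_e10, a1, b1]; ring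
    · show (ι (a * b)).1 0 0 = 1
      rw [map_mul, mul_e00, a2, b2, b1]; ring
    · show (ι (a * b)).1 1 1 = 1
      rw [map_mul, mul_e11, a1, a3, b3]; ring
  one_mem' := by
    show (ι 1).1 1 0 = 0 ∧ (ι 1).1 0 0 = 1 ∧ (ι 1).1 1 1 = 1
    rw [map_one]; simp
  inv_mem' := by
    rintro a ⟨a1, a2, a3⟩
    refine ⟨?_, ?_, ?_⟩
    · show (ι a⁻¹).1 1 0 = 0
      rw [map_inv, inv_e10, a1, neg_zero]
    · show (ι a⁻¹).1 0 0 = 1
      rw [map_inv, inv_e00, a3]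
    · show (ι a⁻¹).1 1 1 = 1
      rw [map_inv, inv_e11, a2]

theorem mem_Pι (g : X) :
    g ∈ Pι ι ↔ (ι g).1 1 0 = 0 ∧ (ι g).1 0 0 = 1 ∧ (ι g).1 1 1 = 1 := Iff.rfl

theorem Pι_ext (hι : Function.Injective ι) {u v : X} (hu : u ∈ Pι ι) (hv : v ∈ Pι ι)
    (h : (ι u).1 0 1 = (ι v).1 0 1) : u = v := by
  apply hι
  apply sl_ext
  · rw [hu.2.1, hv.2.1]
  · exact h
  · rw [hu.1, hv.1]
  · rw [hu.2.2, hv.2.2]

theorem Pι_eq_one (hι : Function.Injective ι) {u : X} (hu : u ∈ Pι ι)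
    (h : (ι u).1 0 1 = 0) : u = 1 :=
  Pι_ext ι hι hu (one_mem _) (by rw [h, map_one]; simp)

theorem conj_mem_Pι {n u : X} (hn : (ι n).1 1 0 = 0) (hu : u ∈ Pι ι) :
    n * u * n⁻¹ ∈ Pι ι := by
  obtain ⟨u1, u2, u3⟩ := hu
  have hdet := sl2_det (ι n)
  rw [hn] at hdet
  rw [mem_Pι, map_mul, map_mul, map_inv]
  simp only [mul_e00, mul_e01, mul_e10, mul_e11, mk_e00, mk_e01, mk_e10, mk_e11, Ux_e00, Ux_e01, Ux_e10, Ux_e11, inv_e00, inv_e01, inv_e10, inv_e11]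
  rw [hn, u1, u2, u3]
  refine ⟨by ring, by linear_combination hdet, by linear_combination hdet⟩

theorem free_aux (hι : Function.Injective ι) {h v : X} (hh : (ι h).1 1 0 ≠ 0) (hv : v ∈ Pι ι)
    (h0 : (ι (h⁻¹ * v * h)).1 1 0 = 0) : v = 1 := by
  obtain ⟨v1, v2, v3⟩ := hv
  rw [map_mul, map_mul, map_inv] at h0
  simp only [mul_e00, mul_e01, mul_e10, mul_e11, mk_e00, mk_e01, mk_e10, mk_e11, Ux_e00, Ux_e01, Ux_e10, Ux_e11, inv_e00, inv_e01, inv_e10, inv_e11] at h0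
  rw [v1, v2, v3] at h0
  have h1 : (ι v).1 0 1 * (ι h).1 1 0 ^ 2 = 0 := by linear_combination (-1 : F) * h0
  have h2 : (ι v).1 0 1 = 0 := by
    rcases mul_eq_zero.mp h1 with h | h
    · exact h
    · exact absurd (pow_eq_zero_iff two_ne_zero |>.mp h) hh
  exact Pι_eq_one ι hι ⟨v1, v2, v3⟩ h2

theorem smul_coset (P N : Subgroup X) (g : P) (a : X) :
    g • (a : X ⧸ N) = ((g.1 * a : X) : X ⧸ N) := rfl

/-- the normalized data: an injective hom to `SL₂(F)` whose image contains the centre and the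
transvection `Ux 1`. -/
structure NData (ι : X →* Matrix.SpecialLinearGroup (Fin 2) F) (Z : Subgroup X) (x1 : X) :
    Prop where
  inj : Function.Injective ι
  hZ : ∀ g : X, g ∈ Z ↔ ι g ∈ Subgroup.center SL2
  hx1 : ι x1 = Ux 1
  hcen : ∀ z : SL2, z ∈ Subgroup.center SL2 → ∃ g : X, ι g = z

namespace NData

variable {ι} {Z : Subgroup X} {x1 : X} (D : NData ι Z x1)
include D

theorem ca : CA Z := ca_of_hom ι D.inj Z D.hZ

theorem x1_not_mem : x1 ∉ Z := by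
  intro h
  have := ((center_iff_entries _).mp ((D.hZ x1).mp h)).2.1
  rw [D.hx1, Ux_e01] at this
  exact one_ne_zero this

theorem x1_mem_P : x1 ∈ Pι ι := by
  rw [mem_Pι, D.hx1]
  exact ⟨rfl, rfl, rfl⟩

theorem Z_entries {z : X} (hz : z ∈ Z) :
    (ι z).1 1 0 = 0 ∧ (ι z).1 0 1 = 0 ∧ (ι z).1 0 0 = (ι z).1 1 1 :=
  (center_iff_entries _).mp ((D.hZ z).mp hz)

theorem mem_cen (g : X) :
    g ∈ cen x1 ↔ (ι g).1 1 0 = 0 ∧ (ι g).1 0 0 = (ι g).1 1 1 := by
  rw [Dk.mem_cen]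
  constructor
  · intro h
    have h1 : ι g * Ux 1 = Ux 1 * ι g := by rw [← D.hx1, ← map_mul, ← map_mul, h.eq]
    have e00 := congrArg (fun m : SL2 => m.1 0 0) h1
    have e01 := congrArg (fun m : SL2 => m.1 0 1) h1
    simp only [mul_e00, mul_e01, mul_e10, mul_e11, mk_e00, mk_e01, mk_e10, mk_e11, Ux_e00, Ux_e01, Ux_e10, Ux_e11, inv_e00, inv_e01, inv_e10, inv_e11] at e00 e01
    constructor
    · linear_combination (-1 : F) * e00
    · linear_combination e01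
  · rintro ⟨h10, h00⟩
    show g * x1 = x1 * g
    apply D.inj
    rw [map_mul, map_mul, D.hx1]
    apply sl_ext
    · simp only [mul_e00, mul_e01, mul_e10, mul_e11, mk_e00, mk_e01, mk_e10, mk_e11, Ux_e00, Ux_e01, Ux_e10, Ux_e11, inv_e00, inv_e01, inv_e10, inv_e11]; rw [h10]; ring
    · simp only [mul_e00, mul_e01, mul_e10, mul_e11, mk_e00, mk_e01, mk_e10, mk_e11, Ux_e00, Ux_e01, Ux_e10, Ux_e11, inv_e00, inv_e01, inv_e10, inv_e11]; rw [h00]; ring
    · simp only [mul_e00, mul_e01, mul_e10, mul_e11, mk_e00, mk_e01, mk_e10, mk_e11, Ux_e00, Ux_e01, Ux_e10, Ux_e11, inv_e00, inv_e01, inv_e10, inv_e11]; rw [h10]; ring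
    · simp only [mul_e00, mul_e01, mul_e10, mul_e11, mk_e00, mk_e01, mk_e10, mk_e11, Ux_e00, Ux_e01, Ux_e10, Ux_e11, inv_e00, inv_e01, inv_e10, inv_e11]; rw [h10]; ring

theorem mem_nor (g : X) :
    g ∈ Subgroup.normalizer (cen x1 : Set X) ↔ (ι g).1 1 0 = 0 := by
  have hc : (ι (g * x1 * g⁻¹)).1 1 0 = -((ι g).1 1 0) ^ 2 := by
    rw [map_mul, map_mul, map_inv, D.hx1]; simp only [mul_e00, mul_e01, mul_e10, mul_e11, mk_e00, mk_e01, mk_e10, mk_e11, Ux_e00, Ux_e01, Ux_e10, Ux_e11, inv_e00, inv_e01, inv_e10, inv_e11]; ring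
  constructor
  · intro hn
    have h1 : g * x1 * g⁻¹ ∈ cen x1 :=
      (Subgroup.mem_normalizer_iff.mp hn x1).mp (by rw [Dk.mem_cen])
    have h2 := ((D.mem_cen _).mp h1).1
    rw [hc] at h2
    have h3 : ((ι g).1 1 0) ^ 2 = 0 := by linear_combination (-1 : F) * h2
    exact pow_eq_zero_iff two_ne_zero |>.mp h3
  · intro h0
    rw [mem_normalizer_cen_iff]
    have hnZ : g * x1 * g⁻¹ ∉ Z := fun h =>
      D.x1_not_mem ((conj_mem_iff D.ca.central g x1).mp h)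
    apply D.ca.cen_eq_of_commute hnZ D.x1_not_mem
    apply Dk.mem_cen.mp
    rw [D.mem_cen]
    constructor
    · rw [hc, h0]; ring
    · rw [map_mul, map_mul, map_inv, D.hx1]; simp only [mul_e00, mul_e01, mul_e10, mul_e11, mk_e00, mk_e01, mk_e10, mk_e11, Ux_e00, Ux_e01, Ux_e10, Ux_e11, inv_e00, inv_e01, inv_e10, inv_e11]; rw [h0]; ring

theorem P_le_cen : Pι ι ≤ cen x1 := by
  intro u hu
  rw [D.mem_cen]
  exact ⟨hu.1, by rw [hu.2.1, hu.2.2]⟩

theorem P_inf_Z {u : X} (hu : u ∈ Pι ι) (hz : u ∈ Z) : u = 1 :=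
  Pι_eq_one ι D.inj hu (D.Z_entries hz).2.1

theorem card_cen [Finite X] : Nat.card (cen x1) = Nat.card Z * Nat.card (Pι ι) := by
  rw [← Nat.card_prod]
  symm
  have hmem : ∀ y : Z × Pι ι, y.1.1 * y.2.1 ∈ cen x1 := by
    rintro ⟨⟨z, hz⟩, ⟨u, hu⟩⟩
    obtain ⟨z1, z2, z3⟩ := D.Z_entries hz
    obtain ⟨u1, u2, u3⟩ := hu
    rw [D.mem_cen]
    show (ι (z * u)).1 1 0 = 0 ∧ (ι (z * u)).1 0 0 = (ι (z * u)).1 1 1
    rw [map_mul]
    simp only [mul_e00, mul_e01, mul_e10, mul_e11, mk_e00, mk_e01, mk_e10, mk_e11, Ux_e00, Ux_e01, Ux_e10, Ux_e11, inv_e00, inv_e01, inv_e10, inv_e11]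
    rw [z1, z2, u1, u2, u3, z3]
    constructor <;> ring
  refine Nat.card_congr (Equiv.ofBijective
    (fun y => (⟨y.1.1 * y.2.1, hmem y⟩ : cen x1)) ⟨?_, ?_⟩)
  · rintro ⟨⟨z, hz⟩, ⟨u, hu⟩⟩ ⟨⟨z', hz'⟩, ⟨u', hu'⟩⟩ h
    have h1 : z * u = z' * u' := congrArg Subtype.val h
    obtain ⟨z1, z2, z3⟩ := D.Z_entries hz
    obtain ⟨z1', z2', z3'⟩ := D.Z_entries hz'
    have h2 := congrArg (fun g => (ι g).1 0 0) h1
    simp only [map_mul, mul_e00, mul_e01, mul_e10, mul_e11, mk_e00, mk_e01, mk_e10, mk_e11, Ux_e00, Ux_e01, Ux_e10, Ux_e11, inv_e00, inv_e01, inv_e10, inv_e11] at h2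
    rw [hu.2.1, hu.1, hu'.2.1, hu'.1] at h2
    have h3 : (ι z).1 0 0 = (ι z').1 0 0 := by linear_combination h2
    have hzz : z = z' := by
      apply D.inj
      apply sl_ext
      · exact h3
      · rw [z2, z2']
      · rw [z1, z1']
      · rw [← z3, ← z3', h3]
    subst hzz
    have huu : u = u' := mul_left_cancel h1
    subst huu
    rfl
  · rintro ⟨g, hg⟩
    obtain ⟨g1, g2⟩ := (D.mem_cen g).mp hg
    have hdet := sl2_det (ι g)
    rw [g1, ← g2] at hdet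
    have haa : (ι g).1 0 0 * (ι g).1 0 0 - 0 * 0 = 1 := by linear_combination hdet
    obtain ⟨z, hz⟩ := D.hcen (mkSL ((ι g).1 0 0) 0 0 ((ι g).1 0 0) haa)
      ((center_iff_entries _).mpr ⟨rfl, rfl, rfl⟩)
    have hzZ : z ∈ Z :=
      (D.hZ z).mpr (by rw [hz]; exact (center_iff_entries _).mpr ⟨rfl, rfl, rfl⟩)
    have huP : z⁻¹ * g ∈ Pι ι := by
      rw [mem_Pι, map_mul, map_inv, hz]
      simp only [mul_e00, mul_e01, mul_e10, mul_e11, mk_e00, mk_e01, mk_e10, mk_e11, Ux_e00, Ux_e01, Ux_e10, Ux_e11, inv_e00, inv_e01, inv_e10, inv_e11]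
      rw [g1, ← g2]
      refine ⟨by ring, by linear_combination haa, by linear_combination haa⟩
    refine ⟨⟨⟨z, hzZ⟩, ⟨z⁻¹ * g, huP⟩⟩, ?_⟩
    apply Subtype.ext
    show z * (z⁻¹ * g) = g
    group

theorem dvd [Finite X] : cN x1 ∣ Nat.card (Pι ι) - 1 := by
  classical
  obtain ⟨N, hN⟩ : ∃ N, N = Subgroup.normalizer (cen x1 : Set X) := ⟨_, rfl⟩
  let Ω := {y : X // y ∉ (⊥ : Subgroup X) ∧ y ∈ Pι ι}
  have hNmem : ∀ n : N, (ι n.1).1 1 0 = 0 := fun n => (D.mem_nor n.1).mp (hN ▸ n.2)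
  letI : MulAction N Ω :=
    { smul := fun n y => ⟨n.1 * y.1 * n.1⁻¹, fun h => y.2.1 (by
          rw [Subgroup.mem_bot] at h ⊢
          exact conj_eq_one_iff.mp h), conj_mem_Pι ι (hNmem n) y.2.2⟩
      one_smul := fun y => by
        apply Subtype.ext
        show (1 : N).1 * y.1 * (1 : N).1⁻¹ = y.1
        simp
      mul_smul := fun a b y => by
        apply Subtype.ext
        show (a * b).1 * y.1 * (a * b).1⁻¹ = a.1 * (b.1 * y.1 * b.1⁻¹) * a.1⁻¹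
        rw [Subgroup.coe_mul]; group }
  have hstab : ∀ ω : Ω, (MulAction.stabilizer N ω).index = cN x1 := by
    intro ω
    have hωZ : ω.1 ∉ Z := fun h =>
      ω.2.1 (by rw [Subgroup.mem_bot]; exact D.P_inf_Z ω.2.2 h)
    have hcen : cen ω.1 = cen x1 :=
      D.ca.cen_eq_of_commute hωZ D.x1_not_mem (Dk.mem_cen.mp (D.P_le_cen ω.2.2))
    have hs : MulAction.stabilizer N ω = (cen x1).subgroupOf N := by
      ext n
      rw [MulAction.mem_stabilizer_iff, Subgroup.mem_subgroupOf, ← hcen, Dk.mem_cen]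
      constructor
      · intro h
        have h1 : n.1 * ω.1 * n.1⁻¹ = ω.1 := congrArg Subtype.val h
        show n.1 * ω.1 = ω.1 * n.1
        calc n.1 * ω.1 = (n.1 * ω.1 * n.1⁻¹) * n.1 := by group
          _ = ω.1 * n.1 := by rw [h1]
      · intro h
        apply Subtype.ext
        show n.1 * ω.1 * n.1⁻¹ = ω.1
        rw [h.eq]; group
    rw [hs]
    have h3 := relIndex_mul_card_of_le (show cen x1 ≤ N from hN ▸ Subgroup.le_normalizer)
    have h4 := card_nor x1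
    rw [← hN] at h4
    rw [h4] at h3
    have hpos : 0 < Nat.card (cen x1) := Nat.card_pos
    show (cen x1).relIndex N = cN x1
    apply Nat.eq_of_mul_eq_mul_right hpos
    rw [h3, mul_comm]
  have h1 := dvd_card_of_index_stabilizer N Ω (cN x1) hstab
  have h2 := card_compl_sub (show (⊥ : Subgroup X) ≤ Pι ι from bot_le)
  rw [Subgroup.card_bot] at h2
  have h3 : Nat.card Ω = Nat.card (Pι ι) - 1 := by
    show Nat.card {y : X // y ∉ (⊥ : Subgroup X) ∧ y ∈ Pι ι} = _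
    omega
  rw [← h3]; exact h1

theorem index [Finite X] : ∃ m : ℕ, cI x1 = 1 + m * Nat.card (Pι ι) := by
  obtain ⟨N, hN⟩ : ∃ N, N = Subgroup.normalizer (cen x1 : Set X) := ⟨_, rfl⟩
  have hNmem : ∀ g : X, g ∈ N ↔ (ι g).1 1 0 = 0 := fun g => by rw [hN]; exact D.mem_nor g
  have key := card_modEq_one_of_free (Pι ι) (X ⧸ N) ((1 : X) : X ⧸ N) ?_ ?_
  · obtain ⟨m, hm⟩ := key
    refine ⟨m, ?_⟩
    unfold cI
    rw [← hN, Subgroup.index_eq_card, hm]
  · intro g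
    rw [smul_coset, QuotientGroup.eq, mul_one, mul_one]
    exact inv_mem ((hNmem g.1).mpr g.2.1)
  · intro ω hω
    induction ω using QuotientGroup.induction_on with
    | H h =>
      have hh : (ι h).1 1 0 ≠ 0 := by
        intro h0
        apply hω
        rw [QuotientGroup.eq, mul_one]
        exact inv_mem ((hNmem h).mpr h0)
      rw [eq_bot_iff]
      intro g hg
      rw [MulAction.mem_stabilizer_iff, smul_coset, QuotientGroup.eq] at hg
      have e : (g.1 * h)⁻¹ * h = h⁻¹ * g.1⁻¹ * h := by group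
      rw [e, hNmem] at hg
      have hv := free_aux ι D.inj hh (inv_mem g.2) hg
      rw [Subgroup.mem_bot]
      exact Subtype.ext (inv_eq_one.mp hv)

open scoped Pointwise in
theorem rel_of_tr_two [Finite X] (p : ℕ) [Fact p.Prime] [CharP F p]
    {y : X} (hyZ : y ∉ Z) (hy : tr (ι y) = 2) : rel x1 y := by
  have hyp : y ^ p = 1 := by
    apply D.inj; rw [map_pow, map_one]; exact unip_pow_char p _ hy
  have hxp : x1 ^ p = 1 := by
    apply D.inj; rw [map_pow, map_one, D.hx1]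
    exact unip_pow_char p _ (by rw [tr_eq, Ux_e00, Ux_e11]; norm_num)
  obtain ⟨S1, hS1⟩ := (isPGroup_zpowers_of_pow p y hyp).exists_le_sylow
  obtain ⟨S0, hS0⟩ := (isPGroup_zpowers_of_pow p x1 hxp).exists_le_sylow
  obtain ⟨u, hu⟩ := MulAction.exists_smul_eq X S0 S1
  obtain ⟨S, hS⟩ : ∃ S : Subgroup X, S = (S1 : Subgroup X) := ⟨_, rfl⟩
  have hSp : IsPGroup p S := hS ▸ S1.2
  have hy1 : y ∈ S := by rw [hS]; exact hS1 (Subgroup.mem_zpowers y)
  have hx0 : x1 ∈ (S0 : Subgroup X) := hS0 (Subgroup.mem_zpowers x1)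
  have hux : u * x1 * u⁻¹ ∈ S := by
    have h1 : MulAut.conj u • x1 ∈ MulAut.conj u • (S0 : Subgroup X) :=
      Subgroup.smul_mem_pointwise_smul _ _ _ hx0
    rw [← Sylow.coe_subgroup_smul, hu, ← hS] at h1
    simpa [MulAut.smul_def] using h1
  haveI : Nontrivial S := ⟨⟨⟨y, hy1⟩, 1, fun h => hyZ (by
    have : y = 1 := congrArg Subtype.val h
    rw [this]; exact one_mem _)⟩⟩
  haveI : Nontrivial (Subgroup.center S) := hSp.center_nontrivial
  obtain ⟨w', hw'⟩ := exists_ne (1 : Subgroup.center S)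
  obtain ⟨w, hw⟩ : ∃ w : X, w = w'.1.1 := ⟨_, rfl⟩
  have hwS : w ∈ S := by rw [hw]; exact w'.1.2
  have hw1 : w ≠ 1 := by
    intro h
    apply hw'
    apply Subtype.ext; apply Subtype.ext
    rw [← hw, h]; rfl
  have hwc : ∀ s : X, s ∈ S → Commute s w := by
    intro s hs
    have h1 := Subgroup.mem_center_iff.mp w'.2 ⟨s, hs⟩
    have h2 := congrArg Subtype.val h1
    rw [hw]
    exact h2
  have hwZ : w ∉ Z := by
    intro hwZ
    obtain ⟨k, hk⟩ := hSp ⟨w, hwS⟩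
    have hk' : w ^ p ^ k = 1 := congrArg Subtype.val hk
    rcases (mem_center_iff_pm _).mp ((D.hZ w).mp hwZ) with h | h
    · apply hw1; apply D.inj; rw [map_one]; exact Subtype.ext h
    · have h2 : w ^ 2 = 1 := by
        apply D.inj
        rw [map_pow, map_one]
        apply Subtype.ext
        rw [pow_two, Matrix.SpecialLinearGroup.coe_mul, h]; simp
      have ho : orderOf w = 2 := orderOf_eq_prime h2 hw1
      have hd : 2 ∣ p ^ k := by rw [← ho]; exact orderOf_dvd_of_pow_eq_one hk'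
      have hp2 : 2 = p :=
        (Nat.prime_dvd_prime_iff_eq Nat.prime_two (Fact.out : p.Prime)).mp
          (Nat.prime_two.dvd_of_dvd_pow hd)
      subst hp2
      apply hw1; apply D.inj; rw [map_one]
      apply Subtype.ext
      rw [h]
      have h11 : (-1 : F) = 1 := CharTwo.neg_eq 1
      ext i j
      fin_cases i <;> fin_cases j <;> simp [h11]
  exact ⟨u, D.ca.comm w hwZ _ _ (hwc _ hux) (hwc _ hy1)⟩

theorem rel_of_tr_sq [Finite X] (p : ℕ) [Fact p.Prime] [CharP F p]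
    {y : X} (hyZ : y ∉ Z) (hy : tr (ι y) ^ 2 = 4) : rel x1 y := by
  have h1 : (tr (ι y) - 2) * (tr (ι y) + 2) = 0 := by linear_combination hy
  rcases mul_eq_zero.mp h1 with h | h
  · exact D.rel_of_tr_two p hyZ (by linear_combination h)
  · obtain ⟨z, hz⟩ := D.hcen (mkSL (-1) 0 0 (-1) (by ring))
      ((center_iff_entries _).mpr ⟨rfl, rfl, rfl⟩)
    have hzZ : z ∈ Z :=
      (D.hZ z).mpr (by rw [hz]; exact (center_iff_entries _).mpr ⟨rfl, rfl, rfl⟩)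
    have hzyZ : z * y ∉ Z := fun hh => hyZ (by
      have := mul_mem (inv_mem hzZ) hh
      rwa [inv_mul_cancel_left] at this)
    have htr : tr (ι (z * y)) = 2 := by
      rw [tr_eq] at h ⊢
      rw [map_mul, hz]; simp only [mul_e00, mul_e01, mul_e10, mul_e11, mk_e00, mk_e01, mk_e10, mk_e11, Ux_e00, Ux_e01, Ux_e10, Ux_e11, inv_e00, inv_e01, inv_e10, inv_e11]
      linear_combination (-1 : F) * h
    obtain ⟨u, hu⟩ := D.rel_of_tr_two p hzyZ htr
    refine ⟨u, ?_⟩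
    have hzc := Subgroup.mem_center_iff.mp (D.ca.central hzZ)
    have h2 : u * x1 * u⁻¹ * (z * y) = z * y * (u * x1 * u⁻¹) := hu.eq
    have h3 : z * (u * x1 * u⁻¹ * y) = z * (y * (u * x1 * u⁻¹)) := by
      calc z * (u * x1 * u⁻¹ * y) = u * x1 * u⁻¹ * z * y := by
            rw [hzc (u * x1 * u⁻¹)]; simp only [mul_assoc]
        _ = u * x1 * u⁻¹ * (z * y) := mul_assoc _ _ _
        _ = z * y * (u * x1 * u⁻¹) := h2
        _ = z * (y * (u * x1 * u⁻¹)) := mul_assoc _ _ _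
    exact mul_left_cancel h3

theorem exists_k [Finite X] (he : 2 ≤ cN x1) :
    ∃ k : X, k ∉ Z ∧ ¬ rel x1 k ∧ cA Z k = cN x1 := by
  obtain ⟨N, hN⟩ : ∃ N, N = Subgroup.normalizer (cen x1 : Set X) := ⟨_, rfl⟩
  have hNmem : ∀ g : X, g ∈ N ↔ (ι g).1 1 0 = 0 := fun g => by rw [hN]; exact D.mem_nor g
  have hcn := card_nor x1
  rw [← hN] at hcn
  obtain ⟨k, hkN, hkC⟩ : ∃ k ∈ N, k ∉ cen x1 := by
    by_contra hcon
    push Not at hcon
    have h1 : Nat.card N ≤ Nat.card (cen x1) := Subgroup.card_le_of_le (fun n hn => hcon n hn)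
    have hpos : 0 < Nat.card (cen x1) := Nat.card_pos
    rw [hcn] at h1
    have : Nat.card (cen x1) * 2 ≤ Nat.card (cen x1) * cN x1 := Nat.mul_le_mul_left _ he
    omega
  have hk0 : (ι k).1 1 0 = 0 := (hNmem k).mp hkN
  have hkne : (ι k).1 0 0 ≠ (ι k).1 1 1 := fun h => hkC ((D.mem_cen k).mpr ⟨hk0, h⟩)
  have hkdet := sl2_det (ι k)
  rw [hk0] at hkdet
  have hkZ : k ∉ Z := fun h => hkC (D.ca.le_cen x1 h)
  have hkc : ι k ∉ Subgroup.center SL2 := fun h => hkZ ((D.hZ k).mpr h)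
  refine ⟨k, hkZ, ?_, ?_⟩
  · rintro ⟨u, hu⟩
    have h1 : Commute x1 (u⁻¹ * k * u) := comm_conj_left.mp hu
    have h2 : u⁻¹ * k * u ∈ cen x1 := Dk.mem_cen.mpr h1.symm
    obtain ⟨c0, c1⟩ := (D.mem_cen _).mp h2
    have hdet2 := sl2_det (ι (u⁻¹ * k * u))
    rw [c0, ← c1] at hdet2
    have htr : tr (ι (u⁻¹ * k * u)) = tr (ι k) := by
      have := tr_conj (ι u⁻¹) (ι k)
      rw [map_inv, inv_inv] at this
      rw [map_mul, map_mul, map_inv]; exact this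
    rw [tr_eq, tr_eq, ← c1] at htr
    apply hkne
    have h3 : ((ι k).1 0 0 - (ι k).1 1 1) ^ 2 = 0 := by
      linear_combination 4 * hdet2 - (2 * (ι (u⁻¹ * k * u)).1 0 0 + (ι k).1 0 0 + (ι k).1 1 1) * htr
        - 4 * hkdet
    exact sub_eq_zero.mp (pow_eq_zero_iff two_ne_zero |>.mp h3)
  · have hL : ∀ v : X, v ∈ Pι ι → Commute v k → v = 1 := by
      intro v hv hc
      obtain ⟨v1, v2, v3⟩ := hv
      have h1 : ι v * ι k = ι k * ι v := by rw [← map_mul, ← map_mul, hc.eq]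
      have e01 := congrArg (fun m : SL2 => m.1 0 1) h1
      simp only [mul_e00, mul_e01, mul_e10, mul_e11, mk_e00, mk_e01, mk_e10, mk_e11, Ux_e00, Ux_e01, Ux_e10, Ux_e11, inv_e00, inv_e01, inv_e10, inv_e11] at e01
      rw [v2, v3] at e01
      have h2 : (ι v).1 0 1 * ((ι k).1 1 1 - (ι k).1 0 0) = 0 := by linear_combination e01
      rcases mul_eq_zero.mp h2 with h | h
      · exact Pι_eq_one ι D.inj ⟨v1, v2, v3⟩ h
      · exact absurd (sub_eq_zero.mp h).symm hkne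
    have hcenN : ∀ g : X, g ∈ cen k → g ∈ N := by
      intro g hg
      rw [hNmem]
      obtain ⟨α, β, _, _, h10, _⟩ := comm_coords (ι k) (ι g) hkc ((Dk.mem_cen.mp hg).map ι)
      rw [h10, hk0, mul_zero]
    have hPN : ∀ u : X, u ∈ Pι ι → u ∈ N := fun u hu => (hNmem u).mpr hu.1
    have hcomm_mem : ∀ n : X, n ∈ N → n * k * n⁻¹ * k⁻¹ ∈ Pι ι := by
      intro n hn
      have hn0 := (hNmem n).mp hn
      have hndet := sl2_det (ι n)
      rw [hn0] at hndet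
      rw [mem_Pι, map_mul, map_mul, map_mul, map_inv, map_inv]
      simp only [mul_e00, mul_e01, mul_e10, mul_e11, mk_e00, mk_e01, mk_e10, mk_e11, Ux_e00, Ux_e01, Ux_e10, Ux_e11, inv_e00, inv_e01, inv_e10, inv_e11]
      rw [hn0, hk0]
      refine ⟨by ring, ?_, ?_⟩
      · linear_combination ((ι k).1 0 0 * (ι k).1 1 1) * hndet + hkdet
      · linear_combination ((ι k).1 0 0 * (ι k).1 1 1) * hndet + hkdet
    have hsurj : ∀ n : X, n ∈ N → ∃ u ∈ Pι ι, u⁻¹ * n ∈ cen k := by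
      intro n hn
      let ψ : Pι ι → Pι ι := fun u => ⟨u.1 * k * u.1⁻¹ * k⁻¹, hcomm_mem u.1 (hPN u.1 u.2)⟩
      have hψ : Function.Injective ψ := by
        intro u u' h
        have h1 : u.1 * k * u.1⁻¹ * k⁻¹ = u'.1 * k * u'.1⁻¹ * k⁻¹ := congrArg Subtype.val h
        have h2 : u.1 * k * u.1⁻¹ = u'.1 * k * u'.1⁻¹ := mul_right_cancel h1
        have h3 : Commute (u'.1⁻¹ * u.1) k := by
          show u'.1⁻¹ * u.1 * k = k * (u'.1⁻¹ * u.1)
          calc u'.1⁻¹ * u.1 * k = u'.1⁻¹ * (u.1 * k * u.1⁻¹) * u.1 := by group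
            _ = u'.1⁻¹ * (u'.1 * k * u'.1⁻¹) * u.1 := by rw [h2]
            _ = k * (u'.1⁻¹ * u.1) := by group
        have h4 := hL _ (mul_mem (inv_mem u'.2) u.2) h3
        apply Subtype.ext
        exact (inv_mul_eq_one.mp h4).symm
      obtain ⟨u, hu⟩ := (Finite.injective_iff_surjective.mp hψ)
        ⟨n * k * n⁻¹ * k⁻¹, hcomm_mem n hn⟩
      refine ⟨u.1, u.2, ?_⟩
      have h1 : u.1 * k * u.1⁻¹ * k⁻¹ = n * k * n⁻¹ * k⁻¹ := congrArg Subtype.val hu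
      have h2 : u.1 * k * u.1⁻¹ = n * k * n⁻¹ := mul_right_cancel h1
      rw [Dk.mem_cen]
      show u.1⁻¹ * n * k = k * (u.1⁻¹ * n)
      calc u.1⁻¹ * n * k = u.1⁻¹ * (n * k * n⁻¹) * n := by group
        _ = u.1⁻¹ * (u.1 * k * u.1⁻¹) * n := by rw [h2]
        _ = k * (u.1⁻¹ * n) := by group
    have hcardN : Nat.card N = Nat.card (Pι ι) * Nat.card (cen k) := by
      rw [← Nat.card_prod]
      symm
      refine Nat.card_congr (Equiv.ofBijective
        (fun y : Pι ι × cen k =>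
          (⟨y.1.1 * y.2.1, mul_mem (hPN _ y.1.2) (hcenN _ y.2.2)⟩ : N)) ⟨?_, ?_⟩)
      · rintro ⟨u, g⟩ ⟨u', g'⟩ h
        have h1 : u.1 * g.1 = u'.1 * g'.1 := congrArg Subtype.val h
        have h2 : u'.1⁻¹ * u.1 = g'.1 * g.1⁻¹ := by
          calc u'.1⁻¹ * u.1 = u'.1⁻¹ * (u.1 * g.1) * g.1⁻¹ := by group
            _ = u'.1⁻¹ * (u'.1 * g'.1) * g.1⁻¹ := by rw [h1]
            _ = g'.1 * g.1⁻¹ := by group
        have h3 : Commute (u'.1⁻¹ * u.1) k := by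
          rw [h2]; exact Dk.mem_cen.mp (mul_mem g'.2 (inv_mem g.2))
        have h4 := hL _ (mul_mem (inv_mem u'.2) u.2) h3
        have h5 : u'.1 = u.1 := inv_mul_eq_one.mp h4
        have h6 : g.1 = g'.1 := by
          rw [h5] at h1; exact mul_left_cancel h1
        exact Prod.ext (Subtype.ext h5.symm) (Subtype.ext h6)
      · rintro ⟨n, hn⟩
        obtain ⟨u, hu, hg⟩ := hsurj n hn
        refine ⟨(⟨u, hu⟩, ⟨u⁻¹ * n, hg⟩), ?_⟩
        apply Subtype.ext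
        show u * (u⁻¹ * n) = n
        group
    have hc1 := D.card_cen
    have hc2 := Dk.card_cen D.ca k
    have hP : 0 < Nat.card (Pι ι) := Nat.card_pos
    have hz : 0 < Nat.card Z := Nat.card_pos
    rw [hcn, hc1, hc2] at hcardN
    have : Nat.card Z * Nat.card (Pι ι) * cN x1 = Nat.card Z * Nat.card (Pι ι) * cA Z k := by
      rw [hcardN]; ring
    exact (Nat.eq_of_mul_eq_mul_left (Nat.mul_pos hz hP) this).symm

theorem bruhat [Finite X] (hI : cI x1 = 1 + Nat.card (Pι ι))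
    (w h : X) (hw : (ι w).1 1 0 ≠ 0) (hh : (ι h).1 1 0 ≠ 0) :
    ∃ u ∈ Pι ι, ∃ n : X, (ι n).1 1 0 = 0 ∧ h = u * w * n := by
  classical
  obtain ⟨N, hN⟩ : ∃ N, N = Subgroup.normalizer (cen x1 : Set X) := ⟨_, rfl⟩
  have hNmem : ∀ g : X, g ∈ N ↔ (ι g).1 1 0 = 0 := fun g => by rw [hN]; exact D.mem_nor g
  have hidx : Nat.card (X ⧸ N) = 1 + Nat.card (Pι ι) := by
    rw [← Subgroup.index_eq_card, hN]; exact hI
  let Ω := {ω : X ⧸ N // ω ≠ ((1 : X) : X ⧸ N)}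
  have hΩ : Nat.card Ω = Nat.card (Pι ι) := by
    have := card_ne_add_one ((1 : X) : X ⧸ N)
    show Nat.card {ω : X ⧸ N // ω ≠ ((1 : X) : X ⧸ N)} = _
    omega
  have hfmem : ∀ u : Pι ι, ((u.1 * w : X) : X ⧸ N) ≠ ((1 : X) : X ⧸ N) := by
    intro u h
    rw [QuotientGroup.eq, mul_one] at h
    have h1 : u.1 * w ∈ N := by
      have := inv_mem h
      rwa [inv_inv] at this
    have h2 : w ∈ N := by
      have := mul_mem (inv_mem ((hNmem u.1).mpr u.2.1)) h1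
      rwa [inv_mul_cancel_left] at this
    exact hw ((hNmem w).mp h2)
  let f : Pι ι → Ω := fun u => ⟨((u.1 * w : X) : X ⧸ N), hfmem u⟩
  have hf : Function.Injective f := by
    intro u u' h
    have h1 : ((u.1 * w : X) : X ⧸ N) = ((u'.1 * w : X) : X ⧸ N) := congrArg Subtype.val h
    rw [QuotientGroup.eq] at h1
    have e : (u.1 * w)⁻¹ * (u'.1 * w) = w⁻¹ * (u.1⁻¹ * u'.1) * w := by group
    rw [e, hNmem] at h1
    have h2 := free_aux ι D.inj hw (mul_mem (inv_mem u.2) u'.2) h1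
    exact Subtype.ext (inv_mul_eq_one.mp h2)
  have hbij : Function.Bijective f := hf.bijective_of_nat_card_le (by rw [hΩ])
  have hhN : ((h : X) : X ⧸ N) ≠ ((1 : X) : X ⧸ N) := by
    intro h1
    rw [QuotientGroup.eq, mul_one] at h1
    have h2 : h ∈ N := by
      have := inv_mem h1
      rwa [inv_inv] at this
    exact hh ((hNmem h).mp h2)
  obtain ⟨u, hu⟩ := hbij.2 ⟨_, hhN⟩
  have h1 : ((u.1 * w : X) : X ⧸ N) = ((h : X) : X ⧸ N) := congrArg Subtype.val hu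
  rw [QuotientGroup.eq] at h1
  refine ⟨u.1, u.2, (u.1 * w)⁻¹ * h, (hNmem _).mp h1, ?_⟩
  group

theorem field_concl [Fintype F] [Finite X] (p : ℕ) [Fact p.Prime] [CharP F p]
    (hI : cI x1 = 1 + Nat.card (Pι ι)) :
    ∃ (Q : Matrix (Fin 2) (Fin 2) F) (hQ : Q.det ≠ 0) (K0 : Subfield F),
      (∀ g : SL2, g ∈ ((conjGL Q hQ).comp ι).range ↔ MemK K0 g.1) ∨
      (∃ lam : F, lam ∉ K0 ∧ lam ^ 2 ∈ K0 ∧
        ∀ g : SL2, g ∈ ((conjGL Q hQ).comp ι).range ↔ (MemK K0 g.1 ∨ MemK K0 (lam • g.1))) := by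
  obtain ⟨w, hw⟩ : ∃ w : X, (ι w).1 1 0 ≠ 0 := by
    by_contra hcon
    push Not at hcon
    have : Subgroup.normalizer (cen x1 : Set X) = ⊤ :=
      eq_top_iff.mpr (fun g _ => (D.mem_nor g).mpr (hcon g))
    have h1 : cI x1 = 1 := by unfold cI; rw [this, Subgroup.index_top]
    have hP : 0 < Nat.card (Pι ι) := Nat.card_pos
    omega
  obtain ⟨σ, hσ⟩ : ∃ σ : F, σ = (ι w).1 0 0 / (ι w).1 1 0 := ⟨_, rfl⟩
  have hQ : ((Ux σ : SL2) : Matrix (Fin 2) (Fin 2) F).det ≠ 0 := by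
    rw [(Ux σ).2]; exact one_ne_zero
  have hconj : ∀ g : SL2, conjGL (Ux σ).1 hQ g = (Ux σ)⁻¹ * g * Ux σ := by
    intro g
    apply Subtype.ext
    apply conjGL_eq_of_mul_eq
    rw [← Matrix.SpecialLinearGroup.coe_mul, ← Matrix.SpecialLinearGroup.coe_mul, mul_assoc,
      mul_inv_cancel_left]
  refine ⟨(Ux σ).1, hQ, ?_⟩
  obtain ⟨ι2, hι2⟩ : ∃ ι2 : X →* SL2, ι2 = (conjGL (Ux σ).1 hQ).comp ι := ⟨_, rfl⟩
  rw [← hι2]
  have hι2a : ∀ g : X, ι2 g = (Ux σ)⁻¹ * ι g * Ux σ := by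
    intro g; rw [hι2, MonoidHom.comp_apply, hconj]
  have e00 : ∀ g : X, (ι2 g).1 0 0 = (ι g).1 0 0 - σ * (ι g).1 1 0 := by
    intro g; rw [hι2a, Ux_inv]; simp only [mul_e00, mul_e01, mul_e10, mul_e11, mk_e00, mk_e01, mk_e10, mk_e11, Ux_e00, Ux_e01, Ux_e10, Ux_e11, inv_e00, inv_e01, inv_e10, inv_e11]; ring
  have e10 : ∀ g : X, (ι2 g).1 1 0 = (ι g).1 1 0 := by
    intro g; rw [hι2a, Ux_inv]; simp only [mul_e00, mul_e01, mul_e10, mul_e11, mk_e00, mk_e01, mk_e10, mk_e11, Ux_e00, Ux_e01, Ux_e10, Ux_e11, inv_e00, inv_e01, inv_e10, inv_e11]; ring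
  have eP : ∀ u : X, u ∈ Pι ι → ι2 u = Ux ((ι u).1 0 1) := by
    intro u hu
    obtain ⟨u1, u2, u3⟩ := hu
    rw [hι2a, Ux_inv]
    apply sl_ext
    · simp only [mul_e00, mul_e01, mul_e10, mul_e11, mk_e00, mk_e01, mk_e10, mk_e11, Ux_e00, Ux_e01, Ux_e10, Ux_e11, inv_e00, inv_e01, inv_e10, inv_e11]; linear_combination u2 - σ * u1
    · simp only [mul_e00, mul_e01, mul_e10, mul_e11, mk_e00, mk_e01, mk_e10, mk_e11, Ux_e00, Ux_e01, Ux_e10, Ux_e11, inv_e00, inv_e01, inv_e10, inv_e11]; linear_combination σ * u2 - σ ^ 2 * u1 - σ * u3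
    · simp only [mul_e00, mul_e01, mul_e10, mul_e11, mk_e00, mk_e01, mk_e10, mk_e11, Ux_e00, Ux_e01, Ux_e10, Ux_e11, inv_e00, inv_e01, inv_e10, inv_e11]; linear_combination u1
    · simp only [mul_e00, mul_e01, mul_e10, mul_e11, mk_e00, mk_e01, mk_e10, mk_e11, Ux_e00, Ux_e01, Ux_e10, Ux_e11, inv_e00, inv_e01, inv_e10, inv_e11]; linear_combination σ * u1 + u3
  have key := field_case p ι2.range ?_ ?_ ?_
  · obtain ⟨K0, _, hK⟩ := key
    exact ⟨K0, hK⟩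
  · exact ⟨x1, by rw [eP x1 D.x1_mem_P, D.hx1, Ux_e01]⟩
  · refine ⟨ι2 w, ⟨w, rfl⟩, ?_⟩
    rw [e00, hσ, div_mul_cancel₀ _ hw, sub_self]
  · rintro _ ⟨w0, rfl⟩ _ ⟨h0, rfl⟩ hw0 hh0
    rw [e10] at hw0 hh0
    obtain ⟨u, hu, n, hn, heq⟩ := D.bruhat hI w0 h0 hw0 hh0
    refine ⟨(ι u).1 0 1, ι2 n, ⟨n, rfl⟩, ⟨u, eP u hu⟩, ?_, ?_⟩
    · rw [e10]; exact hn
    · rw [← eP u hu, heq, map_mul, map_mul]

end NData

/-- the conclusion of Dickson's theorem for a finite subgroup `ι : X → SL₂(F)`. -/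
def Concl (ι : X →* Matrix.SpecialLinearGroup (Fin 2) F) (Z : Subgroup X) [Z.Normal] : Prop :=
  (∃ v : Fin 2 → F, v ≠ 0 ∧ ∀ g : X, ∃ c : F, (ι g).1 *ᵥ v = c • v) ∨
  (∃ x : X, x ∉ Z ∧ tr (ι x) ^ 2 ≠ 4 ∧ ∀ g : X, g * x * g⁻¹ = x ∨ g * x * g⁻¹ = x⁻¹) ∨
  (Z.index = 12 ∧ Nonempty (X ⧸ Z ≃* alternatingGroup (Fin 4))) ∨
  (Z.index = 24 ∧ Nonempty (X ⧸ Z ≃* Equiv.Perm (Fin 4))) ∨
  (Z.index = 60 ∧ Nonempty (X ⧸ Z ≃* alternatingGroup (Fin 5))) ∨
  (∃ (Q : Matrix (Fin 2) (Fin 2) F) (hQ : Q.det ≠ 0) (K0 : Subfield F),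
    (∀ g : SL2, g ∈ ((conjGL Q hQ).comp ι).range ↔ MemK K0 g.1) ∨
    (∃ lam : F, lam ∉ K0 ∧ lam ^ 2 ∈ K0 ∧
      ∀ g : SL2, g ∈ ((conjGL Q hQ).comp ι).range ↔ (MemK K0 g.1 ∨ MemK K0 (lam • g.1))))

theorem norm_case [Fintype F] [Finite X] (p : ℕ) [Fact p.Prime] [CharP F p]
    {ι : X →* Matrix.SpecialLinearGroup (Fin 2) F} {Z : Subgroup X} [Z.Normal] {x1 : X}
    (D : NData ι Z x1) : Concl ι Z := by
  obtain ⟨m, hm⟩ := D.index
  by_cases hm0 : m = 0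
  · left
    rw [hm0, zero_mul, add_zero] at hm
    have htop : Subgroup.normalizer (cen x1 : Set X) = ⊤ := Subgroup.index_eq_one.mp hm
    refine ⟨![1, 0], ?_, ?_⟩
    · intro h
      have := congrFun h 0
      simp at this
    · intro g
      have hg : (ι g).1 1 0 = 0 := (D.mem_nor g).mp (by rw [htop]; trivial)
      refine ⟨(ι g).1 0 0, ?_⟩
      ext i
      fin_cases i
      · simp [Matrix.mulVec, dotProduct, Fin.sum_univ_two]
      · simp [Matrix.mulVec, dotProduct, Fin.sum_univ_two, hg]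
  · have hm1 : 1 ≤ m := Nat.one_le_iff_ne_zero.mpr hm0
    have hA : cA Z x1 = Nat.card (Pι ι) := by
      have h1 := card_cen D.ca x1
      have h2 := D.card_cen
      have hz : 0 < Nat.card Z := Nat.card_pos
      rw [h2] at h1
      exact (Nat.eq_of_mul_eq_mul_left hz h1).symm
    rcases abstract_p_case D.ca x1 D.x1_not_mem (Nat.card (Pι ι)) (cN x1) m hA rfl hm hm1 D.dvd
      (fun y hyZ hrel => torusLike_of_tr ι D.inj (fun h => hyZ ((D.hZ y).mpr h))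
        (fun h4 => hrel (D.rel_of_tr_sq p hyZ h4)))
      D.exists_k with h | ⟨y, hyZ, hrel, hI⟩ | h
    · right; right; right; right; right
      rw [h, one_mul] at hm
      exact D.field_concl p hm
    · right; left
      have ht : tr (ι y) ^ 2 ≠ 4 := fun h4 => hrel (D.rel_of_tr_sq p hyZ h4)
      exact ⟨y, hyZ, ht, concl_T_of_cI ι D.inj Z D.hZ hyZ ht hI⟩
    · right; right; right; right; left
      exact h

end hom

end Cfsg.Agent.Helper41.Dk
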