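import Cfsg.Agent.Helper41.DkNorm
import Cfsg.Agent.Helper53.TwoGroup

set_option autoImplicit false

/-!
# Dickson, part 9: the torus normalizer case — cyclic and dihedral images
-/

namespace Cfsg.Agent.Helper41.Dk

open Cfsg.Agent.Helper41 Matrix

variable {F : Type*} [Field F]

local notation "SL2" => Matrix.SpecialLinearGroup (Fin 2) F

/-- the coordinates `(α, β)` of `α + β x` are unique for non-scalar `x`. -/
theorem coords_unique (x : SL2) (hx : x ∉ Subgroup.center SL2) {α β α' β' : F}
    (h00 : α + β * x.1 0 0 = α' + β' * x.1 0 0) (h01 : β * x.1 0 1 = β' * x.1 0 1)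
    (h10 : β * x.1 1 0 = β' * x.1 1 0) (h11 : α + β * x.1 1 1 = α' + β' * x.1 1 1) :
    α = α' ∧ β = β' := by
  have hβ : β = β' := by
    rcases (not_center_iff x).mp hx with hc | hb | had
    · exact mul_right_cancel₀ hc h10
    · exact mul_right_cancel₀ hb h01
    · have h : (β - β') * (x.1 0 0 - x.1 1 1) = 0 := by linear_combination h00 - h11
      rcases mul_eq_zero.mp h with h | h
      · exact sub_eq_zero.mp h
      · exact absurd (sub_eq_zero.mp h) had
  subst hβ
  exact ⟨by linear_combination h00, rfl⟩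

theorem tr_sq_of_mul_self (y : SL2) (h : y * y = 1) : tr y ^ 2 = 4 := by
  have h1 := sl2_sq y
  have h2 : y.1 * y.1 = 1 := by
    have := congrArg Subtype.val h
    simpa using this
  rw [h2] at h1
  have e00 := congrFun (congrFun h1 0) 0
  have e11 := congrFun (congrFun h1 1) 1
  simp only [Matrix.sub_apply, Matrix.smul_apply, Matrix.one_apply_eq, smul_eq_mul] at e00 e11
  have h3 := tr_eq y
  linear_combination (tr y) * h3 - e00 - e11

theorem tr_ne_of_comm (x t : SL2) (hx : x ∉ Subgroup.center SL2) (ht : tr x ^ 2 ≠ 4)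
    (hc : Commute t x) (htc : t ∉ Subgroup.center SL2) : tr t ^ 2 ≠ 4 := by
  obtain ⟨α, β, t00, t01, t10, t11⟩ := comm_coords x t hx hc
  have hdx := sl2_det x
  have hdt := sl2_det t
  rw [t00, t01, t10, t11] at hdt
  have hβ : β ≠ 0 := by
    rintro rfl
    apply htc
    rw [center_iff_entries]
    refine ⟨by rw [t10]; ring, by rw [t01]; ring, by rw [t00, t11]; ring⟩
  intro h4
  rw [tr_eq, t00, t11] at h4
  have h5 : β ^ 2 * (tr x ^ 2 - 4) = 0 := by
    rw [tr_eq]
    linear_combination h4 - 4 * hdt + 4 * β ^ 2 * hdx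
  rcases mul_eq_zero.mp h5 with h | h
  · exact hβ (pow_eq_zero_iff two_ne_zero |>.mp h)
  · exact ht (sub_eq_zero.mp h)

/-- the centralizer of a regular semisimple element of `SL₂(q)` is cyclic of order dividing
`q - 1` or `q + 1`. -/
theorem torus_cyclic [Fintype F] (p : ℕ) [Fact p.Prime] [CharP F p] {x : SL2}
    (hx : x ∉ Subgroup.center SL2) (ht : tr x ^ 2 ≠ 4) :
    IsCyclic (cen x) ∧
      (Nat.card (cen x) ∣ Fintype.card F - 1 ∨ Nat.card (cen x) ∣ Fintype.card F + 1) := by
  classical
  obtain ⟨n, hp, hq⟩ := FiniteField.card F p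
  have ha : Function.Injective (algebraMap F (AlgebraicClosure F)) :=
    (algebraMap F (AlgebraicClosure F)).injective
  haveI : CharP (AlgebraicClosure F) p := charP_of_injective_algebraMap ha p
  obtain ⟨a, haa⟩ : ∃ a : F →+* AlgebraicClosure F, a = algebraMap F (AlgebraicClosure F) :=
    ⟨_, rfl⟩
  rw [← haa] at ha
  obtain ⟨lam, hlam⟩ : ∃ lam : AlgebraicClosure F, lam ^ 2 - a (tr x) * lam + 1 = 0 := by
    have hdeg : (Polynomial.C (1 : AlgebraicClosure F) * Polynomial.X ^ 2 +
        Polynomial.C (- a (tr x)) * Polynomial.X + Polynomial.C 1).degree ≠ 0 := by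
      rw [Polynomial.degree_quadratic one_ne_zero]; decide
    obtain ⟨lam, hl⟩ := IsAlgClosed.exists_root _ hdeg
    refine ⟨lam, ?_⟩
    simp only [Polynomial.IsRoot, Polynomial.eval_add, Polynomial.eval_mul, Polynomial.eval_C,
      Polynomial.eval_pow, Polynomial.eval_X] at hl
    linear_combination hl
  have hcoord : ∀ t : cen x, ∃ α β : F, t.1.1 0 0 = α + β * x.1 0 0 ∧
      t.1.1 0 1 = β * x.1 0 1 ∧ t.1.1 1 0 = β * x.1 1 0 ∧ t.1.1 1 1 = α + β * x.1 1 1 :=
    fun t => comm_coords x t.1 hx (mem_cen.mp t.2)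
  choose α β hc using hcoord
  have hdx := sl2_det x
  have hdet : ∀ t : cen x, α t ^ 2 + α t * β t * tr x + β t ^ 2 = 1 := by
    intro t
    obtain ⟨t00, t01, t10, t11⟩ := hc t
    have hdt := sl2_det t.1
    rw [t00, t01, t10, t11] at hdt
    rw [tr_eq]
    linear_combination hdt - β t ^ 2 * hdx
  have hone : α 1 = 1 ∧ β 1 = 0 := by
    obtain ⟨t00, t01, t10, t11⟩ := hc 1
    have e00 : ((1 : cen x) : SL2).1 0 0 = 1 := by simp
    have e01 : ((1 : cen x) : SL2).1 0 1 = 0 := by simp
    have e10 : ((1 : cen x) : SL2).1 1 0 = 0 := by simp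
    have e11 : ((1 : cen x) : SL2).1 1 1 = 1 := by simp
    apply coords_unique x hx
    · rw [← t00, e00]; ring
    · rw [← t01, e01]; ring
    · rw [← t10, e10]; ring
    · rw [← t11, e11]; ring
  have hmul : ∀ t t' : cen x, α (t * t') = α t * α t' - β t * β t' ∧
      β (t * t') = α t * β t' + α t' * β t + β t * β t' * tr x := by
    intro t t'
    obtain ⟨t00, t01, t10, t11⟩ := hc t
    obtain ⟨s00, s01, s10, s11⟩ := hc t'
    obtain ⟨u00, u01, u10, u11⟩ := hc (t * t')
    have e00 : ((t * t' : cen x) : SL2).1 0 0 = t.1.1 0 0 * t'.1.1 0 0 + t.1.1 0 1 * t'.1.1 1 0 := by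
      rw [Subgroup.coe_mul, Matrix.SpecialLinearGroup.coe_mul, Matrix.mul_apply, Fin.sum_univ_two]
    have e01 : ((t * t' : cen x) : SL2).1 0 1 = t.1.1 0 0 * t'.1.1 0 1 + t.1.1 0 1 * t'.1.1 1 1 := by
      rw [Subgroup.coe_mul, Matrix.SpecialLinearGroup.coe_mul, Matrix.mul_apply, Fin.sum_univ_two]
    have e10 : ((t * t' : cen x) : SL2).1 1 0 = t.1.1 1 0 * t'.1.1 0 0 + t.1.1 1 1 * t'.1.1 1 0 := by
      rw [Subgroup.coe_mul, Matrix.SpecialLinearGroup.coe_mul, Matrix.mul_apply, Fin.sum_univ_two]
    have e11 : ((t * t' : cen x) : SL2).1 1 1 = t.1.1 1 0 * t'.1.1 0 1 + t.1.1 1 1 * t'.1.1 1 1 := by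
      rw [Subgroup.coe_mul, Matrix.SpecialLinearGroup.coe_mul, Matrix.mul_apply, Fin.sum_univ_two]
    apply coords_unique x hx
    · rw [← u00, e00, t00, t01, s00, s10, tr_eq]
      linear_combination (-(β t * β t')) * hdx
    · rw [← u01, e01, t00, t01, s01, s11, tr_eq]
      ring
    · rw [← u10, e10, t10, t11, s00, s10, tr_eq]
      ring
    · rw [← u11, e11, t10, t11, s01, s11, tr_eq]
      linear_combination (-(β t * β t')) * hdx
  obtain ⟨f, hf⟩ : ∃ f : cen x →* AlgebraicClosure F, ∀ t, f t = a (α t) + a (β t) * lam := by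
    refine ⟨{ toFun := fun t => a (α t) + a (β t) * lam, map_one' := ?_, map_mul' := ?_ },
      fun t => rfl⟩
    · show a (α 1) + a (β 1) * lam = 1
      rw [hone.1, hone.2, map_one, map_zero]; ring
    · intro t t'
      show a (α (t * t')) + a (β (t * t')) * lam = (a (α t) + a (β t) * lam) *
        (a (α t') + a (β t') * lam)
      rw [(hmul t t').1, (hmul t t').2]
      simp only [map_add, map_sub, map_mul]
      linear_combination (-(a (β t) * a (β t'))) * hlam
  have hnorm : ∀ t : cen x, f t * (a (α t) + a (β t) * (a (tr x) - lam)) = 1 := by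
    intro t
    have hd' : a (α t) ^ 2 + a (α t) * a (β t) * a (tr x) + a (β t) ^ 2 = 1 := by
      have := congrArg a (hdet t)
      simpa only [map_add, map_mul, map_pow, map_one] using this
    rw [hf]
    linear_combination hd' - (a (β t)) ^ 2 * hlam
  have hdisc : 2 * lam - a (tr x) ≠ 0 := by
    intro h0
    apply ht
    apply ha
    rw [map_pow]
    have : a (4 : F) = 4 := map_ofNat a 4
    rw [this]
    linear_combination (2 * lam - a (tr x)) * h0 - 4 * hlam
  have hinj : Function.Injective f := by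
    intro t t' htt
    have h1 : a (α t) + a (β t) * (a (tr x) - lam) = a (α t') + a (β t') * (a (tr x) - lam) := by
      have e1 := hnorm t
      have e2 := hnorm t'
      rw [htt] at e1
      have hne : f t' ≠ 0 := by
        intro h0; rw [h0, zero_mul] at e2; exact zero_ne_one e2
      exact mul_left_cancel₀ hne (e1.trans e2.symm)
    rw [hf, hf] at htt
    have h2 : (a (β t) - a (β t')) * (2 * lam - a (tr x)) = 0 := by
      linear_combination htt - h1
    have h3 : a (β t) = a (β t') := by
      rcases mul_eq_zero.mp h2 with h | h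
      · exact sub_eq_zero.mp h
      · exact absurd h hdisc
    have hβ : β t = β t' := ha h3
    have hα : α t = α t' := by
      apply ha
      rw [h3] at htt
      linear_combination htt
    obtain ⟨t00, t01, t10, t11⟩ := hc t
    obtain ⟨s00, s01, s10, s11⟩ := hc t'
    apply Subtype.ext
    apply sl_ext
    · rw [t00, s00, hα, hβ]
    · rw [t01, s01, hβ]
    · rw [t10, s10, hβ]
    · rw [t11, s11, hα, hβ]
  haveI hcyc : IsCyclic (cen x) := isCyclic_of_injective_ringHom f hinj
  refine ⟨hcyc, ?_⟩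
  obtain ⟨g, hg⟩ := IsCyclic.exists_generator (α := cen x)
  have hord : orderOf g = Nat.card (cen x) := orderOf_eq_card_of_forall_mem_zpowers hg
  rw [← hord]
  -- Frobenius
  have hq1 : 1 ≤ Fintype.card F := Fintype.card_pos
  have hfrobF : ∀ c : F, a c ^ Fintype.card F = a c := by
    intro c
    rw [← map_pow, FiniteField.pow_card]
  have hadd : ∀ u v : AlgebraicClosure F,
      (u + v) ^ Fintype.card F = u ^ Fintype.card F + v ^ Fintype.card F := by
    intro u v
    rw [hq]
    exact add_pow_char_pow u v p n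
  have hlq : (lam ^ Fintype.card F - lam) * (lam ^ Fintype.card F - (a (tr x) - lam)) = 0 := by
    have h1 : lam ^ 2 + 1 = a (tr x) * lam := by linear_combination hlam
    have h2 : (lam ^ 2 + 1) ^ Fintype.card F = (a (tr x) * lam) ^ Fintype.card F := by rw [h1]
    rw [hadd, mul_pow, hfrobF, one_pow, ← pow_mul, mul_comm 2, pow_mul] at h2
    linear_combination h2 - hlam
  have hfq : ∀ t : cen x, f t ^ Fintype.card F = a (α t) + a (β t) * lam ^ Fintype.card F := by
    intro t
    rw [hf, hadd, mul_pow, hfrobF, hfrobF]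
  rcases mul_eq_zero.mp hlq with h | h
  · left
    apply orderOf_dvd_of_pow_eq_one
    have h1 : f (g ^ Fintype.card F) = f g := by
      rw [map_pow, hfq, sub_eq_zero.mp h, hf]
    have h2 := hinj h1
    have h3 : g ^ (Fintype.card F - 1) * g = g := by
      rw [← pow_succ, Nat.sub_add_cancel hq1]; exact h2
    exact mul_eq_right.mp h3
  · right
    apply orderOf_dvd_of_pow_eq_one
    apply hinj
    rw [map_pow, map_one, pow_succ, hfq, sub_eq_zero.mp h, mul_comm]
    exact hnorm g

section hom

variable {X : Type*} [Group X] (ι : X →* Matrix.SpecialLinearGroup (Fin 2) F)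

/-- a subgroup of `SL₂(q)` normalizing a torus has cyclic or dihedral image in `PSL₂(q)`. -/
theorem torus_concl [Fintype F] [Finite X] (p : ℕ) [Fact p.Prime] [CharP F p]
    (hι : Function.Injective ι) (Z : Subgroup X) [Z.Normal]
    (hZ : ∀ g : X, g ∈ Z ↔ ι g ∈ Subgroup.center SL2) (x : X) (hxZ : x ∉ Z)
    (ht : tr (ι x : Matrix.SpecialLinearGroup (Fin 2) F) ^ 2 ≠ 4)
    (hx : ∀ g : X, g * x * g⁻¹ = x ∨ g * x * g⁻¹ = x⁻¹) :
    ∃ k : ℕ, (k * Nat.card Z ∣ Fintype.card F + 1 ∨ k * Nat.card Z ∣ Fintype.card F - 1) ∧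
      ((IsCyclic (X ⧸ Z) ∧ Nat.card (X ⧸ Z) = k) ∨ Nonempty (X ⧸ Z ≃* DihedralGroup k)) := by
  classical
  have hCA : CA Z := ca_of_hom ι hι Z hZ
  have hxc : ι x ∉ Subgroup.center SL2 := fun h => hxZ ((hZ x).mpr h)
  obtain ⟨hcycS, hdvdS⟩ := torus_cyclic p hxc ht
  -- the embedding of `cen x` into `cen (ι x)`
  obtain ⟨e, he⟩ : ∃ e : cen x →* cen (ι x), ∀ t, (e t).1 = ι t.1 := by
    refine ⟨{ toFun := fun t => ⟨ι t.1, mem_cen.mpr ((mem_cen.mp t.2).map ι)⟩,
              map_one' := ?_, map_mul' := ?_ }, fun t => rfl⟩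
    · apply Subtype.ext; simp
    · intro t t'; apply Subtype.ext; simp
  have heinj : Function.Injective e := by
    intro t t' h
    apply Subtype.ext
    apply hι
    rw [← he, ← he, h]
  haveI hcycT : IsCyclic (cen x) := isCyclic_of_injective e heinj
  have hcardT : Nat.card (cen x) ∣ Nat.card (cen (ι x)) := Subgroup.card_dvd_of_injective e heinj
  have hTk := card_cen hCA x
  have hk2 : 2 ≤ cA Z x := two_le_cA hCA hxZ
  refine ⟨cA Z x, ?_, ?_⟩
  · rw [mul_comm, ← hTk]
    rcases hdvdS with h | h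
    · right; exact hcardT.trans h
    · left; exact hcardT.trans h
  have hZT : Z ≤ cen x := hCA.le_cen x
  have hidx : Z.index * Nat.card Z = Nat.card X := Subgroup.index_mul_card Z
  have hZpos : 0 < Nat.card Z := Nat.card_pos
  by_cases hall : ∀ g : X, Commute g x
  · left
    have htop : cen x = ⊤ := by
      rw [Subgroup.eq_top_iff']; intro g; exact mem_cen.mpr (hall g)
    have hsurj : Function.Surjective ((QuotientGroup.mk' Z).comp (cen x).subtype) := by
      intro y
      obtain ⟨g, rfl⟩ := QuotientGroup.mk'_surjective Z y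
      exact ⟨⟨g, by rw [htop]; trivial⟩, rfl⟩
    refine ⟨isCyclic_of_surjective _ hsurj, ?_⟩
    have h1 : Nat.card (cen x) = Nat.card X := by rw [htop, Subgroup.card_top]
    have h2 : Nat.card (X ⧸ Z) = Z.index := rfl
    rw [h2]
    have h3 : Z.index * Nat.card Z = cA Z x * Nat.card Z := by
      rw [hidx, ← h1, hTk, mul_comm]
    exact Nat.eq_of_mul_eq_mul_right hZpos h3
  · right
    push_neg at hall
    obtain ⟨n, hn⟩ := hall
    have hnT : n ∉ cen x := fun h => hn (mem_cen.mp h)
    -- elements outside `T` invert `x`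
    have hinv : ∀ g : X, g ∉ cen x → g * x * g⁻¹ = x⁻¹ := by
      intro g hg
      rcases hx g with h | h
      · exfalso; apply hg; rw [mem_cen]
        show g * x = x * g
        calc g * x = g * x * g⁻¹ * g := by group
          _ = x * g := by rw [h]
      · exact h
    have hprod : ∀ g h : X, g ∉ cen x → h ∉ cen x → g * h ∈ cen x := by
      intro g h hg hh
      rw [mem_cen]
      show g * h * x = x * (g * h)
      have e1 := hinv g hg
      have e2 := hinv h hh
      have e3 : g * h * x * (g * h)⁻¹ = x := by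
        calc g * h * x * (g * h)⁻¹ = g * (h * x * h⁻¹) * g⁻¹ := by group
          _ = (g * x * g⁻¹)⁻¹ := by rw [e2]; group
          _ = x := by rw [e1, inv_inv]
      calc g * h * x = g * h * x * (g * h)⁻¹ * (g * h) := by group
        _ = x * (g * h) := by rw [e3]
    have hind : (cen x).index = 2 := by
      rw [Subgroup.index_eq_two_iff]
      refine ⟨n, fun b => ?_⟩
      by_cases hb : b ∈ cen x
      · refine Or.inr ⟨hb, fun hbn => hnT ?_⟩
        have : n = b⁻¹ * (b * n) := by group
        rw [this]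
        exact (cen x).mul_mem ((cen x).inv_mem hb) hbn
      · exact Or.inl ⟨hprod b n hb hnT, hb⟩
    have hXT : Nat.card X = 2 * Nat.card (cen x) := by
      rw [← Subgroup.index_mul_card (cen x), hind]
    -- elements of `T ∖ Z` are inverted by elements outside `T`
    have hTtor : ∀ t : X, t ∈ cen x → t ∉ Z → ∀ g : X, g ∉ cen x → g * t * g⁻¹ = t⁻¹ := by
      intro t htT htZ g hg
      have htc : ι t ∉ Subgroup.center SL2 := fun h => htZ ((hZ t).mpr h)
      have htr : tr (ι t : Matrix.SpecialLinearGroup (Fin 2) F) ^ 2 ≠ 4 :=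
        tr_ne_of_comm (ι x) (ι t) hxc ht ((mem_cen.mp htT).map ι) htc
      have hTL : TorusLike t := torusLike_of_tr ι hι htc htr
      have h1 : g * t * g⁻¹ ∈ cen x := by
        rw [mem_cen]
        have e1 := hinv g hg
        have e2 : Commute (g * t * g⁻¹) (g * x * g⁻¹) := by
          show g * t * g⁻¹ * (g * x * g⁻¹) = g * x * g⁻¹ * (g * t * g⁻¹)
          have := (mem_cen.mp htT).eq
          calc g * t * g⁻¹ * (g * x * g⁻¹) = g * (t * x) * g⁻¹ := by group
            _ = g * (x * t) * g⁻¹ := by rw [this]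
            _ = g * x * g⁻¹ * (g * t * g⁻¹) := by group
        rw [e1] at e2
        exact (Commute.inv_right_iff.mp e2)
      have h2 : Commute (g * t * g⁻¹) t := hCA.cen_comm hxZ h1 htT
      rcases hTL g h2 with h | h
      · exfalso
        apply hg
        have h3 : Commute g t := by
          show g * t = t * g
          calc g * t = g * t * g⁻¹ * g := by group
            _ = t * g := by rw [h]
        have h4 : cen t = cen x := hCA.cen_eq_of_commute htZ hxZ (mem_cen.mp htT)
        rw [← h4, mem_cen]; exact h3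
      · exact h
    have hsq : ∀ g : X, g ∉ cen x → g * g ∈ Z := by
      intro g hg
      by_contra hgZ
      have h1 : g * g ∈ cen x := by
        by_contra h
        exact h (hprod g g hg hg)
      have h2 := hTtor (g * g) h1 hgZ g hg
      have h3 : g * g * (g * g) = 1 := by
        have : g * (g * g) * g⁻¹ = g * g := by group
        rw [this] at h2
        calc g * g * (g * g) = g * g * (g * g)⁻¹ := by rw [← h2]
          _ = 1 := by group
      have h4 : ι (g * g) * ι (g * g) = 1 := by rw [← map_mul, h3, map_one]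
      have h5 := tr_sq_of_mul_self _ h4
      have htc : ι (g * g) ∉ Subgroup.center SL2 := fun h => hgZ ((hZ _).mpr h)
      exact tr_ne_of_comm (ι x) (ι (g * g)) hxc ht ((mem_cen.mp h1).map ι) htc h5
    -- the generator
    obtain ⟨t0, ht0⟩ := IsCyclic.exists_generator (α := cen x)
    have ht0Z : t0.1 ∉ Z := by
      intro h
      apply hxZ
      obtain ⟨j, hj⟩ := Subgroup.mem_zpowers_iff.mp (ht0 ⟨x, by rw [mem_cen]⟩)
      have : x = t0.1 ^ j := by
        have := congrArg Subtype.val hj
        simpa using this.symm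
      rw [this]
      exact Z.zpow_mem h j
    haveI : NeZero (cA Z x) := ⟨by omega⟩
    obtain ⟨φ, hφ⟩ : ∃ φ : cen x →* X ⧸ Z, φ = (QuotientGroup.mk' Z).comp (cen x).subtype :=
      ⟨_, rfl⟩
    have hker : φ.ker = Z.subgroupOf (cen x) := by
      ext t
      rw [MonoidHom.mem_ker, Subgroup.mem_subgroupOf, hφ]
      show (QuotientGroup.mk' Z) t.1 = 1 ↔ _
      rw [QuotientGroup.mk'_apply, QuotientGroup.eq_one_iff]
    have hrange : Nat.card φ.range = cA Z x := by
      rw [← Subgroup.index_ker, hker]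
      have h1 := relIndex_mul_card_of_le hZT
      rw [hTk] at h1
      have h2 : (Z.subgroupOf (cen x)).index = Z.relIndex (cen x) := rfl
      rw [h2]
      exact Nat.eq_of_mul_eq_mul_right hZpos (by rw [h1, mul_comm])
    have hrz : φ.range = Subgroup.zpowers (φ t0) := by
      rw [MonoidHom.range_eq_map, ← MonoidHom.map_zpowers]
      congr 1
      rw [eq_comm, Subgroup.eq_top_iff']
      exact ht0
    have hord : orderOf (φ t0) = cA Z x := by
      rw [← Nat.card_zpowers, ← hrz, hrange]
    have hcard : Nat.card (X ⧸ Z) = 2 * cA Z x := by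
      have h2 : Nat.card (X ⧸ Z) = Z.index := rfl
      rw [h2]
      have h3 : Z.index * Nat.card Z = 2 * cA Z x * Nat.card Z := by
        rw [hidx, hXT, hTk]; ring
      exact Nat.eq_of_mul_eq_mul_right hZpos h3
    have hb : (QuotientGroup.mk' Z n) * (QuotientGroup.mk' Z n) = 1 := by
      rw [← map_mul, QuotientGroup.mk'_apply, QuotientGroup.eq_one_iff]
      exact hsq n hnT
    have hab : (QuotientGroup.mk' Z n) * φ t0 * (QuotientGroup.mk' Z n)⁻¹ = (φ t0)⁻¹ := by
      rw [hφ]
      show (QuotientGroup.mk' Z n) * (QuotientGroup.mk' Z t0.1) * (QuotientGroup.mk' Z n)⁻¹ =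
        (QuotientGroup.mk' Z t0.1)⁻¹
      rw [← map_inv, ← map_mul, ← map_mul, hTtor t0.1 t0.2 ht0Z n hnT, map_inv]
    have hba : (QuotientGroup.mk' Z n) ∉ Subgroup.zpowers (φ t0) := by
      intro h
      obtain ⟨j, hj⟩ := Subgroup.mem_zpowers_iff.mp h
      rw [← map_zpow, hφ] at hj
      have hj' : (QuotientGroup.mk' Z) ((t0 ^ j : cen x) : X) = QuotientGroup.mk' Z n := hj
      rw [QuotientGroup.mk'_apply, QuotientGroup.mk'_apply, QuotientGroup.eq] at hj'
      apply hnT
      have h1 : n = ((t0 ^ j : cen x) : X) * ((((t0 ^ j : cen x) : X))⁻¹ * n) := by group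
      rw [h1]
      exact (cen x).mul_mem (t0 ^ j).2 (hZT hj')
    exact Cfsg.Agent.Helper53.nonempty_mulEquiv_dihedralGroup_of (cA Z x) (φ t0)
      (QuotientGroup.mk' Z n) hcard hord hb hab hba

end hom

end Cfsg.Agent.Helper41.Dk
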