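import Cfsg.Agent.Helper41.DkMain
import Cfsg.Agent.Helper41.DkTorus
import Cfsg.Agent.Helper5.SL2Sylow
import Cfsg.Agent.S0805

set_option autoImplicit false

/-!
# Dickson, part 10: from `SL₂(q)` to `PSL₂(q)` — the bridges for each case of `Dk.Concl`
-/

namespace Cfsg.Agent.Helper41.Dk

open Cfsg.Agent.Helper41 Matrix

variable {F : Type*} [Field F]

local notation "SL2" => Matrix.SpecialLinearGroup (Fin 2) F

/-- a subgroup of `PSL₂` is the quotient of its full preimage by the centre. -/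
theorem psl_bridge (H : Subgroup (SL2 ⧸ Subgroup.center SL2)) :
    Nonempty ((↥(H.comap (QuotientGroup.mk' (Subgroup.center SL2))) ⧸
      (Subgroup.center SL2).subgroupOf (H.comap (QuotientGroup.mk' (Subgroup.center SL2)))) ≃*
        ↥H) := by
  obtain ⟨π, hπ⟩ : ∃ π : ↥(H.comap (QuotientGroup.mk' (Subgroup.center SL2))) →* ↥H,
      ∀ g, (π g).1 = QuotientGroup.mk' (Subgroup.center SL2) g.1 :=
    ⟨((QuotientGroup.mk' (Subgroup.center SL2)).comp (Subgroup.subtype _)).codRestrict H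
      (fun g => g.2), fun g => rfl⟩
  have hsurj : Function.Surjective π := by
    rintro ⟨h, hh⟩
    obtain ⟨g, rfl⟩ := QuotientGroup.mk'_surjective _ h
    exact ⟨⟨g, hh⟩, Subtype.ext (hπ _)⟩
  have hker : π.ker = (Subgroup.center SL2).subgroupOf
      (H.comap (QuotientGroup.mk' (Subgroup.center SL2))) := by
    ext g
    rw [MonoidHom.mem_ker, Subgroup.mem_subgroupOf, Subtype.ext_iff, hπ, QuotientGroup.mk'_apply,
      Subgroup.coe_one, QuotientGroup.eq_one_iff]
  exact ⟨(QuotientGroup.quotientMulEquivOfEq hker.symm).trans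
    (QuotientGroup.quotientKerEquivOfSurjective π hsurj)⟩

theorem card_center_gcd [Fintype F] (p : ℕ) [Fact p.Prime] [CharP F p] :
    Nat.card (Subgroup.center SL2) = Nat.gcd 2 (Fintype.card F - 1) := by
  obtain ⟨n, hp, hq⟩ := FiniteField.card F p
  by_cases h2 : (2 : F) = 0
  · rw [Cfsg.Agent.Helper5.center_SL2_eq_bot h2, Subgroup.card_bot]
    have hp2 : p = 2 := by
      have h3 : ((2 : ℕ) : F) = 0 := by exact_mod_cast h2
      have h4 := (CharP.cast_eq_zero_iff F p 2).mp h3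
      exact (Nat.prime_dvd_prime_iff_eq hp Nat.prime_two).mp h4
    rw [hq, hp2]
    have h5 : Odd (2 ^ (n : ℕ) - 1) := by
      have h6 : Even (2 ^ (n : ℕ)) := (Nat.even_pow.mpr ⟨even_two, n.pos.ne'⟩)
      exact Nat.Even.sub_odd Nat.one_le_two_pow h6 odd_one
    exact (Nat.Coprime.gcd_eq_one (Nat.coprime_two_left.mpr h5)).symm
  · rw [Cfsg.Agent.Helper5.card_center_SL2 h2]
    have hp2 : p ≠ 2 := by
      rintro rfl
      apply h2
      have := CharP.cast_eq_zero F 2
      exact_mod_cast this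
    have hodd : Odd (Fintype.card F) := by rw [hq]; exact (hp.odd_of_ne_two hp2).pow
    obtain ⟨k, hk⟩ := hodd
    rw [hk]
    simp

/-- a subfield of a finite field as the range of a field of universe level `0`. -/
theorem exists_small_field [Fintype F] (p : ℕ) [Fact p.Prime] [CharP F p] (K0 : Subfield F) :
    ∃ (K : Type) (_ : Field K) (_ : Fintype K) (m : ℕ) (φ : K →+* F),
      Fintype.card K ^ m = Fintype.card F ∧ ∀ c : F, c ∈ K0 ↔ ∃ k : K, φ k = c := by
  classical
  haveI : CharP K0 p := RingHom.charP K0.subtype K0.subtype.injective p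
  haveI : Fintype K0 := Fintype.ofFinite _
  obtain ⟨a, hp, ha⟩ := FiniteField.card K0 p
  haveI : Fintype (GaloisField p a) := Fintype.ofFinite _
  have hcard : Fintype.card (GaloisField p a) = Fintype.card K0 := by
    rw [ha, ← Nat.card_eq_fintype_card]
    exact GaloisField.card p a a.pos.ne'
  obtain ⟨e⟩ : Nonempty (GaloisField p a ≃+* K0) := ⟨FiniteField.ringEquivOfCardEq hcard⟩
  refine ⟨GaloisField p a, inferInstance, inferInstance, Module.finrank K0 F,
    K0.subtype.comp e.toRingHom, ?_, ?_⟩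
  · rw [hcard]
    exact (Module.card_eq_pow_finrank (K := K0) (V := F)).symm
  · intro c
    constructor
    · intro hc
      exact ⟨e.symm ⟨c, hc⟩, by simp⟩
    · rintro ⟨k, rfl⟩
      exact (e k).2

theorem equiv_of_range_eq {A B C : Type*} [Group A] [Group B] [Group C] (θ : A →* C)
    (ψ : B →* C) (hψ : Function.Injective ψ) (h : θ.range = ψ.range) (Z : Subgroup A)
    [Z.Normal] (hZ : Z = θ.ker) : Nonempty (A ⧸ Z ≃* B) := by
  subst hZ
  exact ⟨(QuotientGroup.quotientKerEquivRange θ).trans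
    ((MulEquiv.subgroupCongr h).trans (MonoidHom.ofInjective hψ).symm)⟩

section fieldcases

variable {K : Type*} [Field K] (φ : K →+* F) (K0 : Subfield F)
  {X : Type*} [Group X] (ι2 : X →* Matrix.SpecialLinearGroup (Fin 2) F) (Z : Subgroup X)
  [Z.Normal]

theorem ker_toPGL_comp (hZ : ∀ g : X, g ∈ Z ↔ ι2 g ∈ Subgroup.center SL2) :
    Z = ((Matrix.SpecialLinearGroup.toPGL (n := Fin 2) (R := F)).comp ι2).ker := by
  ext g
  rw [MonoidHom.mem_ker, MonoidHom.comp_apply, ← MonoidHom.mem_ker,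
    Matrix.SpecialLinearGroup.toPGL_ker]
  exact hZ g

theorem exists_lift (hφ : ∀ c : F, c ∈ K0 ↔ ∃ k : K, φ k = c) (M : Matrix (Fin 2) (Fin 2) F)
    (hM : MemK K0 M) : ∃ M' : Matrix (Fin 2) (Fin 2) K, ∀ i j, φ (M' i j) = M i j := by
  have h : ∀ i j, ∃ k : K, φ k = M i j := fun i j => (hφ _).mp (hM i j)
  choose m hm using h
  exact ⟨Matrix.of m, hm⟩

theorem det_lift (M : Matrix (Fin 2) (Fin 2) F) (M' : Matrix (Fin 2) (Fin 2) K)
    (h : ∀ i j, φ (M' i j) = M i j) : φ M'.det = M.det := by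
  rw [Matrix.det_fin_two, Matrix.det_fin_two, map_sub, map_mul, map_mul, h, h, h, h]

/-- a subgroup conjugate to `SL₂(K₀)` has image `PSL₂(K)` in `PSL₂(F)`. -/
theorem sl2K_case (hφ : ∀ c : F, c ∈ K0 ↔ ∃ k : K, φ k = c)
    (hZ : ∀ g : X, g ∈ Z ↔ ι2 g ∈ Subgroup.center SL2)
    (hr : ∀ g : SL2, g ∈ ι2.range ↔ MemK K0 g.1) :
    Nonempty (X ⧸ Z ≃* Matrix.ProjectiveSpecialLinearGroup (Fin 2) K) := by
  apply equiv_of_range_eq ((Matrix.SpecialLinearGroup.toPGL (n := Fin 2) (R := F)).comp ι2)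
    ((Cfsg.Agent.S0805.pglMap φ).comp
      (Matrix.ProjectiveSpecialLinearGroup.toPGL (n := Fin 2) (R := K)))
    ((Cfsg.Agent.S0805.pglMap_injective φ).comp
      Matrix.ProjectiveSpecialLinearGroup.toPGL_injective) ?_ Z (ker_toPGL_comp ι2 Z hZ)
  ext y
  constructor
  · rintro ⟨x, rfl⟩
    have h1 : MemK K0 (ι2 x).1 := (hr _).mp ⟨x, rfl⟩
    obtain ⟨M', hM'⟩ := exists_lift φ K0 hφ _ h1
    have hdet : M'.det = 1 := by
      apply φ.injective
      rw [det_lift φ _ M' hM', map_one]; exact (ι2 x).2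
    refine ⟨QuotientGroup.mk (⟨M', hdet⟩ : Matrix.SpecialLinearGroup (Fin 2) K), ?_⟩
    show Matrix.ProjGenLinGroup.mk (Matrix.GeneralLinearGroup.map φ
      (Matrix.SpecialLinearGroup.toGL (⟨M', hdet⟩ : Matrix.SpecialLinearGroup (Fin 2) K))) =
        Matrix.ProjGenLinGroup.mk (Matrix.SpecialLinearGroup.toGL (ι2 x))
    congr 1
    apply Units.ext
    ext i j
    rw [show (Matrix.GeneralLinearGroup.map φ (Matrix.SpecialLinearGroup.toGL
        (⟨M', hdet⟩ : Matrix.SpecialLinearGroup (Fin 2) K))).val i j =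
        φ ((Matrix.SpecialLinearGroup.toGL
          (⟨M', hdet⟩ : Matrix.SpecialLinearGroup (Fin 2) K)).val i j) from
      Matrix.GeneralLinearGroup.map_apply φ i j _, Matrix.SpecialLinearGroup.coe_GL_coe_matrix]
    exact hM' i j
  · rintro ⟨y', rfl⟩
    induction y' using QuotientGroup.induction_on with | H g' =>
    have h1 : MemK K0 (Matrix.SpecialLinearGroup.map φ g').1 := by
      intro i j
      rw [hφ]
      exact ⟨g'.1 i j, rfl⟩
    obtain ⟨x, hx⟩ := (hr _).mpr h1
    refine ⟨x, ?_⟩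
    show Matrix.ProjGenLinGroup.mk (Matrix.SpecialLinearGroup.toGL (ι2 x)) =
      Matrix.ProjGenLinGroup.mk (Matrix.GeneralLinearGroup.map φ
        (Matrix.SpecialLinearGroup.toGL g'))
    rw [hx]
    congr 1
    apply Units.ext
    ext i j
    rfl

/-- the `PGL₂(K)` case. -/
theorem pgl2K_case [Fintype K] (hφ : ∀ c : F, c ∈ K0 ↔ ∃ k : K, φ k = c)
    (hZ : ∀ g : X, g ∈ Z ↔ ι2 g ∈ Subgroup.center SL2) (lam : F) (hlam : lam ∉ K0)
    (hlam2 : lam ^ 2 ∈ K0)
    (hr : ∀ g : SL2, g ∈ ι2.range ↔ (MemK K0 g.1 ∨ MemK K0 (lam • g.1))) :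
    Nonempty (X ⧸ Z ≃* Matrix.ProjGenLinGroup (Fin 2) K) := by
  classical
  have hlam0 : lam ≠ 0 := fun h => hlam (h ▸ K0.zero_mem)
  apply equiv_of_range_eq ((Matrix.SpecialLinearGroup.toPGL (n := Fin 2) (R := F)).comp ι2)
    (Cfsg.Agent.S0805.pglMap φ) (Cfsg.Agent.S0805.pglMap_injective φ) ?_ Z
    (ker_toPGL_comp ι2 Z hZ)
  ext y
  constructor
  · rintro ⟨x, rfl⟩
    rcases (hr _).mp ⟨x, rfl⟩ with h1 | h1
    · obtain ⟨M', hM'⟩ := exists_lift φ K0 hφ _ h1
      have hdet : M'.det ≠ 0 := by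
        intro h0
        have h2 := det_lift φ _ M' hM'
        rw [h0, map_zero, (ι2 x).2] at h2
        exact zero_ne_one h2
      refine ⟨Matrix.ProjGenLinGroup.mk (Matrix.GeneralLinearGroup.mkOfDetNeZero M' hdet), ?_⟩
      rw [Cfsg.Agent.S0805.pglMap_mk]
      show Matrix.ProjGenLinGroup.mk _ =
        Matrix.ProjGenLinGroup.mk (Matrix.SpecialLinearGroup.toGL (ι2 x))
      congr 1
      apply Units.ext
      ext i j
      rw [show (Matrix.GeneralLinearGroup.map φ
          (Matrix.GeneralLinearGroup.mkOfDetNeZero M' hdet)).val i j = φ (M' i j) from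
        Matrix.GeneralLinearGroup.map_apply φ i j _, Matrix.SpecialLinearGroup.coe_GL_coe_matrix]
      exact hM' i j
    · obtain ⟨M', hM'⟩ := exists_lift φ K0 hφ _ h1
      have hdet : M'.det ≠ 0 := by
        intro h0
        have h2 := det_lift φ _ M' hM'
        rw [h0, map_zero, Matrix.det_smul, (ι2 x).2, Fintype.card_fin, mul_one] at h2
        exact hlam0 (pow_eq_zero_iff two_ne_zero |>.mp h2.symm)
      refine ⟨Matrix.ProjGenLinGroup.mk (Matrix.GeneralLinearGroup.mkOfDetNeZero M' hdet), ?_⟩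
      rw [Cfsg.Agent.S0805.pglMap_mk]
      show Matrix.ProjGenLinGroup.mk _ =
        Matrix.ProjGenLinGroup.mk (Matrix.SpecialLinearGroup.toGL (ι2 x))
      rw [eq_comm, Matrix.ProjGenLinGroup.mk_eq_mk_iff]
      refine ⟨Units.mk0 lam hlam0, ?_⟩
      apply Units.ext
      ext i j
      rw [Units.val_mul, Matrix.GeneralLinearGroup.coe_scalar,
        Matrix.SpecialLinearGroup.coe_GL_coe_matrix,
        show (Matrix.GeneralLinearGroup.map φ
          (Matrix.GeneralLinearGroup.mkOfDetNeZero M' hdet)).val i j = φ (M' i j) from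
        Matrix.GeneralLinearGroup.map_apply φ i j _, hM']
      simp only [Units.val_mk0, Matrix.mul_apply, Matrix.scalar_apply, Matrix.diagonal_apply,
        Matrix.smul_apply, smul_eq_mul, mul_ite, mul_zero, Finset.sum_ite_eq', Finset.mem_univ,
        if_true]
      ring
  · rintro ⟨y', rfl⟩
    induction y' using Matrix.ProjGenLinGroup.induction_on with | mk g =>
    have hdet : g.val.det ≠ 0 := ((Matrix.isUnit_iff_isUnit_det g.val).mp g.isUnit).ne_zero
    suffices hs : ∃ (x : X) (u : F), u ≠ 0 ∧ ∀ i j, (ι2 x).1 i j * u = φ (g.val i j) by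
      obtain ⟨x, u, hu, hxu⟩ := hs
      refine ⟨x, ?_⟩
      rw [Cfsg.Agent.S0805.pglMap_mk]
      show Matrix.ProjGenLinGroup.mk (Matrix.SpecialLinearGroup.toGL (ι2 x)) = _
      rw [Matrix.ProjGenLinGroup.mk_eq_mk_iff]
      refine ⟨Units.mk0 u hu, ?_⟩
      apply Units.ext
      ext i j
      rw [Units.val_mul, Matrix.GeneralLinearGroup.coe_scalar,
        Matrix.SpecialLinearGroup.coe_GL_coe_matrix,
        show (Matrix.GeneralLinearGroup.map φ g).val i j = φ (g.val i j) from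
          Matrix.GeneralLinearGroup.map_apply φ i j g]
      simp only [Units.val_mk0, Matrix.mul_apply, Matrix.scalar_apply, Matrix.diagonal_apply,
        mul_ite, mul_zero, Finset.sum_ite_eq', Finset.mem_univ, if_true]
      exact hxu i j
    have key : ∀ s : F, s ^ 2 * φ g.val.det = 1 →
        (MemK K0 (s • φ.mapMatrix g.val) ∨ MemK K0 (lam • (s • φ.mapMatrix g.val))) →
        ∃ (x : X) (u : F), u ≠ 0 ∧ ∀ i j, (ι2 x).1 i j * u = φ (g.val i j) := by
      intro s hs hmem
      have hs0 : s ≠ 0 := by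
        rintro rfl
        rw [zero_pow two_ne_zero, zero_mul] at hs
        exact zero_ne_one hs
      obtain ⟨h', hh'⟩ : ∃ h' : SL2, h'.1 = s • φ.mapMatrix g.val := by
        refine ⟨⟨s • φ.mapMatrix g.val, ?_⟩, rfl⟩
        rw [Matrix.det_smul, ← RingHom.map_det, Fintype.card_fin]; exact hs
      have hmem' : h' ∈ ι2.range := by rw [hr, hh']; exact hmem
      obtain ⟨x, hx⟩ := hmem'
      refine ⟨x, s⁻¹, inv_ne_zero hs0, fun i j => ?_⟩
      rw [hx, hh']
      simp only [Matrix.smul_apply, RingHom.mapMatrix_apply, Matrix.map_apply, smul_eq_mul]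
      field_simp
    by_cases hsq : IsSquare g.val.det
    · obtain ⟨c, hc⟩ := hsq
      have hc0 : c ≠ 0 := by rintro rfl; rw [mul_zero] at hc; exact hdet hc
      have hφc : φ c ≠ 0 := (map_ne_zero φ).mpr hc0
      apply key (φ c)⁻¹
      · rw [hc, map_mul]; field_simp
      · left
        intro i j
        rw [hφ]
        refine ⟨c⁻¹ * g.val i j, ?_⟩
        simp only [Matrix.smul_apply, RingHom.mapMatrix_apply, Matrix.map_apply, smul_eq_mul,
          map_mul, map_inv₀]
    · obtain ⟨μ, hμ⟩ := (hφ _).mp hlam2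
      have hμsq : ¬ IsSquare μ := by
        rintro ⟨c, hc⟩
        have h1 : lam ^ 2 = φ c * φ c := by rw [← hμ, hc, map_mul]
        have h2 : (lam - φ c) * (lam + φ c) = 0 := by linear_combination h1
        rcases mul_eq_zero.mp h2 with h3 | h3
        · apply hlam
          have h4 : lam = φ c := by linear_combination h3
          rw [h4, hφ]; exact ⟨c, rfl⟩
        · apply hlam
          have h4 : lam = φ (-c) := by rw [map_neg]; linear_combination h3
          rw [h4, hφ]; exact ⟨-c, rfl⟩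
      have h1 := quadraticChar_neg_one_iff_not_isSquare.mpr hsq
      have h2 := quadraticChar_neg_one_iff_not_isSquare.mpr hμsq
      have hμ0 : μ ≠ 0 := by rintro rfl; exact hμsq ⟨0, by simp⟩
      have h3 : quadraticChar K (g.val.det * μ) = 1 := by rw [map_mul, h1, h2]; norm_num
      obtain ⟨c, hc⟩ := (quadraticChar_one_iff_isSquare (mul_ne_zero hdet hμ0)).mp h3
      have hc0 : c ≠ 0 := by
        rintro rfl; rw [mul_zero] at hc; exact mul_ne_zero hdet hμ0 hc
      have hφc : φ c ≠ 0 := (map_ne_zero φ).mpr hc0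
      apply key (lam * (φ c)⁻¹)
      · have h5 : φ g.val.det * lam ^ 2 = φ c * φ c := by rw [← hμ, ← map_mul, hc, map_mul]
        field_simp
        linear_combination h5
      · right
        intro i j
        rw [hφ]
        refine ⟨μ * c⁻¹ * g.val i j, ?_⟩
        simp only [Matrix.smul_apply, RingHom.mapMatrix_apply, Matrix.map_apply, smul_eq_mul,
          map_mul, map_inv₀, hμ]
        ring

end fieldcases

/-- a subgroup of `PSL₂(q)` whose preimage fixes a line normalizes a Sylow `p`-subgroup. -/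
theorem borel_case [Fintype F] (p : ℕ) [Fact p.Prime] [CharP F p]
    (H : Subgroup (SL2 ⧸ Subgroup.center SL2)) (v : Fin 2 → F) (hv : v ≠ 0)
    (hfix : ∀ g : SL2, QuotientGroup.mk' (Subgroup.center SL2) g ∈ H →
      ∃ c : F, g.1 *ᵥ v = c • v) :
    ∃ P : Sylow p (SL2 ⧸ Subgroup.center SL2),
      H ≤ Subgroup.normalizer ((P : Subgroup (SL2 ⧸ Subgroup.center SL2)) :
        Set (SL2 ⧸ Subgroup.center SL2)) := by
  classical
  obtain ⟨Q0, h00, h10⟩ : ∃ Q0 : SL2, Q0.1 0 0 = v 0 ∧ Q0.1 1 0 = v 1 := by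
    by_cases h0 : v 0 = 0
    · have h1 : v 1 ≠ 0 := by
        intro h1; apply hv; ext i; fin_cases i
        · exact h0
        · exact h1
      exact ⟨mkSL 0 (-(v 1)⁻¹) (v 1) 0 (by rw [zero_mul, neg_mul, inv_mul_cancel₀ h1]; ring),
        by rw [mk_e00, h0], by rw [mk_e10]⟩
    · exact ⟨mkSL (v 0) 0 (v 1) (v 0)⁻¹ (by rw [mul_inv_cancel₀ h0]; ring), by rw [mk_e00],
        by rw [mk_e10]⟩
  have hk : ∀ g : SL2, QuotientGroup.mk' (Subgroup.center SL2) g ∈ H →
      (Q0⁻¹ * g * Q0).1 1 0 = 0 := by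
    intro g hg
    obtain ⟨c, hc⟩ := hfix g hg
    have e0 := congrFun hc 0
    have e1 := congrFun hc 1
    simp only [Matrix.mulVec, dotProduct, Fin.sum_univ_two, Pi.smul_apply, smul_eq_mul] at e0 e1
    rw [mul_e10, mul_e10, mul_e11, inv_e10, inv_e11, h00, h10]
    linear_combination (-(v 1)) * e0 + (v 0) * e1
  obtain ⟨P1, hP1⟩ : ∃ P1 : Sylow p SL2, ∀ h : SL2, h ∈ (P1 : Subgroup SL2) ↔
      Q0⁻¹ * h * Q0 ∈ (Cfsg.Agent.Helper5.USL : Subgroup SL2) := by
    refine ⟨Q0 • Cfsg.Agent.Helper5.sylowUSL p, fun h => ?_⟩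
    rw [Sylow.coe_subgroup_smul, Subgroup.mem_pointwise_smul_iff_inv_smul_mem,
      Cfsg.Agent.Helper5.sylowUSL_coe]
    simp [MulAut.smul_def]
  have hnorm : ∀ g : SL2, QuotientGroup.mk' (Subgroup.center SL2) g ∈ H →
      g ∈ Subgroup.normalizer ((P1 : Subgroup SL2) : Set SL2) := by
    intro g hg
    have h1 := Cfsg.Agent.Helper5.sl_mem_normalizer_USL (hk g hg)
    rw [Subgroup.mem_normalizer_iff]
    intro h
    rw [hP1, hP1, Subgroup.mem_normalizer_iff.mp h1 (Q0⁻¹ * h * Q0)]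
    have e : Q0⁻¹ * g * Q0 * (Q0⁻¹ * h * Q0) * (Q0⁻¹ * g * Q0)⁻¹ =
        Q0⁻¹ * (g * h * g⁻¹) * Q0 := by group
    rw [e]
  refine ⟨P1.mapSurjective (QuotientGroup.mk'_surjective (Subgroup.center SL2)), ?_⟩
  intro y hy
  obtain ⟨g, rfl⟩ := QuotientGroup.mk'_surjective (Subgroup.center SL2) y
  rw [Sylow.coe_mapSurjective]
  exact Subgroup.le_normalizer_map _ (Subgroup.mem_map_of_mem _ (hnorm g hy))

end Cfsg.Agent.Helper41.Dk
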