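import Mathlib

set_option autoImplicit false

/-!
# Solubilizers: general group-theoretic tools (helper41)

`solvable_of_comm_mem` (commutators in a commutative subgroup), `solvable_closure_of_mem`,
`solvable_of_A4_like` (`a ^ 3 = 1`, `b` commuting with `a b a⁻¹`), `solvable_comap_mk`,
`solvable_closure_map`, `card_lift_quot` (counting through a quotient map) and
`card_sol_equiv` (the solubilizer count is invariant under isomorphisms).
-/

namespace Cfsg.Agent.Helper41.Dk

section general

variable {G : Type*} [Group G]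

/-- a subgroup all of whose commutators lie in a commutative subgroup is solvable. -/
theorem solvable_of_comm_mem (K A : Subgroup G) (hA : ∀ a ∈ A, ∀ b ∈ A, a * b = b * a)
    (hK : ∀ a ∈ K, ∀ b ∈ K, a * b * a⁻¹ * b⁻¹ ∈ A) : Group.IsSolvable K := by
  rw [Group.isSolvable_def]
  refine ⟨2, ?_⟩
  have h1 : derivedSeries K 1 ≤ A.subgroupOf K := by
    rw [derivedSeries_succ, derivedSeries_zero, Subgroup.commutator_le]
    intro a _ b _
    rw [Subgroup.mem_subgroupOf, commutatorElement_def]
    exact hK a a.2 b b.2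
  rw [derivedSeries_succ, eq_bot_iff, Subgroup.commutator_le]
  intro a ha b hb
  rw [Subgroup.mem_bot, commutatorElement_eq_one_iff_commute]
  have ha' := h1 ha
  have hb' := h1 hb
  rw [Subgroup.mem_subgroupOf] at ha' hb'
  exact Subtype.ext (hA _ ha' _ hb')

/-- two elements of a solvable subgroup generate a solvable subgroup. -/
theorem solvable_closure_of_mem (K : Subgroup G) (hK : Group.IsSolvable K) {x y : G}
    (hx : x ∈ K) (hy : y ∈ K) : Group.IsSolvable (Subgroup.closure ({x, y} : Set G)) := by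
  have hle : Subgroup.closure ({x, y} : Set G) ≤ K := by
    rw [Subgroup.closure_le]
    intro z hz
    rcases hz with rfl | rfl
    · exact hx
    · exact hy
  exact Group.isSolvable_of_isSolvable_injective (Subgroup.inclusion_injective hle)

/-- `⟨a, b⟩` is solvable when `a ^ 3 = 1` and `b` commutes with `a * b * a⁻¹`. -/
theorem solvable_of_A4_like (a b : G) (ha : a ^ 3 = 1) (hb : Commute b (a * b * a⁻¹)) :
    Group.IsSolvable (Subgroup.closure ({a, b} : Set G)) := by
  obtain ⟨b1, hb1⟩ : ∃ b1 : G, b1 = a * b * a⁻¹ := ⟨_, rfl⟩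
  obtain ⟨b2, hb2⟩ : ∃ b2 : G, b2 = a * b1 * a⁻¹ := ⟨_, rfl⟩
  have ha3 : a * a * a = 1 := by rw [← pow_two, ← pow_succ]; exact ha
  have hb0 : a * b2 * a⁻¹ = b := by
    rw [hb2, hb1]
    calc a * (a * (a * b * a⁻¹) * a⁻¹) * a⁻¹ = (a * a * a) * b * (a * a * a)⁻¹ := by group
      _ = b := by rw [ha3]; group
  rw [← hb1] at hb
  have h01 : b * b1 = b1 * b := hb.eq
  have h12 : b1 * b2 = b2 * b1 := by
    rw [hb2, hb1]
    calc a * b * a⁻¹ * (a * (a * b * a⁻¹) * a⁻¹) = a * (b * (a * b * a⁻¹)) * a⁻¹ := by group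
      _ = a * ((a * b * a⁻¹) * b) * a⁻¹ := by rw [← hb1, h01]
      _ = a * (a * b * a⁻¹) * a⁻¹ * (a * b * a⁻¹) := by group
  have h20 : b2 * b = b * b2 := by
    calc b2 * b = a * b1 * a⁻¹ * (a * b2 * a⁻¹) := by rw [hb0, ← hb2]
      _ = a * (b1 * b2) * a⁻¹ := by group
      _ = a * (b2 * b1) * a⁻¹ := by rw [h12]
      _ = (a * b2 * a⁻¹) * (a * b1 * a⁻¹) := by group
      _ = b * b2 := by rw [hb0, ← hb2]
  obtain ⟨W, hW⟩ : ∃ W : Subgroup G, W = Subgroup.closure ({b, b1, b2} : Set G) := ⟨_, rfl⟩
  have hbW : b ∈ W := by rw [hW]; exact Subgroup.subset_closure (by simp)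
  have hb1W : b1 ∈ W := by rw [hW]; exact Subgroup.subset_closure (by simp)
  have hb2W : b2 ∈ W := by rw [hW]; exact Subgroup.subset_closure (by simp)
  have hWc : ∀ u ∈ W, ∀ v ∈ W, u * v = v * u := by
    have hcomm : ∀ u ∈ ({b, b1, b2} : Set G), ∀ v ∈ ({b, b1, b2} : Set G), u * v = v * u := by
      intro u hu v hv
      simp only [Set.mem_insert_iff, Set.mem_singleton_iff] at hu hv
      rcases hu with rfl | rfl | rfl <;> rcases hv with rfl | rfl | rfl
      · rfl
      · exact h01
      · exact h20.symm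
      · exact h01.symm
      · rfl
      · exact h12
      · exact h20
      · exact h12.symm
      · rfl
    intro u hu v hv
    rw [hW] at hu hv
    have hc := Subgroup.closure_le_centralizer_centralizer ({b, b1, b2} : Set G)
    have hu' := hc hu
    rw [Subgroup.mem_centralizer_iff] at hu'
    refine (hu' v ?_).symm
    have hv' : v ∈ Subgroup.closure ({b, b1, b2} : Set G) := hv
    have hle : Subgroup.closure ({b, b1, b2} : Set G) ≤
        Subgroup.centralizer (({b, b1, b2} : Set G)) := by
      rw [Subgroup.closure_le]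
      intro w hw
      rw [SetLike.mem_coe, Subgroup.mem_centralizer_iff]
      intro z hz
      exact hcomm z hz w hw
    exact hle hv'
  have hconj : ∀ w ∈ W, a * w * a⁻¹ ∈ W := by
    intro w hw
    have h1 : W.map (MulAut.conj a).toMonoidHom ≤ W := by
      rw [hW, MonoidHom.map_closure, Subgroup.closure_le]
      rintro z ⟨y, hy, rfl⟩
      simp only [Set.mem_insert_iff, Set.mem_singleton_iff] at hy
      rw [← hW]
      rcases hy with rfl | rfl | rfl
      · show a * y * a⁻¹ ∈ W
        rw [← hb1]; exact hb1W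
      · show a * y * a⁻¹ ∈ W
        rw [← hb2]; exact hb2W
      · show a * y * a⁻¹ ∈ W
        rw [hb0]; exact hbW
    exact h1 ⟨w, hw, rfl⟩
  have hpow : ∀ n : ℕ, ∀ w ∈ W, a ^ n * w * (a ^ n)⁻¹ ∈ W := by
    intro n
    induction n with
    | zero => intro w hw; simpa using hw
    | succ n ih =>
      intro w hw
      have e : a ^ (n + 1) * w * (a ^ (n + 1))⁻¹ = a * (a ^ n * w * (a ^ n)⁻¹) * a⁻¹ := by
        rw [pow_succ']; group
      rw [e]
      exact hconj _ (ih w hw)
  have hform : ∀ g ∈ Subgroup.closure ({a, b} : Set G), ∃ w ∈ W, ∃ k : ℕ, g = w * a ^ k := by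
    intro g hg
    induction hg using Subgroup.closure_induction with
    | mem x hx =>
      rcases hx with rfl | rfl
      · exact ⟨1, W.one_mem, 1, by simp⟩
      · exact ⟨x, hbW, 0, by simp⟩
    | one => exact ⟨1, W.one_mem, 0, by simp⟩
    | mul x y _ _ hx hy =>
      obtain ⟨w, hw, k, rfl⟩ := hx
      obtain ⟨w', hw', l, rfl⟩ := hy
      refine ⟨w * (a ^ k * w' * (a ^ k)⁻¹), W.mul_mem hw (hpow k w' hw'), k + l, ?_⟩
      rw [pow_add]; group
    | inv x _ hx =>
      obtain ⟨w, hw, k, rfl⟩ := hx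
      refine ⟨a ^ (2 * k) * w⁻¹ * (a ^ (2 * k))⁻¹, hpow _ _ (W.inv_mem hw), 2 * k, ?_⟩
      have h3 : a ^ (2 * k) * a ^ k = 1 := by
        rw [← pow_add, show 2 * k + k = 3 * k by ring, pow_mul, ha, one_pow]
      have h4 : (a ^ k)⁻¹ = a ^ (2 * k) := by
        rw [inv_eq_iff_mul_eq_one]
        rw [← pow_add, show k + 2 * k = 3 * k by ring, pow_mul, ha, one_pow]
      rw [mul_inv_rev, h4]; group
  apply solvable_of_comm_mem _ W hWc
  intro u hu v hv
  obtain ⟨w, hw, k, rfl⟩ := hform u hu
  obtain ⟨w', hw', l, rfl⟩ := hform v hv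
  have e : w * a ^ k * (w' * a ^ l) * (w * a ^ k)⁻¹ * (w' * a ^ l)⁻¹ =
      w * (a ^ k * w' * (a ^ k)⁻¹) * (a ^ l * w⁻¹ * (a ^ l)⁻¹) * w'⁻¹ := by group
  rw [e]
  exact W.mul_mem (W.mul_mem (W.mul_mem hw (hpow k w' hw')) (hpow l _ (W.inv_mem hw)))
    (W.inv_mem hw')

/-- solvability passes to the preimage under the quotient by a commutative normal subgroup. -/
theorem solvable_comap_mk (N : Subgroup G) [N.Normal] (hN : ∀ a ∈ N, ∀ b ∈ N, a * b = b * a)
    (H : Subgroup (G ⧸ N)) (hH : Group.IsSolvable H) :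
    Group.IsSolvable (H.comap (QuotientGroup.mk' N)) := by
  haveI : Group.IsSolvable N :=
    Group.isSolvable_of_comm (fun a b => Subtype.ext (hN a a.2 b b.2))
  have hle : N ≤ H.comap (QuotientGroup.mk' N) := by
    intro a ha
    rw [Subgroup.mem_comap]
    have : (QuotientGroup.mk' N) a = 1 := (QuotientGroup.eq_one_iff a).mpr ha
    rw [this]; exact H.one_mem
  apply Group.isSolvable_of_ker_le_range (Subgroup.inclusion hle)
    ((QuotientGroup.mk' N).subgroupComap H)
  intro x hx
  rw [MonoidHom.mem_ker] at hx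
  have h1 : (QuotientGroup.mk' N) x.1 = 1 := congrArg Subtype.val hx
  have h2 : x.1 ∈ N := (QuotientGroup.eq_one_iff x.1).mp h1
  exact ⟨⟨x.1, h2⟩, Subtype.ext rfl⟩

/-- the image of a solvable two-generator subgroup. -/
theorem solvable_closure_map {G' : Type*} [Group G'] (f : G →* G') (x y : G)
    (h : Group.IsSolvable (Subgroup.closure ({x, y} : Set G))) :
    Group.IsSolvable (Subgroup.closure ({f x, f y} : Set G')) := by
  have e : Subgroup.closure ({f x, f y} : Set G') =
      (Subgroup.closure ({x, y} : Set G)).map f := by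
    rw [MonoidHom.map_closure, Set.image_pair]
  rw [e]
  exact Group.isSolvable_of_surjective (MonoidHom.subgroupMap_surjective f _)

/-- counting a subset of a quotient through its preimage. -/
theorem card_lift_quot [Finite G] (N : Subgroup G) [N.Normal] (P : G ⧸ N → Prop) :
    Nat.card {h : G // P (QuotientGroup.mk h)} = Nat.card N * Nat.card {y : G ⧸ N // P y} := by
  have e := QuotientGroup.preimageMkEquivSubgroupProdSet N {y | P y}
  rw [← Nat.card_prod]
  exact Nat.card_congr e

/-- the solubilizer count is invariant under isomorphisms. -/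
theorem card_sol_equiv {G' : Type*} [Group G'] (φ : G ≃* G') (x : G) :
    Nat.card {y : G' // Group.IsSolvable (Subgroup.closure ({φ x, y} : Set G'))} =
    Nat.card {y : G // Group.IsSolvable (Subgroup.closure ({x, y} : Set G))} := by
  apply Nat.card_congr
  symm
  refine Equiv.subtypeEquiv φ.toEquiv (fun y => ?_)
  constructor
  · intro hs
    exact solvable_closure_map φ.toMonoidHom x y hs
  · intro hs
    have h := solvable_closure_map φ.symm.toMonoidHom (φ x) (φ y) hs
    have e1 : φ.symm.toMonoidHom (φ x) = x := φ.symm_apply_apply x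
    have e2 : φ.symm.toMonoidHom (φ y) = y := φ.symm_apply_apply y
    rw [e1, e2] at h
    exact h

end general

end Cfsg.Agent.Helper41.Dk
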