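import Cfsg.Agent.Helper41.DkSol
import Cfsg.Agent.Helper41.DkDih2
import Cfsg.Agent.S0251

set_option autoImplicit false

/-!
# Solubilizers in `SL₂(F)`: structural tools (helper41)

`solvable_NT`, `solvable_Bor`, `solvable_LBor`, `inv_tr_zero` (an element inverting a non-central
element has trace zero), `psl2_not_solvable'`, `alt5_not_solvable'`, `no_order_four`,
`char_root_of_fix`, `anti_of_tr` and the Dickson case analysis `sol_cases` for solvable subgroups
of `SL₂(3^p)`.
-/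

namespace Cfsg.Agent.Helper41.Dk

open Cfsg.Agent.Helper41 Matrix

section grp

variable {G : Type*} [Group G]

theorem aut_comm_fix (φ ψ : MulAut G) (x : G) (hφ : φ x = x ∨ φ x = x⁻¹)
    (hψ : ψ x = x ∨ ψ x = x⁻¹) : (φ * ψ * φ⁻¹ * ψ⁻¹) x = x := by
  have inv_fact : ∀ θ : MulAut G, (θ x = x ∨ θ x = x⁻¹) →
      ((θ x = x ∧ θ⁻¹ x = x) ∨ (θ x = x⁻¹ ∧ θ⁻¹ x = x⁻¹)) := by
    intro θ h
    rcases h with h | h
    · left
      refine ⟨h, ?_⟩
      rw [MulAut.inv_apply, MulEquiv.symm_apply_eq, h]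
    · right
      refine ⟨h, ?_⟩
      rw [MulAut.inv_apply, MulEquiv.symm_apply_eq, map_inv, h, inv_inv]
  rw [MulAut.mul_apply, MulAut.mul_apply, MulAut.mul_apply]
  rcases inv_fact ψ hψ with ⟨h1, h2⟩ | ⟨h1, h2⟩ <;> rcases inv_fact φ hφ with ⟨h3, h4⟩ | ⟨h3, h4⟩ <;>
    simp [h1, h2, h3, h4, map_inv]

theorem comm_mem_cen_of_NT {x a b : G} (ha : a ∈ NT x) (hb : b ∈ NT x) :
    a * b * a⁻¹ * b⁻¹ ∈ cen x := by
  have h := aut_comm_fix (MulAut.conj a) (MulAut.conj b) x ha hb
  rw [← map_inv, ← map_inv, ← map_mul, ← map_mul, ← map_mul, MulAut.conj_apply] at h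
  rw [mem_cen]
  exact mul_inv_eq_iff_eq_mul.mp h

end grp

variable {F : Type*} [Field F]

local notation "SL2" => Matrix.SpecialLinearGroup (Fin 2) F

/-- torus normalisers are solvable. -/
theorem solvable_NT (x : SL2) (hx : x ∉ Subgroup.center SL2) : Group.IsSolvable (NT x) := by
  apply solvable_of_comm_mem (NT x) (cen x)
  · intro a ha b hb
    exact (sl2_CA.cen_comm hx ha hb).eq
  · intro a ha b hb
    exact comm_mem_cen_of_NT ha hb

theorem Ux_one_not_center : (Ux (1 : F)) ∉ Subgroup.center SL2 := by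
  rw [center_iff_entries]
  rintro ⟨-, h, -⟩
  rw [Ux_e01] at h
  exact one_ne_zero h

/-- the Borel subgroup is solvable. -/
theorem solvable_Bor : Group.IsSolvable (Bor : Subgroup SL2) := by
  apply solvable_of_comm_mem Bor (cen (Ux 1))
  · intro a ha b hb
    exact (sl2_CA.cen_comm Ux_one_not_center ha hb).eq
  · intro a ha b hb
    rw [mem_Bor] at ha hb
    rw [mem_cen]
    have hda := sl2_det a
    have hdb := sl2_det b
    rw [ha] at hda
    rw [hb] at hdb
    have c10 : (a * b * a⁻¹ * b⁻¹).1 1 0 = 0 := by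
      simp only [mul_e00, mul_e01, mul_e10, mul_e11, inv_e00, inv_e01, inv_e10, inv_e11, ha, hb]
      ring
    have c00 : (a * b * a⁻¹ * b⁻¹).1 0 0 = 1 := by
      simp only [mul_e00, mul_e01, mul_e10, mul_e11, inv_e00, inv_e01, inv_e10, inv_e11, ha, hb]
      linear_combination (b.1 0 0 * b.1 1 1) * hda + hdb
    have c11 : (a * b * a⁻¹ * b⁻¹).1 1 1 = 1 := by
      simp only [mul_e00, mul_e01, mul_e10, mul_e11, inv_e00, inv_e01, inv_e10, inv_e11, ha, hb]
      linear_combination (b.1 0 0 * b.1 1 1) * hda + hdb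
    show a * b * a⁻¹ * b⁻¹ * Ux 1 = Ux 1 * (a * b * a⁻¹ * b⁻¹)
    generalize a * b * a⁻¹ * b⁻¹ = k at c10 c00 c11
    apply sl_ext
    · rw [mul_e00, mul_e00, Ux_e00, Ux_e10, Ux_e01, c10]; ring
    · rw [mul_e01, mul_e01, Ux_e01, Ux_e11, Ux_e00, c00, c11]; ring
    · rw [mul_e10, mul_e10, Ux_e00, Ux_e10, Ux_e11, c10]; ring
    · rw [mul_e11, mul_e11, Ux_e01, Ux_e11, Ux_e10, c10]; ring

/-- the lower triangular subgroup. -/
def LBor : Subgroup SL2 := (Bor : Subgroup SL2).map (MulAut.conj wS).toMonoidHom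

theorem mem_LBor_of (h : SL2) (h01 : h.1 0 1 = 0) : h ∈ (LBor : Subgroup SL2) := by
  refine ⟨wS⁻¹ * h * wS, ?_, ?_⟩
  · show (wS⁻¹ * h * wS).1 1 0 = 0
    simp only [mul_e00, mul_e01, mul_e10, mul_e11, inv_e00, inv_e01, inv_e10, inv_e11, wS,
      mk_e00, mk_e01, mk_e10, mk_e11, h01]
    ring
  · show wS * (wS⁻¹ * h * wS) * wS⁻¹ = h
    group

theorem solvable_LBor : Group.IsSolvable (LBor : Subgroup SL2) := by
  haveI := solvable_Bor (F := F)
  exact Group.isSolvable_of_surjective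
    (MonoidHom.subgroupMap_surjective (MulAut.conj wS).toMonoidHom (Bor : Subgroup SL2))

/-- `PSL₂(K)` is not solvable when `K` has at least four elements. -/
theorem psl2_not_solvable' {K : Type*} [Field K] [Fintype K] (hK : 4 ≤ Fintype.card K) :
    ¬ Group.IsSolvable (Matrix.ProjectiveSpecialLinearGroup (Fin 2) K) := by
  intro h
  obtain ⟨ζ, hζ⟩ := exists_gen (F := K)
  have hz : (ζ : K) ^ 2 ≠ 1 := by
    intro h3
    have h4 : ζ ^ 2 = 1 := Units.ext (by rw [Units.val_pow_eq_pow_val, h3, Units.val_one])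
    have h5 := orderOf_dvd_of_pow_eq_one h4
    rw [hζ] at h5
    have := Nat.le_of_dvd (by norm_num) h5
    omega
  have h1 := SL2Simple.PSL_commutator_eq_top (F := K) ⟨(ζ : K), ζ.ne_zero, hz⟩
  have h2 := Group.IsSolvable.commutator_lt_top_of_nontrivial
    (G := Matrix.ProjectiveSpecialLinearGroup (Fin 2) K)
  rw [h1] at h2
  exact lt_irrefl _ h2

set_option maxRecDepth 1000000 in
theorem a5_noncomm_fact : ∃ a b : alternatingGroup (Fin 5), a * b ≠ b * a := by decide

theorem alt5_not_solvable' : ¬ Group.IsSolvable (alternatingGroup (Fin 5)) := by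
  intro h
  obtain ⟨a, b, hab⟩ := a5_noncomm_fact
  haveI := alternatingGroup.isSimpleGroup_five
  exact hab (IsSimpleGroup.comm_iff_isSolvable.mpr h a b)

/-- an element inverting a non-central element has trace zero. -/
theorem inv_tr_zero (w t : SL2) (ht : t ∉ Subgroup.center SL2) (h : w * t * w⁻¹ = t⁻¹) :
    tr w = 0 := by
  have hwt : w * t = t⁻¹ * w := by
    calc w * t = w * t * w⁻¹ * w := by group
      _ = t⁻¹ * w := by rw [h]
  have e00 := congrArg (fun g : SL2 => g.1 0 0) hwt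
  have e01 := congrArg (fun g : SL2 => g.1 0 1) hwt
  have e10 := congrArg (fun g : SL2 => g.1 1 0) hwt
  have e11 := congrArg (fun g : SL2 => g.1 1 1) hwt
  simp only [mul_e00, mul_e01, mul_e10, mul_e11, inv_e00, inv_e01, inv_e10, inv_e11]
    at e00 e01 e10 e11
  by_contra hne
  apply ht
  rw [center_iff_entries]
  rw [tr_eq] at hne
  refine ⟨?_, ?_, ?_⟩
  · have h1 : t.1 1 0 * (w.1 0 0 + w.1 1 1) = 0 := by linear_combination e10
    exact (mul_eq_zero.mp h1).resolve_right hne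
  · have h1 : t.1 0 1 * (w.1 0 0 + w.1 1 1) = 0 := by linear_combination e01
    exact (mul_eq_zero.mp h1).resolve_right hne
  · have h1 : (t.1 0 0 - t.1 1 1) * (w.1 0 0 + w.1 1 1) = 0 := by linear_combination e00 - e11
    exact sub_eq_zero.mp ((mul_eq_zero.mp h1).resolve_right hne)

/-- an eigenvalue is a root of the characteristic polynomial. -/
theorem char_root_of_fix (g : SL2) (v : Fin 2 → F) (hv : v ≠ 0) (c : F)
    (h : g.1 *ᵥ v = c • v) : c ^ 2 - tr g * c + 1 = 0 := by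
  have hd := sl2_det g
  have e0 := congrFun h 0
  have e1 := congrFun h 1
  simp only [Matrix.mulVec, dotProduct, Fin.sum_univ_two, Pi.smul_apply, smul_eq_mul] at e0 e1
  rw [tr_eq]
  have k0 : (c ^ 2 - (g.1 0 0 + g.1 1 1) * c + 1) * v 0 = 0 := by
    linear_combination (g.1 1 1 - c) * e0 - g.1 0 1 * e1 - v 0 * hd
  have k1 : (c ^ 2 - (g.1 0 0 + g.1 1 1) * c + 1) * v 1 = 0 := by
    linear_combination (-(g.1 1 0)) * e0 + (g.1 0 0 - c) * e1 - v 1 * hd
  by_contra hne
  apply hv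
  funext i
  fin_cases i
  · exact (mul_eq_zero.mp k0).resolve_left hne
  · exact (mul_eq_zero.mp k1).resolve_left hne

/-- two trace-zero elements: `A B + B A = tr (A B)`. -/
theorem anti_of_tr (A B : SL2) (hA : tr A = 0) (hB : tr B = 0) :
    A.1 * B.1 + B.1 * A.1 = tr (A * B) • (1 : Matrix (Fin 2) (Fin 2) F) := by
  rw [tr_eq] at hA hB
  have hA' : A.1 1 1 = - A.1 0 0 := by linear_combination hA
  have hB' : B.1 1 1 = - B.1 0 0 := by linear_combination hB
  rw [tr_eq, mul_e00, mul_e11]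
  ext i j
  fin_cases i <;> fin_cases j <;>
    simp [Matrix.mul_apply, Fin.sum_univ_two, hA', hB'] <;> ring

/-- trace zero means square `-1`. -/
theorem sq_of_tr_zero (A : SL2) (hA : tr A = 0) : A.1 * A.1 = -1 := by
  have h := sl2_sq A
  rw [show (A : Matrix (Fin 2) (Fin 2) F).trace = tr A from rfl, hA, zero_smul, zero_sub] at h
  exact h

end Cfsg.Agent.Helper41.Dk
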