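import Cfsg.Agent.Helper41.DkSol3

set_option autoImplicit false

/-!
# Solvable two-generated subgroups of `PSL₂(3^p)`: the Dickson case analysis (helper41)

`sol_cases`: if `pmk g` and `pmk h` generate a solvable subgroup of `PSL₂(F)`, `|F| = 3^p` with `p`
an odd prime, then `g, h` fix a common line, or lie in a common torus normaliser, or lie in a
subgroup `Ht` admitting a homomorphism to `A₄` with central kernel.
-/

namespace Cfsg.Agent.Helper41.Dk

open Cfsg.Agent.Helper41 Matrix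

theorem arith_subfield (p : ℕ) (hp : p.Prime) (c m : ℕ) (hc : 2 ≤ c)
    (h : c ^ m = 3 ^ p) : (m = 1 ∨ m = p) ∧ (c = 3 ∨ 4 ≤ c) := by
  have hp2 := hp.two_le
  have hm : m ≠ 0 := by
    rintro rfl
    rw [pow_zero] at h
    have : 3 ^ 1 ≤ 3 ^ p := Nat.pow_le_pow_right (by norm_num) (by omega)
    omega
  have hdvd : c ∣ 3 ^ p := by rw [← h]; exact dvd_pow_self c hm
  obtain ⟨a, -, rfl⟩ := (Nat.dvd_prime_pow Nat.prime_three).mp hdvd
  have ha : a ≠ 0 := by
    rintro rfl
    rw [pow_zero] at hc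
    omega
  rw [← pow_mul] at h
  have h2 : a * m = p := Nat.pow_right_injective (by norm_num : 2 ≤ 3) h
  have hmp : m ∣ p := ⟨a, by rw [← h2, mul_comm]⟩
  rcases (Nat.dvd_prime hp).mp hmp with h1 | h1
  · refine ⟨Or.inl h1, Or.inr ?_⟩
    rw [h1, mul_one] at h2
    rw [h2]
    have : 3 ^ 2 ≤ 3 ^ p := Nat.pow_le_pow_right (by norm_num) hp2
    omega
  · refine ⟨Or.inr h1, Or.inl ?_⟩
    rw [h1] at h2
    have ha1 : a = 1 := by
      have h3 : a * p = 1 * p := by rw [h2, one_mul]
      exact Nat.eq_of_mul_eq_mul_right (by omega) h3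
    rw [ha1, pow_one]

variable {F : Type*} [Field F]

local notation "SL2" => Matrix.SpecialLinearGroup (Fin 2) F

theorem char_three [Fintype F] (p : ℕ) (hF : Fintype.card F = 3 ^ p) : (3 : F) = 0 := by
  have h := Nat.cast_card_eq_zero F
  rw [hF] at h
  push_cast at h
  exact pow_eq_zero_iff (n := p) (by
    rintro rfl
    rw [pow_zero] at h
    exact one_ne_zero h) |>.mp h

theorem charP_three [Fintype F] (p : ℕ) (hF : Fintype.card F = 3 ^ p) : CharP F 3 := by
  apply (CharP.charP_iff_prime_eq_zero Nat.prime_three).mpr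
  have := char_three p hF
  exact_mod_cast this

theorem neg_one_nonsq [Fintype F] (p : ℕ) (hodd : Odd p) (hF : Fintype.card F = 3 ^ p) :
    ∀ a : F, a ^ 2 ≠ -1 := by
  intro a ha
  have h1 : IsSquare (-1 : F) := ⟨a, by rw [← ha, pow_two]⟩
  rw [FiniteField.isSquare_neg_one_iff, hF] at h1
  apply h1
  obtain ⟨k, rfl⟩ := hodd
  rw [pow_succ, pow_mul, Nat.mul_mod, Nat.pow_mod]
  norm_num

theorem two_ne_zero_of_three (h3 : (3 : F) = 0) : (2 : F) ≠ 0 := by
  intro h2
  have : (1 : F) = 0 := by linear_combination h3 - h2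
  exact one_ne_zero this

/-- no elements of order four in `PSL₂(F)` when `3 = 0` and `-1` is a non-square. -/
theorem no_order_four (h3 : (3 : F) = 0) (hns : ∀ a : F, a ^ 2 ≠ -1) (g : SL2)
    (h : g ^ 4 ∈ Subgroup.center SL2) : g ^ 2 ∈ Subgroup.center SL2 := by
  have e4 : g ^ 4 = (g * g) * (g * g) := by
    rw [show (4 : ℕ) = 2 + 2 from rfl, pow_add, pow_two]
  have e2 : g ^ 2 = g * g := pow_two g
  rw [e4] at h
  rw [e2]
  have hd := sl2_det g
  obtain ⟨k, hk⟩ : ∃ k : SL2, k = g * g := ⟨_, rfl⟩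
  have htr : k.1 0 0 + k.1 1 1 ≠ 0 := by
    intro h0
    rw [hk, mul_e00, mul_e11] at h0
    apply hns (tr g)
    rw [tr_eq]
    linear_combination h0 + 2 * hd + h3
  rw [← hk] at h ⊢
  rw [center_iff_entries] at h ⊢
  obtain ⟨h10, h01, h00⟩ := h
  rw [mul_e10] at h10
  rw [mul_e01] at h01
  rw [mul_e00, mul_e11] at h00
  refine ⟨?_, ?_, ?_⟩
  · have : k.1 1 0 * (k.1 0 0 + k.1 1 1) = 0 := by linear_combination h10
    exact (mul_eq_zero.mp this).resolve_right htr
  · have : k.1 0 1 * (k.1 0 0 + k.1 1 1) = 0 := by linear_combination h01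
    exact (mul_eq_zero.mp this).resolve_right htr
  · have : (k.1 0 0 - k.1 1 1) * (k.1 0 0 + k.1 1 1) = 0 := by linear_combination h00
    exact sub_eq_zero.mp ((mul_eq_zero.mp this).resolve_right htr)

set_option maxRecDepth 100000 in
theorem perm4_fact : ∃ σ : Equiv.Perm (Fin 4), σ ^ 4 = 1 ∧ σ ^ 2 ≠ 1 := by decide

/-- **Dickson case analysis** for two elements generating a solvable subgroup of `PSL₂(3^p)`. -/
theorem sol_cases [Fintype F] (p : ℕ) (hp : p.Prime) (hodd : Odd p)
    (hF : Fintype.card F = 3 ^ p) (g h : SL2)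
    (hs : Group.IsSolvable (Subgroup.closure
      ({pmk g, pmk h} : Set (Matrix.ProjectiveSpecialLinearGroup (Fin 2) F)))) :
    (∃ v : Fin 2 → F, v ≠ 0 ∧ (∃ c : F, g.1 *ᵥ v = c • v) ∧ (∃ c : F, h.1 *ᵥ v = c • v)) ∨
    (∃ t : SL2, t ∉ Subgroup.center SL2 ∧ tr t ^ 2 ≠ 4 ∧ g ∈ NT t ∧ h ∈ NT t) ∨
    (∃ (Ht : Subgroup SL2) (f : Ht →* alternatingGroup (Fin 4)), g ∈ Ht ∧ h ∈ Ht ∧
      ∀ k : Ht, f k = 1 ↔ (k : SL2) ∈ Subgroup.center SL2) := by
  classical
  have h3 := char_three p hF
  have hns := neg_one_nonsq p hodd hF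
  have h2 := two_ne_zero_of_three h3
  haveI : CharP F 3 := charP_three p hF
  haveI : Fact (Nat.Prime 3) := ⟨Nat.prime_three⟩
  obtain ⟨H, hH⟩ : ∃ H : Subgroup (Matrix.ProjectiveSpecialLinearGroup (Fin 2) F),
      H = Subgroup.closure ({pmk g, pmk h} : Set _) := ⟨_, rfl⟩
  rw [← hH] at hs
  obtain ⟨Ht, hHt⟩ : ∃ Ht : Subgroup (Matrix.SpecialLinearGroup (Fin 2) F), Ht =
      H.comap (QuotientGroup.mk' (Subgroup.center (Matrix.SpecialLinearGroup (Fin 2) F))) :=
    ⟨_, rfl⟩
  have hle : Subgroup.center (Matrix.SpecialLinearGroup (Fin 2) F) ≤ Ht := by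
    intro z hz
    rw [hHt, Subgroup.mem_comap, QuotientGroup.mk'_apply, (QuotientGroup.eq_one_iff z).mpr hz]
    exact H.one_mem
  have hgH : g ∈ Ht := by
    rw [hHt, Subgroup.mem_comap, hH]
    exact Subgroup.subset_closure (Set.mem_insert _ _)
  have hhH : h ∈ Ht := by
    rw [hHt, Subgroup.mem_comap, hH]
    exact Subgroup.subset_closure (Set.mem_insert_of_mem _ rfl)
  obtain ⟨br⟩ : Nonempty ((↥Ht ⧸ (Subgroup.center
      (Matrix.SpecialLinearGroup (Fin 2) F)).subgroupOf Ht) ≃* ↥H) := by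
    subst hHt
    exact psl_bridge H
  haveI hsq : Group.IsSolvable (↥Ht ⧸ (Subgroup.center
      (Matrix.SpecialLinearGroup (Fin 2) F)).subgroupOf Ht) :=
    Group.isSolvable_of_surjective (f := br.symm.toMonoidHom) br.symm.surjective
  have hD := dickson_subgroup 3 Ht hle
  rcases hD with hB | hT | ⟨-, ⟨e⟩⟩ | ⟨-, ⟨e⟩⟩ | ⟨-, ⟨e⟩⟩ | ⟨Q, hQ, K0, hS⟩
  · left
    obtain ⟨v, hv, hfix⟩ := hB
    exact ⟨v, hv, hfix ⟨g, hgH⟩, hfix ⟨h, hhH⟩⟩
  · right; left
    obtain ⟨x, hxZ, ht, hx⟩ := hT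
    refine ⟨x.1, fun hc => hxZ (Subgroup.mem_subgroupOf.mpr hc), ht, ?_, ?_⟩
    · rcases hx ⟨g, hgH⟩ with h1 | h1
      · left; exact congrArg Subtype.val h1
      · right; exact congrArg Subtype.val h1
    · rcases hx ⟨h, hhH⟩ with h1 | h1
      · left; exact congrArg Subtype.val h1
      · right; exact congrArg Subtype.val h1
  · right; right
    refine ⟨Ht, e.toMonoidHom.comp (QuotientGroup.mk' _), hgH, hhH, ?_⟩
    intro k
    constructor
    · intro hk
      have h1 : e (QuotientGroup.mk k) = 1 := hk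
      have h4 : (QuotientGroup.mk k : ↥Ht ⧸ (Subgroup.center
          (Matrix.SpecialLinearGroup (Fin 2) F)).subgroupOf Ht) = 1 := by
        apply e.injective; rw [h1, map_one]
      exact Subgroup.mem_subgroupOf.mp ((QuotientGroup.eq_one_iff _).mp h4)
    · intro hk
      have h4 : (QuotientGroup.mk k : ↥Ht ⧸ (Subgroup.center
          (Matrix.SpecialLinearGroup (Fin 2) F)).subgroupOf Ht) = 1 :=
        (QuotientGroup.eq_one_iff _).mpr (Subgroup.mem_subgroupOf.mpr hk)
      show e (QuotientGroup.mk k) = 1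
      rw [h4, map_one]
  · exfalso
    obtain ⟨σ, hσ4, hσ2⟩ := perm4_fact
    obtain ⟨y, hy⟩ := e.surjective σ
    obtain ⟨x, rfl⟩ := QuotientGroup.mk_surjective y
    have h4 := quot_pow_center Ht e x 4 (by rw [hy]; exact hσ4)
    have h5 := no_order_four h3 hns x.1 h4
    apply hσ2
    rw [← hy, ← map_pow, ← QuotientGroup.mk_pow]
    have h6 : (QuotientGroup.mk (x ^ 2) : ↥Ht ⧸ (Subgroup.center
        (Matrix.SpecialLinearGroup (Fin 2) F)).subgroupOf Ht) = 1 := by
      rw [QuotientGroup.eq_one_iff, Subgroup.mem_subgroupOf]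
      exact h5
    rw [h6, map_one]
  · exfalso
    exact alt5_not_solvable' (Group.isSolvable_of_surjective (f := e.toMonoidHom) e.surjective)
  · obtain ⟨K, hKf, hKfin, m, φ, hcard, hφ⟩ := exists_small_field 3 K0
    have hZ2 : ∀ k : Ht, k ∈ (Subgroup.center
        (Matrix.SpecialLinearGroup (Fin 2) F)).subgroupOf Ht ↔
        ((conjGL Q hQ).comp Ht.subtype) k ∈
          Subgroup.center (Matrix.SpecialLinearGroup (Fin 2) F) := by
      intro k
      rw [MonoidHom.comp_apply, conjGL_mem_center]; exact Subgroup.mem_subgroupOf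
    rw [hF] at hcard
    have hK2 : 2 ≤ Fintype.card K := Fintype.one_lt_card
    obtain ⟨hm, hc⟩ := arith_subfield p hp (Fintype.card K) m hK2 hcard
    have hmodd : Odd m := by
      rcases hm with rfl | rfl
      · exact odd_one
      · exact hodd
    rcases hS with h1 | ⟨lam, hlam, hlam2, h2'⟩
    · obtain ⟨e⟩ := sl2K_case φ K0 ((conjGL Q hQ).comp Ht.subtype) _ hφ hZ2 h1
      rcases hc with hc | hc
      · obtain ⟨e2⟩ := Cfsg.Agent.S0251.result (F := K) hc
        right; right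
        refine ⟨Ht, (e.trans e2).toMonoidHom.comp (QuotientGroup.mk' _), hgH, hhH, ?_⟩
        intro k
        constructor
        · intro hk
          have h1 : (e.trans e2) (QuotientGroup.mk k) = 1 := hk
          have h4 : (QuotientGroup.mk k : ↥Ht ⧸ (Subgroup.center
              (Matrix.SpecialLinearGroup (Fin 2) F)).subgroupOf Ht) = 1 := by
            apply (e.trans e2).injective; rw [h1, map_one]
          exact Subgroup.mem_subgroupOf.mp ((QuotientGroup.eq_one_iff _).mp h4)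
        · intro hk
          have h4 : (QuotientGroup.mk k : ↥Ht ⧸ (Subgroup.center
              (Matrix.SpecialLinearGroup (Fin 2) F)).subgroupOf Ht) = 1 :=
            (QuotientGroup.eq_one_iff _).mpr (Subgroup.mem_subgroupOf.mpr hk)
          show (e.trans e2) (QuotientGroup.mk k) = 1
          rw [h4, map_one]
      · exfalso
        exact psl2_not_solvable' hc
          (Group.isSolvable_of_surjective (f := e.toMonoidHom) e.surjective)
    · exfalso
      have hK0 : Nat.card K0 = Fintype.card K := by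
        rw [← Nat.card_eq_fintype_card]
        symm
        apply Nat.card_congr
        refine Equiv.ofBijective (fun k : K => (⟨φ k, (hφ _).mpr ⟨k, rfl⟩⟩ : K0)) ⟨?_, ?_⟩
        · intro a b hab
          exact φ.injective (congrArg Subtype.val hab)
        · intro c
          obtain ⟨k, hk⟩ := (hφ c.1).mp c.2
          exact ⟨k, Subtype.ext hk⟩
      exact no_quad_of_odd h2 K0 m hmodd (by rw [hK0, hF, hcard]) lam hlam hlam2

end Cfsg.Agent.Helper41.Dk
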