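import Cfsg.Agent.Helper41.DkSol3b

set_option autoImplicit false

/-!
# Solubilizers in `PSL₂(3^p)`: torus cases (helper41)

`A₄` facts and their translation to a subgroup with a map to `A₄` with central kernel, small matrix
lemmas, and the description of the lifted solubilizer for non-split (`solt_nonsplit`) and split
(`solt_split`) semisimple elements.
-/

namespace Cfsg.Agent.Helper41.Dk

open Cfsg.Agent.Helper41 Matrix

set_option maxRecDepth 1000000 in
theorem a4_fact_c : ∀ σ : alternatingGroup (Fin 4), σ * σ = 1 ∨ σ * σ * σ = 1 := by decide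

set_option maxRecDepth 1000000 in
theorem a4_fact_a : ∀ σ κ : alternatingGroup (Fin 4), σ * σ = 1 →
    (σ * κ * σ⁻¹ * κ⁻¹ = 1) ∨
    (κ * κ * κ = 1 ∧ σ * (κ * σ * κ⁻¹) * σ⁻¹ * (κ * σ * κ⁻¹)⁻¹ = 1) := by decide

set_option maxRecDepth 1000000 in
theorem a4_fact_b : ∀ σ κ : alternatingGroup (Fin 4), σ * σ * σ = 1 → σ ≠ 1 →
    ∃ e : Fin 3, (σ ^ (e : ℕ) * κ) * (σ ^ (e : ℕ) * κ) = 1 ∧
      (σ ^ (e : ℕ) * κ) * (σ * (σ ^ (e : ℕ) * κ) * σ⁻¹) * (σ ^ (e : ℕ) * κ)⁻¹ *
        (σ * (σ ^ (e : ℕ) * κ) * σ⁻¹)⁻¹ = 1 := by decide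

section a4

variable {G : Type*} [Group G] (Z Ht : Subgroup G) (f : Ht →* alternatingGroup (Fin 4))
  (hf : ∀ k : Ht, f k = 1 ↔ (k : G) ∈ Z)

include hf

theorem a4_pow23 (g : G) (hg : g ∈ Ht) : g * g ∈ Z ∨ g * g * g ∈ Z := by
  rcases a4_fact_c (f ⟨g, hg⟩) with h | h
  · left
    have h1 : f (⟨g, hg⟩ * ⟨g, hg⟩) = 1 := by rw [map_mul]; exact h
    exact (hf _).mp h1
  · right
    have h1 : f (⟨g, hg⟩ * ⟨g, hg⟩ * ⟨g, hg⟩) = 1 := by rw [map_mul, map_mul]; exact h
    exact (hf _).mp h1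

theorem a4_invol (g h : G) (hg : g ∈ Ht) (hh : h ∈ Ht) (hg2 : g * g ∈ Z) :
    g * h * g⁻¹ * h⁻¹ ∈ Z ∨
      (h * h * h ∈ Z ∧ g * (h * g * h⁻¹) * g⁻¹ * (h * g * h⁻¹)⁻¹ ∈ Z) := by
  have hσ : f ⟨g, hg⟩ * f ⟨g, hg⟩ = 1 := by
    rw [← map_mul]; exact (hf (⟨g, hg⟩ * ⟨g, hg⟩)).mpr hg2
  rcases a4_fact_a (f ⟨g, hg⟩) (f ⟨h, hh⟩) hσ with h1 | ⟨h1, h2⟩
  · left
    have h3 : f (⟨g, hg⟩ * ⟨h, hh⟩ * ⟨g, hg⟩⁻¹ * ⟨h, hh⟩⁻¹) = 1 := by
      simp only [map_mul, map_inv]; exact h1
    exact (hf _).mp h3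
  · right
    have h3 : f (⟨h, hh⟩ * ⟨h, hh⟩ * ⟨h, hh⟩) = 1 := by
      simp only [map_mul]; exact h1
    have h4 : f (⟨g, hg⟩ * (⟨h, hh⟩ * ⟨g, hg⟩ * ⟨h, hh⟩⁻¹) * ⟨g, hg⟩⁻¹ *
        (⟨h, hh⟩ * ⟨g, hg⟩ * ⟨h, hh⟩⁻¹)⁻¹) = 1 := by
      simp only [map_mul, map_inv]; exact h2
    exact ⟨(hf _).mp h3, (hf _).mp h4⟩

theorem a4_three (g h : G) (hg : g ∈ Ht) (hh : h ∈ Ht) (hg3 : g * g * g ∈ Z) (hgZ : g ∉ Z) :
    ∃ e : Fin 3, (g ^ (e : ℕ) * h) * (g ^ (e : ℕ) * h) ∈ Z ∧
      (g ^ (e : ℕ) * h) * (g * (g ^ (e : ℕ) * h) * g⁻¹) * (g ^ (e : ℕ) * h)⁻¹ *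
        (g * (g ^ (e : ℕ) * h) * g⁻¹)⁻¹ ∈ Z := by
  have hσ : f ⟨g, hg⟩ * f ⟨g, hg⟩ * f ⟨g, hg⟩ = 1 := by
    rw [← map_mul, ← map_mul]; exact (hf (⟨g, hg⟩ * ⟨g, hg⟩ * ⟨g, hg⟩)).mpr hg3
  have hσ1 : f ⟨g, hg⟩ ≠ 1 := fun h1 => hgZ ((hf ⟨g, hg⟩).mp h1)
  obtain ⟨e, h1, h2⟩ := a4_fact_b (f ⟨g, hg⟩) (f ⟨h, hh⟩) hσ hσ1
  refine ⟨e, ?_, ?_⟩
  · have h3 : f ((⟨g, hg⟩ ^ (e : ℕ) * ⟨h, hh⟩) * (⟨g, hg⟩ ^ (e : ℕ) * ⟨h, hh⟩)) = 1 := by
      simp only [map_mul, map_pow]; exact h1
    exact (hf _).mp h3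
  · have h3 : f ((⟨g, hg⟩ ^ (e : ℕ) * ⟨h, hh⟩) *
        (⟨g, hg⟩ * (⟨g, hg⟩ ^ (e : ℕ) * ⟨h, hh⟩) * ⟨g, hg⟩⁻¹) *
        (⟨g, hg⟩ ^ (e : ℕ) * ⟨h, hh⟩)⁻¹ *
        (⟨g, hg⟩ * (⟨g, hg⟩ ^ (e : ℕ) * ⟨h, hh⟩) * ⟨g, hg⟩⁻¹)⁻¹) = 1 := by
      simp only [map_mul, map_pow, map_inv]; exact h2
    exact (hf _).mp h3

end a4

variable {F : Type*} [Field F]

local notation "SL2" => Matrix.SpecialLinearGroup (Fin 2) F

/-- a central commutator means commuting up to sign. -/
theorem comm_or_anti (x y : SL2) (h : x * y * x⁻¹ * y⁻¹ ∈ Subgroup.center SL2) :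
    x * y = y * x ∨ (x * y).1 = -(y * x).1 := by
  have e : x * y = (x * y * x⁻¹ * y⁻¹) * (y * x) := by group
  rcases (mem_center_iff_pm _).mp h with h1 | h1
  · left
    have h2 : x * y * x⁻¹ * y⁻¹ = 1 := Subtype.ext h1
    rw [h2, one_mul] at e
    exact e
  · right
    rw [e, Matrix.SpecialLinearGroup.coe_mul, h1, neg_mul, one_mul]

theorem tr_anti (h2 : (2 : F) ≠ 0) (A B : SL2) (hc : (A * B).1 = -(B * A).1) :
    tr (A * B) = 0 := by
  have e00 := congrFun (congrFun hc 0) 0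
  have e11 := congrFun (congrFun hc 1) 1
  rw [Matrix.neg_apply] at e00 e11
  rw [mul_e00, mul_e00] at e00
  rw [mul_e11, mul_e11] at e11
  rw [tr_eq, mul_e00, mul_e11]
  have h1 : 2 * (A.1 0 0 * B.1 0 0 + A.1 0 1 * B.1 1 0 + (A.1 1 0 * B.1 0 1 + A.1 1 1 * B.1 1 1))
      = 0 := by linear_combination e00 + e11
  exact (mul_eq_zero.mp h1).resolve_left h2

theorem not_center_of_tr0 (h2 : (2 : F) ≠ 0) (A : SL2) (hA : tr A = 0) :
    A ∉ Subgroup.center SL2 := by
  intro hc
  rw [center_iff_entries] at hc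
  obtain ⟨h10, h01, h00⟩ := hc
  have hd := sl2_det A
  rw [tr_eq] at hA
  have h1 : 2 * A.1 0 0 = 0 := by linear_combination hA + h00
  have h3 : A.1 0 0 = 0 := (mul_eq_zero.mp h1).resolve_left h2
  rw [h3, h01] at hd
  simp at hd

/-- commuting trace-zero elements are equal or inverse. -/
theorem tr0_comm (h2 : (2 : F) ≠ 0) (A B : SL2) (hA : tr A = 0) (hB : tr B = 0)
    (hc : A * B = B * A) : B = A ∨ B = A⁻¹ := by
  have hAZ := not_center_of_tr0 h2 A hA
  obtain ⟨α, β, b00, b01, b10, b11⟩ := comm_coords A B hAZ hc.symm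
  rw [tr_eq] at hA hB
  have hα : α = 0 := by
    have h1 : 2 * α = 0 := by linear_combination hB - b00 - b11 - β * hA
    exact (mul_eq_zero.mp h1).resolve_left h2
  rw [hα, zero_add] at b00 b11
  have hdA := sl2_det A
  have hdB := sl2_det B
  rw [b00, b01, b10, b11] at hdB
  have hβ : (β - 1) * (β + 1) = 0 := by linear_combination hdB - β ^ 2 * hdA
  rcases mul_eq_zero.mp hβ with h1 | h1
  · left
    have hβ1 : β = 1 := by linear_combination h1
    rw [hβ1, one_mul] at b00 b01 b10 b11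
    exact sl_ext b00 b01 b10 b11
  · right
    have hβ1 : β = -1 := by linear_combination h1
    rw [hβ1] at b00 b01 b10 b11
    apply sl_ext
    · rw [inv_e00, b00]; linear_combination -hA
    · rw [inv_e01, b01]; ring
    · rw [inv_e10, b10]; ring
    · rw [inv_e11, b11]; linear_combination -hA

theorem sq_center (i : SL2) (h : i * i ∈ Subgroup.center SL2) :
    i ∈ Subgroup.center SL2 ∨ tr i = 0 := by
  by_cases ht : tr i = 0
  · right; exact ht
  · left
    rw [tr_eq] at ht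
    rw [center_iff_entries] at h ⊢
    obtain ⟨h10, h01, h00⟩ := h
    rw [mul_e10] at h10
    rw [mul_e01] at h01
    rw [mul_e00, mul_e11] at h00
    refine ⟨?_, ?_, ?_⟩
    · have : i.1 1 0 * (i.1 0 0 + i.1 1 1) = 0 := by linear_combination h10
      exact (mul_eq_zero.mp this).resolve_right ht
    · have : i.1 0 1 * (i.1 0 0 + i.1 1 1) = 0 := by linear_combination h01
      exact (mul_eq_zero.mp this).resolve_right ht
    · have : (i.1 0 0 - i.1 1 1) * (i.1 0 0 + i.1 1 1) = 0 := by linear_combination h00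
      exact sub_eq_zero.mp ((mul_eq_zero.mp this).resolve_right ht)

theorem sq_center_of_tr0 (i : SL2) (h : tr i = 0) : i * i ∈ Subgroup.center SL2 := by
  rw [tr_eq] at h
  rw [center_iff_entries, mul_e10, mul_e01, mul_e00, mul_e11]
  refine ⟨?_, ?_, ?_⟩
  · linear_combination i.1 1 0 * h
  · linear_combination i.1 0 1 * h
  · linear_combination (i.1 0 0 - i.1 1 1) * h

theorem cube_center (k : SL2) (h : k * k * k ∈ Subgroup.center SL2) :
    k ∈ Subgroup.center SL2 ∨ tr k ^ 2 = 1 := by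
  by_cases ht : tr k ^ 2 = 1
  · right; exact ht
  · left
    have ht' : tr k ^ 2 - 1 ≠ 0 := fun h0 => ht (by linear_combination h0)
    rw [tr_eq] at ht'
    have hd := sl2_det k
    rw [center_iff_entries] at h ⊢
    obtain ⟨h10, h01, h00⟩ := h
    simp only [mul_e00, mul_e01, mul_e10, mul_e11] at h10 h01 h00
    refine ⟨?_, ?_, ?_⟩
    · have : k.1 1 0 * ((k.1 0 0 + k.1 1 1) ^ 2 - 1) = 0 := by
        linear_combination h10 + k.1 1 0 * hd
      exact (mul_eq_zero.mp this).resolve_right ht'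
    · have : k.1 0 1 * ((k.1 0 0 + k.1 1 1) ^ 2 - 1) = 0 := by
        linear_combination h01 + k.1 0 1 * hd
      exact (mul_eq_zero.mp this).resolve_right ht'
    · have : (k.1 0 0 - k.1 1 1) * ((k.1 0 0 + k.1 1 1) ^ 2 - 1) = 0 := by
        linear_combination h00 + (k.1 0 0 - k.1 1 1) * hd
      exact sub_eq_zero.mp ((mul_eq_zero.mp this).resolve_right ht')

theorem solvable_pair_of_mem (K : Subgroup SL2) (hK : Group.IsSolvable K) {g h : SL2}
    (hg : g ∈ K) (hh : h ∈ K) :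
    Group.IsSolvable (Subgroup.closure
      ({pmk g, pmk h} : Set (Matrix.ProjectiveSpecialLinearGroup (Fin 2) F))) := by
  haveI := hK
  have hs : Group.IsSolvable (K.map (QuotientGroup.mk' (Subgroup.center SL2))) :=
    Group.isSolvable_of_surjective
      (MonoidHom.subgroupMap_surjective (QuotientGroup.mk' (Subgroup.center SL2)) K)
  exact solvable_closure_of_mem _ hs (Subgroup.mem_map_of_mem _ hg) (Subgroup.mem_map_of_mem _ hh)

theorem commute_of_conj {x t : SL2} (h : x * t * x⁻¹ = t) : Commute x t :=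
  mul_inv_eq_iff_eq_mul.mp h

/-- the lifted solubilizer of a non-split semisimple element is its torus normaliser. -/
theorem solt_nonsplit [Fintype F] (p : ℕ) (hp : p.Prime) (hodd : Odd p)
    (hF : Fintype.card F = 3 ^ p) (g : SL2)
    (hns : ∀ ρ : F, ρ ^ 2 - tr g * ρ + 1 ≠ 0) (hg2 : g * g ∉ Subgroup.center SL2)
    (hg3 : g * g * g ∉ Subgroup.center SL2) (h : SL2) :
    Group.IsSolvable (Subgroup.closure
      ({pmk g, pmk h} : Set (Matrix.ProjectiveSpecialLinearGroup (Fin 2) F))) ↔ h ∈ NT g := by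
  have hgZ : g ∉ Subgroup.center SL2 := fun hc => hg2 (Subgroup.mul_mem _ hc hc)
  constructor
  · intro hs
    rcases sol_cases p hp hodd hF g h hs with ⟨v, hv, ⟨c, hc⟩, -⟩ | ⟨t, htZ, ht4, hgt, hht⟩ |
      ⟨Ht, f, hgH, hhH, hf⟩
    · exact absurd (char_root_of_fix g v hv c hc) (hns c)
    · rcases hgt with h1 | h1
      · have hgt' : Commute g t := commute_of_conj h1
        rcases hht with h2 | h2
        · have hht' : Commute h t := commute_of_conj h2
          apply cen_le_NT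
          rw [mem_cen]
          exact sl2_CA.cen_comm htZ (mem_cen.mpr hht') (mem_cen.mpr hgt')
        · right
          exact inv_of_comm t g h htZ hgt' h2
      · exact absurd (sq_center_of_tr0 g (inv_tr_zero g t htZ h1)) hg2
    · rcases a4_pow23 (Subgroup.center SL2) Ht f hf g hgH with h1 | h1
      · exact absurd h1 hg2
      · exact absurd h1 hg3
  · intro hh
    exact solvable_pair_of_mem (NT g) (solvable_NT g hgZ) (self_mem_NT g) hh

/-- the lifted solubilizer of a split semisimple element. -/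
theorem solt_split [Fintype F] (p : ℕ) (hp : p.Prime) (hodd : Odd p)
    (hF : Fintype.card F = 3 ^ p) (u : Fˣ)
    (hg2 : (Dg u : SL2) * Dg u ∉ Subgroup.center SL2)
    (hg3 : (Dg u : SL2) * Dg u * Dg u ∉ Subgroup.center SL2) (h : SL2) :
    Group.IsSolvable (Subgroup.closure
      ({pmk (Dg u), pmk h} : Set (Matrix.ProjectiveSpecialLinearGroup (Fin 2) F))) ↔
    (h.1 1 0 = 0 ∨ h.1 0 1 = 0 ∨ (h.1 0 0 = 0 ∧ h.1 1 1 = 0)) := by
  have hgZ : (Dg u : SL2) ∉ Subgroup.center SL2 := fun hc => hg2 (Subgroup.mul_mem _ hc hc)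
  have hne : (u : F) ≠ ((u⁻¹ : Fˣ) : F) := by
    intro h0
    apply hgZ
    rw [center_iff_entries, Dg_e10, Dg_e01, Dg_e00, Dg_e11]
    exact ⟨rfl, rfl, h0⟩
  have hne' : (u : F) - ((u⁻¹ : Fˣ) : F) ≠ 0 := sub_ne_zero.mpr hne
  constructor
  · intro hs
    rcases sol_cases p hp hodd hF (Dg u) h hs with ⟨v, hv, ⟨c, hc⟩, ⟨c', hc'⟩⟩ |
      ⟨t, htZ, ht4, hgt, hht⟩ | ⟨Ht, f, hgH, hhH, hf⟩
    · have e0 := congrFun hc 0
      have e1 := congrFun hc 1
      have f0 := congrFun hc' 0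
      have f1 := congrFun hc' 1
      simp only [Matrix.mulVec, dotProduct, Fin.sum_univ_two, Pi.smul_apply, smul_eq_mul,
        Dg_e00, Dg_e01, Dg_e10, Dg_e11] at e0 e1 f0 f1
      by_cases hv1 : v 1 = 0
      · left
        have hv0 : v 0 ≠ 0 := by
          intro hv0
          apply hv
          funext i
          fin_cases i
          · exact hv0
          · exact hv1
        rw [hv1] at f1
        have : h.1 1 0 * v 0 = 0 := by linear_combination f1
        exact (mul_eq_zero.mp this).resolve_right hv0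
      · right; left
        have hv0 : v 0 = 0 := by
          have h1 : (c - ((u⁻¹ : Fˣ) : F)) * v 1 = 0 := by linear_combination -e1
          have h2 : c = ((u⁻¹ : Fˣ) : F) := sub_eq_zero.mp ((mul_eq_zero.mp h1).resolve_right hv1)
          rw [h2] at e0
          have h3 : ((u : F) - ((u⁻¹ : Fˣ) : F)) * v 0 = 0 := by linear_combination e0
          exact (mul_eq_zero.mp h3).resolve_left hne'
        rw [hv0] at f0
        have : h.1 0 1 * v 1 = 0 := by linear_combination f0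
        exact (mul_eq_zero.mp this).resolve_right hv1
    · rcases hgt with h1 | h1
      · have hgt' : (Dg u : SL2) * t = t * Dg u := (commute_of_conj h1).eq
        have e01 := congrArg (fun g : SL2 => g.1 0 1) hgt'
        have e10 := congrArg (fun g : SL2 => g.1 1 0) hgt'
        simp only [mul_e01, mul_e10, Dg_e00, Dg_e01, Dg_e10, Dg_e11] at e01 e10
        have t01 : t.1 0 1 = 0 := by
          have : ((u : F) - ((u⁻¹ : Fˣ) : F)) * t.1 0 1 = 0 := by linear_combination e01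
          exact (mul_eq_zero.mp this).resolve_left hne'
        have t10 : t.1 1 0 = 0 := by
          have : ((u : F) - ((u⁻¹ : Fˣ) : F)) * t.1 1 0 = 0 := by linear_combination -e10
          exact (mul_eq_zero.mp this).resolve_left hne'
        have tne : t.1 0 0 - t.1 1 1 ≠ 0 := by
          rcases (not_center_iff t).mp htZ with h3 | h3 | h3
          · exact absurd t10 h3
          · exact absurd t01 h3
          · exact sub_ne_zero.mpr h3
        rcases hht with h2 | h2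
        · right; left
          have hht' : h * t = t * h := (commute_of_conj h2).eq
          have f01 := congrArg (fun g : SL2 => g.1 0 1) hht'
          simp only [mul_e01, t01, t10] at f01
          have : (t.1 0 0 - t.1 1 1) * h.1 0 1 = 0 := by linear_combination -f01
          exact (mul_eq_zero.mp this).resolve_left tne
        · right; right
          have hht' : h * t = t⁻¹ * h := by
            calc h * t = h * t * h⁻¹ * h := by group
              _ = t⁻¹ * h := by rw [h2]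
          have f00 := congrArg (fun g : SL2 => g.1 0 0) hht'
          have f11 := congrArg (fun g : SL2 => g.1 1 1) hht'
          simp only [mul_e00, mul_e11, inv_e00, inv_e01, inv_e10, inv_e11, t01, t10] at f00 f11
          constructor
          · have : (t.1 0 0 - t.1 1 1) * h.1 0 0 = 0 := by linear_combination f00
            exact (mul_eq_zero.mp this).resolve_left tne
          · have : (t.1 0 0 - t.1 1 1) * h.1 1 1 = 0 := by linear_combination -f11
            exact (mul_eq_zero.mp this).resolve_left tne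
      · exact absurd (sq_center_of_tr0 _ (inv_tr_zero (Dg u) t htZ h1)) hg2
    · rcases a4_pow23 (Subgroup.center SL2) Ht f hf (Dg u) hgH with h1 | h1
      · exact absurd h1 hg2
      · exact absurd h1 hg3
  · rintro (h10 | h01 | ⟨h00, h11⟩)
    · exact solvable_pair_of_mem Bor solvable_Bor (mem_Bor.mpr (Dg_e10 u)) (mem_Bor.mpr h10)
    · exact solvable_pair_of_mem LBor solvable_LBor (mem_LBor_of _ (Dg_e01 u)) (mem_LBor_of _ h01)
    · apply solvable_pair_of_mem (NT (Dg u)) (solvable_NT _ hgZ) (self_mem_NT _)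
      right
      have hd := sl2_det h
      rw [h00, h11] at hd
      apply sl_ext <;>
        simp only [mul_e00, mul_e01, mul_e10, mul_e11, inv_e00, inv_e01, inv_e10, inv_e11,
          Dg_e00, Dg_e01, Dg_e10, Dg_e11, h00, h11]
      · linear_combination ((u⁻¹ : Fˣ) : F) * hd
      · ring
      · ring
      · linear_combination (u : F) * hd

end Cfsg.Agent.Helper41.Dk
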