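import Cfsg.Agent.Helper41.DkSol3c

set_option autoImplicit false

/-!
# Solubilizers in `PSL₂(3^p)`: unipotent elements and involutions (helper41)

`solt_unip` and `solt_invol`: explicit descriptions of the lifted solubilizers of `Ux β` and `wS`.
-/

namespace Cfsg.Agent.Helper41.Dk

open Cfsg.Agent.Helper41 Matrix

variable {F : Type*} [Field F]

local notation "SL2" => Matrix.SpecialLinearGroup (Fin 2) F

theorem cube_center_of (k : SL2) (ht : tr k ^ 2 = 1) : k * k * k ∈ Subgroup.center SL2 := by
  rw [tr_eq] at ht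
  have hd := sl2_det k
  rw [center_iff_entries]
  simp only [mul_e00, mul_e01, mul_e10, mul_e11]
  refine ⟨?_, ?_, ?_⟩
  · linear_combination k.1 1 0 * ht - k.1 1 0 * hd
  · linear_combination k.1 0 1 * ht - k.1 0 1 * hd
  · linear_combination (k.1 0 0 - k.1 1 1) * ht - (k.1 0 0 - k.1 1 1) * hd

theorem pmk_cube_of (k : SL2) (ht : tr k ^ 2 = 1) : pmk k ^ 3 = 1 := by
  rw [pow_three']
  exact (QuotientGroup.eq_one_iff (k * k * k)).mpr (cube_center_of k ht)

/-- if `pmk h` lies in a solvable two-generated subgroup containing `pmk g`, the pair is solvable. -/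
theorem solvable_pair_of_le (g k h : SL2)
    (hs : Group.IsSolvable (Subgroup.closure
      ({pmk g, pmk k} : Set (Matrix.ProjectiveSpecialLinearGroup (Fin 2) F))))
    (hh : pmk h ∈ Subgroup.closure
      ({pmk g, pmk k} : Set (Matrix.ProjectiveSpecialLinearGroup (Fin 2) F))) :
    Group.IsSolvable (Subgroup.closure
      ({pmk g, pmk h} : Set (Matrix.ProjectiveSpecialLinearGroup (Fin 2) F))) :=
  solvable_closure_of_mem _ hs (Subgroup.subset_closure (Set.mem_insert _ _)) hh

/-- two trace-zero elements: both invert their product. -/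
theorem tr0_pair_inv (A B : SL2) (hA : tr A = 0) (hB : tr B = 0) :
    A * (A * B) * A⁻¹ = (A * B)⁻¹ ∧ B * (A * B) * B⁻¹ = (A * B)⁻¹ := by
  have sA := sq_of_tr_zero A hA
  have sB := sq_of_tr_zero B hB
  have h1 : (A * B) * (B * A) = 1 := by
    apply Subtype.ext
    simp only [Matrix.SpecialLinearGroup.coe_mul, Matrix.SpecialLinearGroup.coe_one]
    calc A.1 * B.1 * (B.1 * A.1) = A.1 * (B.1 * B.1) * A.1 := by
          simp only [Matrix.mul_assoc]
      _ = 1 := by rw [sB, Matrix.mul_neg, Matrix.mul_one, Matrix.neg_mul, sA, neg_neg]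
  have h2 : (A * B)⁻¹ = B * A := inv_eq_of_mul_eq_one_right h1
  have h3 : A * (A * B) = B * A * A := by
    apply Subtype.ext
    simp only [Matrix.SpecialLinearGroup.coe_mul]
    rw [← Matrix.mul_assoc, sA, Matrix.mul_assoc, sA, Matrix.neg_mul, Matrix.one_mul,
      Matrix.mul_neg, Matrix.mul_one]
  rw [h2]
  constructor
  · rw [h3]; group
  · group

/-- two elements of trace zero generate a solvable subgroup of `PSL₂`. -/
theorem invol_pair (A B : SL2) (hA : tr A = 0) (hB : tr B = 0) (h2 : (2 : F) ≠ 0) :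
    Group.IsSolvable (Subgroup.closure
      ({pmk A, pmk B} : Set (Matrix.ProjectiveSpecialLinearGroup (Fin 2) F))) := by
  obtain ⟨i1, i2⟩ := tr0_pair_inv A B hA hB
  have hAZ := not_center_of_tr0 h2 A hA
  by_cases ht : A * B ∈ Subgroup.center SL2
  · apply solvable_pair_of_mem (NT A) (solvable_NT A hAZ) (self_mem_NT A)
    have e : B = A⁻¹ * (A * B) := by group
    rw [e]
    exact Subgroup.mul_mem _ (Subgroup.inv_mem _ (self_mem_NT A)) (center_le_NT A ht)
  · exact solvable_pair_of_mem (NT (A * B)) (solvable_NT _ ht) (Or.inr i1) (Or.inr i2)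

theorem wS_e00 : (wS : SL2).1 0 0 = 0 := rfl
theorem wS_e01 : (wS : SL2).1 0 1 = 1 := rfl
theorem wS_e10 : (wS : SL2).1 1 0 = -1 := rfl
theorem wS_e11 : (wS : SL2).1 1 1 = 0 := rfl

theorem tr_wS : tr (wS : SL2) = 0 := by
  rw [tr_eq, wS_e00, wS_e11, add_zero]

theorem tr_wS_mul (h : SL2) : tr (wS * h) = h.1 1 0 - h.1 0 1 := by
  rw [tr_eq, mul_e00, mul_e11, wS_e00, wS_e01, wS_e10, wS_e11]; ring

theorem tr_wS_conj (h : SL2) : tr (wS * (h * wS * h⁻¹)) =
    -(h.1 0 0 ^ 2 + h.1 0 1 ^ 2 + h.1 1 0 ^ 2 + h.1 1 1 ^ 2) := by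
  rw [tr_eq]
  simp only [mul_e00, mul_e01, mul_e10, mul_e11, inv_e00, inv_e01, inv_e10, inv_e11,
    wS_e00, wS_e01, wS_e10, wS_e11]
  ring

theorem comm_wS_iff (h : SL2) : h * wS = wS * h ↔ (h.1 0 0 = h.1 1 1 ∧ h.1 0 1 = -h.1 1 0) := by
  constructor
  · intro hc
    have e00 := congrArg (fun g : SL2 => g.1 0 0) hc
    have e01 := congrArg (fun g : SL2 => g.1 0 1) hc
    simp only [mul_e00, mul_e01, wS_e00, wS_e01, wS_e10, wS_e11] at e00 e01
    constructor
    · linear_combination e01
    · linear_combination -e00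
  · rintro ⟨h1, h2⟩
    apply sl_ext <;>
      simp only [mul_e00, mul_e01, mul_e10, mul_e11, wS_e00, wS_e01, wS_e10, wS_e11, h1, h2] <;>
      ring

theorem inv_wS_imp (h : SL2) (hc : h * wS * h⁻¹ = wS⁻¹) : tr h = 0 := by
  have hc' : h * wS = wS⁻¹ * h := by
    calc h * wS = h * wS * h⁻¹ * h := by group
      _ = wS⁻¹ * h := by rw [hc]
  have e01 := congrArg (fun g : SL2 => g.1 0 1) hc'
  simp only [mul_e00, mul_e01, inv_e00, inv_e01, inv_e10, inv_e11, wS_e00, wS_e01, wS_e10,
    wS_e11] at e01
  rw [tr_eq]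
  linear_combination e01

theorem tr_unip_conj (β : F) (i : SL2) (hi : tr i = 0) :
    tr (i * (Ux β * i * (Ux β)⁻¹)) = -2 - β ^ 2 * (i.1 1 0) ^ 2 := by
  rw [tr_eq] at hi
  have h11 : i.1 1 1 = -i.1 0 0 := by linear_combination hi
  have hd := sl2_det i
  rw [h11] at hd
  rw [tr_eq]
  simp only [mul_e00, mul_e01, mul_e10, mul_e11, inv_e00, inv_e01, inv_e10, inv_e11,
    Ux_e00, Ux_e01, Ux_e10, Ux_e11, h11]
  linear_combination (-2) * hd

theorem Ux_not_center (β : F) (hβ : β ≠ 0) : (Ux β) ∉ Subgroup.center SL2 := by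
  rw [center_iff_entries]
  rintro ⟨-, h, -⟩
  rw [Ux_e01] at h
  exact hβ h

theorem Ux_cube (h3 : (3 : F) = 0) (β : F) : (Ux β) * Ux β * Ux β = (1 : SL2) := by
  rw [Ux_mul, Ux_mul]
  have : β + β + β = 0 := by linear_combination β * h3
  rw [this, Ux_zero]

theorem nat_cube (h3 : (3 : F) = 0) (e : Fin 3) : (((e : ℕ) : F)) ^ 3 = ((e : ℕ) : F) := by
  fin_cases e
  · simp
  · simp
  · simp only [Fin.reduceFinMk, Fin.val_two, Nat.cast_ofNat]
    linear_combination 2 * h3

theorem exists_nat_of_cube (h3 : (3 : F) = 0) (x : F) (hx : x ^ 3 = x) : ∃ k : ℕ, (k : F) = x := by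
  have h1 : x * ((x - 1) * (x + 1)) = 0 := by linear_combination hx
  rcases mul_eq_zero.mp h1 with h0 | h0
  · exact ⟨0, by rw [h0]; simp⟩
  · rcases mul_eq_zero.mp h0 with h0 | h0
    · exact ⟨1, by push_cast; linear_combination -h0⟩
    · exact ⟨2, by push_cast; linear_combination h3 - h0⟩

/-- the lifted solubilizer of a unipotent element. -/
theorem solt_unip [Fintype F] (p : ℕ) (hp : p.Prime) (hodd : Odd p)
    (hF : Fintype.card F = 3 ^ p) (β : F) (hβ : β ≠ 0) (h : SL2) :
    Group.IsSolvable (Subgroup.closure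
      ({pmk (Ux β), pmk h} : Set (Matrix.ProjectiveSpecialLinearGroup (Fin 2) F))) ↔
    (h.1 1 0 = 0 ∨ ((β * h.1 1 0) ^ 2 = 1 ∧ tr h ^ 3 = tr h)) := by
  have h3 := char_three p hF
  have h2 := two_ne_zero_of_three h3
  have hgZ := Ux_not_center β hβ
  have htrU : tr (Ux β) ≠ 0 := by
    rw [tr_eq, Ux_e00, Ux_e11]
    intro h0
    exact h2 (by linear_combination h0)
  -- commuting with `Ux β` forces lower-left entry zero
  have hcomm : ∀ t : SL2, Ux β * t = t * Ux β → t.1 1 0 = 0 := by
    intro t ht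
    have e00 := congrArg (fun g : SL2 => g.1 0 0) ht
    simp only [mul_e00, Ux_e00, Ux_e01, Ux_e10, Ux_e11] at e00
    have : β * t.1 1 0 = 0 := by linear_combination e00
    exact (mul_eq_zero.mp this).resolve_left hβ
  constructor
  · intro hs
    rcases sol_cases p hp hodd hF (Ux β) h hs with ⟨v, hv, ⟨c, hc⟩, ⟨c', hc'⟩⟩ |
      ⟨t, htZ, ht4, hgt, hht⟩ | ⟨Ht, f, hgH, hhH, hf⟩
    · left
      have e0 := congrFun hc 0
      have e1 := congrFun hc 1
      have f1 := congrFun hc' 1
      simp only [Matrix.mulVec, dotProduct, Fin.sum_univ_two, Pi.smul_apply, smul_eq_mul,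
        Ux_e00, Ux_e01, Ux_e10, Ux_e11] at e0 e1 f1
      have hv1 : v 1 = 0 := by
        by_contra hv1
        have h1 : (c - 1) * v 1 = 0 := by linear_combination -e1
        have hc1 : c = 1 := sub_eq_zero.mp ((mul_eq_zero.mp h1).resolve_right hv1)
        rw [hc1] at e0
        have h4 : β * v 1 = 0 := by linear_combination e0
        exact hv1 ((mul_eq_zero.mp h4).resolve_left hβ)
      have hv0 : v 0 ≠ 0 := by
        intro hv0
        apply hv
        funext i
        fin_cases i
        · exact hv0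
        · exact hv1
      rw [hv1] at f1
      have : h.1 1 0 * v 0 = 0 := by linear_combination f1
      exact (mul_eq_zero.mp this).resolve_right hv0
    · exfalso
      rcases hgt with h1 | h1
      · have hgt' : Ux β * t = t * Ux β := (commute_of_conj h1).eq
        have t10 := hcomm t hgt'
        have e01 := congrArg (fun g : SL2 => g.1 0 1) hgt'
        simp only [mul_e01, Ux_e00, Ux_e01, Ux_e10, Ux_e11] at e01
        have t11 : t.1 1 1 = t.1 0 0 := by
          have : β * (t.1 1 1 - t.1 0 0) = 0 := by linear_combination e01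
          exact sub_eq_zero.mp ((mul_eq_zero.mp this).resolve_left hβ)
        have hd := sl2_det t
        rw [t10, t11] at hd
        apply ht4
        rw [tr_eq, t11]
        linear_combination 4 * hd
      · exact htrU (inv_tr_zero (Ux β) t htZ h1)
    · have hg3 : Ux β * Ux β * Ux β ∈ Subgroup.center SL2 := by
        rw [Ux_cube h3]; exact Subgroup.one_mem _
      obtain ⟨e, hi2, hij⟩ := a4_three (Subgroup.center SL2) Ht f hf (Ux β) h hgH hhH hg3 hgZ
      rw [Ux_pow] at hi2 hij
      obtain ⟨s, hs⟩ : ∃ s : F, s = ((e : ℕ) : F) * β := ⟨_, rfl⟩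
      rw [← hs] at hi2 hij
      obtain ⟨i, hi⟩ : ∃ i : SL2, i = Ux s * h := ⟨_, rfl⟩
      rw [← hi] at hi2 hij
      have i10 : i.1 1 0 = h.1 1 0 := by
        rw [hi, mul_e10, Ux_e10, Ux_e11]; ring
      have itr : tr i = tr h + s * h.1 1 0 := by
        rw [tr_eq, tr_eq, hi, mul_e00, mul_e11, Ux_e00, Ux_e01, Ux_e10, Ux_e11]; ring
      rcases sq_center i hi2 with hiZ | hi0
      · left
        rw [← i10]
        exact ((center_iff_entries i).mp hiZ).1
      · have hiZ := not_center_of_tr0 h2 i hi0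
        have hj0 : tr (Ux β * i * (Ux β)⁻¹) = 0 := by rw [tr_conj]; exact hi0
        rcases comm_or_anti i (Ux β * i * (Ux β)⁻¹) hij with hc | hc
        · rcases tr0_comm h2 i _ hi0 hj0 hc with h5 | h5
          · left
            rw [← i10]
            exact hcomm i (commute_of_conj h5).eq
          · exact absurd (inv_tr_zero (Ux β) i hiZ h5) htrU
        · right
          have h5 := tr_anti h2 i _ hc
          rw [tr_unip_conj β i hi0, i10] at h5
          have hε : (β * h.1 1 0) ^ 2 = 1 := by linear_combination -h5 - h3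
          refine ⟨hε, ?_⟩
          have htr : tr h = -(((e : ℕ) : F) * (β * h.1 1 0)) := by
            rw [hi0, hs] at itr
            linear_combination -itr
          have hn := nat_cube h3 e
          rw [htr]
          linear_combination (-(β * h.1 1 0) ^ 3) * hn -
            (((e : ℕ) : F) * (β * h.1 1 0)) * hε
  · rintro (h10 | ⟨hε, hτ⟩)
    · exact solvable_pair_of_mem Bor solvable_Bor (mem_Bor.mpr (Ux_e10 β)) (mem_Bor.mpr h10)
    · obtain ⟨k, hk⟩ := exists_nat_of_cube h3 (tr h * (β * h.1 1 0)) (by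
        linear_combination (β * h.1 1 0) ^ 3 * hτ + tr h * (β * h.1 1 0) * hε)
      obtain ⟨i, hi⟩ : ∃ i : SL2, i = (Ux β ^ k)⁻¹ * h := ⟨_, rfl⟩
      have hi' : i = Ux (-(k * β)) * h := by rw [hi, Ux_pow, Ux_inv]
      have i10 : i.1 1 0 = h.1 1 0 := by
        rw [hi', mul_e10, Ux_e10, Ux_e11]; ring
      have hi0 : tr i = 0 := by
        rw [tr_eq, hi', mul_e00, mul_e11, Ux_e00, Ux_e01, Ux_e10, Ux_e11, hk]
        rw [tr_eq]
        linear_combination (-(h.1 0 0 + h.1 1 1)) * hε
      have hj0 : tr (Ux β * i * (Ux β)⁻¹) = 0 := by rw [tr_conj]; exact hi0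
      have hij : tr (i * (Ux β * i * (Ux β)⁻¹)) = 0 := by
        rw [tr_unip_conj β i hi0, i10]
        linear_combination -hε - h3
      have hanti := anti_of_tr i _ hi0 hj0
      rw [hij, zero_smul] at hanti
      have hsol : Group.IsSolvable (Subgroup.closure
          ({pmk (Ux β), pmk i} : Set (Matrix.ProjectiveSpecialLinearGroup (Fin 2) F))) := by
        apply solvable_of_A4_like
        · rw [pow_three']
          exact (QuotientGroup.eq_one_iff (Ux β * Ux β * Ux β)).mpr (by
            rw [Ux_cube h3]; exact Subgroup.one_mem _)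
        · show pmk (i * (Ux β * i * (Ux β)⁻¹)) = pmk ((Ux β * i * (Ux β)⁻¹) * i)
          rw [pmk_eq_iff]
          right
          rw [Matrix.SpecialLinearGroup.coe_mul, Matrix.SpecialLinearGroup.coe_mul]
          exact eq_neg_of_add_eq_zero_left hanti
      apply solvable_pair_of_le (Ux β) i h hsol
      have e : pmk h = pmk (Ux β) ^ k * pmk i := by
        show pmk h = pmk (Ux β ^ k * i)
        rw [hi]
        congr 1
        group
      rw [e]
      exact Subgroup.mul_mem _ (Subgroup.pow_mem _ (Subgroup.subset_closure (Set.mem_insert _ _)) k)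
        (Subgroup.subset_closure (Set.mem_insert_of_mem _ rfl))

theorem wS_not_center (h2 : (2 : F) ≠ 0) : (wS : SL2) ∉ Subgroup.center SL2 :=
  not_center_of_tr0 h2 wS tr_wS

/-- the lifted solubilizer of an involution. -/
theorem solt_invol [Fintype F] (p : ℕ) (hp : p.Prime) (hodd : Odd p)
    (hF : Fintype.card F = 3 ^ p) (h : SL2) :
    Group.IsSolvable (Subgroup.closure
      ({pmk (wS : SL2), pmk h} : Set (Matrix.ProjectiveSpecialLinearGroup (Fin 2) F))) ↔
    (tr h = 0 ∨ h.1 0 1 = h.1 1 0 ∨ (h.1 0 0 = h.1 1 1 ∧ h.1 0 1 = -h.1 1 0) ∨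
      (tr h ^ 2 = 1 ∧ h.1 0 0 ^ 2 + h.1 0 1 ^ 2 + h.1 1 0 ^ 2 + h.1 1 1 ^ 2 = 0)) := by
  have h3 := char_three p hF
  have h2 := two_ne_zero_of_three h3
  have hns := neg_one_nonsq p hodd hF
  have hwZ := wS_not_center (F := F) h2
  have hw2 : (wS : SL2) * wS ∈ Subgroup.center SL2 := sq_center_of_tr0 wS tr_wS
  constructor
  · intro hs
    rcases sol_cases p hp hodd hF wS h hs with ⟨v, hv, ⟨c, hc⟩, -⟩ |
      ⟨t, htZ, ht4, hgt, hht⟩ | ⟨Ht, f, hgH, hhH, hf⟩
    · exfalso
      have h1 := char_root_of_fix wS v hv c hc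
      rw [tr_wS] at h1
      exact hns c (by linear_combination h1)
    · rcases hgt with h1 | h1
      · have hgt' : Commute (wS : SL2) t := commute_of_conj h1
        rcases hht with h4 | h4
        · have hht' : Commute h t := commute_of_conj h4
          right; right; left
          exact (comm_wS_iff h).mp (sl2_CA.cen_comm htZ (mem_cen.mpr hht') (mem_cen.mpr hgt')).eq
        · left
          exact inv_wS_imp h (inv_of_comm t wS h htZ hgt' h4)
      · rcases hht with h4 | h4
        · have hht' : Commute h t := commute_of_conj h4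
          have h5 := inv_of_comm t h wS htZ hht' h1
          have h6 : wS * h = h⁻¹ * wS := by
            calc wS * h = wS * h * wS⁻¹ * wS := by group
              _ = h⁻¹ * wS := by rw [h5]
          right; left
          have e00 := congrArg (fun g : SL2 => g.1 0 0) h6
          simp only [mul_e00, inv_e00, inv_e01, wS_e00, wS_e01, wS_e10, wS_e11] at e00
          linear_combination -e00
        · left
          obtain ⟨k, hk⟩ : ∃ k : SL2, k = wS⁻¹ * h := ⟨_, rfl⟩
          have hkt : k * t * k⁻¹ = t := by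
            have e1 : k * t * k⁻¹ = wS⁻¹ * (h * t * h⁻¹) * wS := by rw [hk]; group
            rw [e1, h4, ← h1]; group
          have h5 := inv_of_comm t k wS htZ (commute_of_conj hkt) h1
          have h6 : h * wS⁻¹ = h⁻¹ * wS := by
            have e1 : wS * k * wS⁻¹ = h * wS⁻¹ := by rw [hk]; group
            have e2 : k⁻¹ = h⁻¹ * wS := by rw [hk]; group
            rw [← e1, h5, e2]
          have e01 := congrArg (fun g : SL2 => g.1 0 1) h6
          simp only [mul_e01, inv_e00, inv_e01, inv_e10, inv_e11, wS_e00, wS_e01, wS_e10,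
            wS_e11] at e01
          rw [tr_eq]
          linear_combination -e01
    · rcases a4_invol (Subgroup.center SL2) Ht f hf wS h hgH hhH hw2 with h1 | ⟨h1, h4⟩
      · rcases comm_or_anti wS h h1 with hc | hc
        · right; right; left
          exact (comm_wS_iff h).mp hc.symm
        · right; left
          have h5 := tr_anti h2 wS h hc
          rw [tr_wS_mul] at h5
          linear_combination -h5
      · have hj0 : tr (h * wS * h⁻¹) = 0 := by rw [tr_conj]; exact tr_wS
        rcases comm_or_anti wS (h * wS * h⁻¹) h4 with hc | hc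
        · rcases tr0_comm h2 wS _ tr_wS hj0 hc with h5 | h5
          · right; right; left
            exact (comm_wS_iff h).mp (commute_of_conj h5).eq
          · left
            exact inv_wS_imp h h5
        · have h5 := tr_anti h2 wS _ hc
          rw [tr_wS_conj] at h5
          rcases cube_center h h1 with hZ | hτ
          · right; right; left
            obtain ⟨z10, z01, z00⟩ := (center_iff_entries h).mp hZ
            exact ⟨z00, by rw [z01, z10, neg_zero]⟩
          · right; right; right
            exact ⟨hτ, by linear_combination -h5⟩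
  · rintro (h0 | h01 | ⟨h00, h01⟩ | ⟨hτ, hss⟩)
    · exact invol_pair wS h tr_wS h0 h2
    · have hk0 : tr (wS * h) = 0 := by rw [tr_wS_mul, h01]; ring
      apply solvable_pair_of_le wS (wS * h) h (invol_pair wS (wS * h) tr_wS hk0 h2)
      have e : pmk h = (pmk (wS : SL2))⁻¹ * pmk (wS * h) := by
        show pmk h = pmk (wS⁻¹ * (wS * h))
        congr 1
        group
      rw [e]
      exact Subgroup.mul_mem _
        (Subgroup.inv_mem _ (Subgroup.subset_closure (Set.mem_insert _ _)))
        (Subgroup.subset_closure (Set.mem_insert_of_mem _ rfl))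
    · apply solvable_pair_of_mem (NT wS) (solvable_NT wS hwZ) (self_mem_NT wS)
      apply cen_le_NT
      rw [mem_cen]
      exact (comm_wS_iff h).mpr ⟨h00, h01⟩
    · have hj0 : tr (h * wS * h⁻¹) = 0 := by rw [tr_conj]; exact tr_wS
      have hij : tr (wS * (h * wS * h⁻¹)) = 0 := by
        rw [tr_wS_conj, hss, neg_zero]
      have hanti := anti_of_tr wS _ tr_wS hj0
      rw [hij, zero_smul] at hanti
      have hsol : Group.IsSolvable (Subgroup.closure
          ({pmk h, pmk (wS : SL2)} : Set (Matrix.ProjectiveSpecialLinearGroup (Fin 2) F))) := by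
        apply solvable_of_A4_like
        · exact pmk_cube_of h hτ
        · show pmk (wS * (h * wS * h⁻¹)) = pmk ((h * wS * h⁻¹) * wS)
          rw [pmk_eq_iff]
          right
          rw [Matrix.SpecialLinearGroup.coe_mul, Matrix.SpecialLinearGroup.coe_mul]
          exact eq_neg_of_add_eq_zero_left hanti
      rw [Set.pair_comm]
      exact hsol

end Cfsg.Agent.Helper41.Dk
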