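import Cfsg.Agent.Helper41.DkSol3d

set_option autoImplicit false

/-!
# Solubilizers in `PSL₂(3^p)`: counting the explicit sets (helper41)
-/

namespace Cfsg.Agent.Helper41.Dk

open Cfsg.Agent.Helper41 Matrix

variable {F : Type*} [Field F]

local notation "SL2" => Matrix.SpecialLinearGroup (Fin 2) F

theorem card_sgn (h2 : (2 : F) ≠ 0) : Nat.card {ε : F // ε ^ 2 = 1} = 2 := by
  have e : {ε : F | ε ^ 2 = 1} = {1, -1} := by
    ext x
    simp only [Set.mem_setOf_eq, Set.mem_insert_iff, Set.mem_singleton_iff]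
    constructor
    · intro h
      have : (x - 1) * (x + 1) = 0 := by linear_combination h
      rcases mul_eq_zero.mp this with h1 | h1
      · left; linear_combination h1
      · right; linear_combination h1
    · rintro (rfl | rfl) <;> ring
  show Nat.card ↥{ε : F | ε ^ 2 = 1} = 2
  rw [Nat.card_coe_set_eq, e]
  apply Set.ncard_pair
  intro h
  apply h2
  linear_combination h

/-- trace zero. -/
def invA : Set SL2 := {h | tr h = 0}
/-- trace of `wS * h` zero. -/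
def invB : Set SL2 := {h | h.1 0 1 = h.1 1 0}
/-- the centraliser of `wS`. -/
def invC : Set SL2 := {h | h.1 0 0 = h.1 1 1 ∧ h.1 0 1 = -h.1 1 0}
/-- the `A₄`-type elements. -/
def invD : Set SL2 :=
  {h | tr h ^ 2 = 1 ∧ h.1 0 0 ^ 2 + h.1 0 1 ^ 2 + h.1 1 0 ^ 2 + h.1 1 1 ^ 2 = 0}

theorem ncard_invA [Fintype F] (hns : ∀ a : F, a ^ 2 ≠ -1) :
    (invA : Set SL2).ncard = Fintype.card F * (Fintype.card F - 1) := by
  classical
  rw [← Nat.card_coe_set_eq]
  have hb : ∀ h : SL2, tr h = 0 → h.1 0 1 ≠ 0 := by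
    intro h ht h0
    have hd := sl2_det h
    rw [tr_eq] at ht
    apply hns (h.1 0 0)
    rw [h0] at hd
    linear_combination -hd + h.1 0 0 * ht
  have e : Nat.card ↥(invA : Set SL2) = Nat.card (F × Fˣ) := by
    apply Nat.card_congr
    refine Equiv.ofBijective (fun h : ↥(invA : Set SL2) =>
      ((h.1.1 0 0, Units.mk0 (h.1.1 0 1) (hb h.1 h.2)) : F × Fˣ)) ⟨?_, ?_⟩
    · intro a b hab
      have h1 : a.1.1 0 0 = b.1.1 0 0 := congrArg (fun x : F × Fˣ => x.1) hab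
      have h2 : a.1.1 0 1 = b.1.1 0 1 := congrArg (fun x : F × Fˣ => (x.2 : F)) hab
      have ha := sl2_det a.1
      have hb' := sl2_det b.1
      have ta : tr a.1 = 0 := a.2
      have tb : tr b.1 = 0 := b.2
      rw [tr_eq] at ta tb
      have h11 : a.1.1 1 1 = b.1.1 1 1 := by linear_combination ta - tb - h1
      apply Subtype.ext
      apply sl_ext h1 h2 _ h11
      have h3 : a.1.1 0 1 * (a.1.1 1 0 - b.1.1 1 0) = 0 := by
        rw [h1, h11] at ha
        rw [h2] at ha ⊢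
        linear_combination hb' - ha
      exact sub_eq_zero.mp ((mul_eq_zero.mp h3).resolve_left (hb a.1 a.2))
    · rintro ⟨a, b⟩
      have hbb : (b : F) * (b : F)⁻¹ = 1 := mul_inv_cancel₀ b.ne_zero
      obtain ⟨g, hg00, hg01, hg11⟩ : ∃ g : SL2, g.1 0 0 = a ∧ g.1 0 1 = b ∧ g.1 1 1 = -a :=
        ⟨mkSL a b (-(1 + a ^ 2) * (b : F)⁻¹) (-a) (by linear_combination (1 + a ^ 2) * hbb),
          by rw [mk_e00], by rw [mk_e01], by rw [mk_e11]⟩
      refine ⟨⟨g, ?_⟩, ?_⟩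
      · show tr g = 0
        rw [tr_eq, hg00, hg11]; ring
      · apply Prod.ext
        · exact hg00
        · apply Units.ext; exact hg01
  rw [e, Nat.card_prod, Nat.card_units, Nat.card_eq_fintype_card]

theorem invB_eq : (invB : Set SL2) = (fun h => wS⁻¹ * h) '' invA := by
  ext h
  simp only [invB, invA, Set.mem_setOf_eq, Set.mem_image]
  constructor
  · intro hh
    refine ⟨wS * h, ?_, by group⟩
    rw [tr_wS_mul, hh]; ring
  · rintro ⟨k, hk, rfl⟩
    have h1 : tr (wS * (wS⁻¹ * k)) = 0 := by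
      rw [show wS * (wS⁻¹ * k) = k by group]; exact hk
    rw [tr_wS_mul] at h1
    linear_combination -h1

theorem ncard_invB [Fintype F] (hns : ∀ a : F, a ^ 2 ≠ -1) :
    (invB : Set SL2).ncard = Fintype.card F * (Fintype.card F - 1) := by
  rw [invB_eq, Set.ncard_image_of_injective _ (mul_right_injective _), ncard_invA hns]

theorem invC_eq : (invC : Set SL2) = (cen (wS : SL2) : Set SL2) := by
  ext h
  show (h.1 0 0 = h.1 1 1 ∧ h.1 0 1 = -h.1 1 0) ↔ h ∈ cen (wS : SL2)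
  rw [mem_cen]
  exact ⟨fun hc => (comm_wS_iff h).mpr hc, fun hc => (comm_wS_iff h).mp hc.eq⟩

theorem ncard_invC [Fintype F] (p : ℕ) (hodd : Odd p) (hF : Fintype.card F = 3 ^ p) :
    (invC : Set SL2).ncard = Fintype.card F + 1 := by
  have h3 := char_three p hF
  have h2 := two_ne_zero_of_three h3
  have hns := neg_one_nonsq p hodd hF
  haveI : CharP F 3 := charP_three p hF
  haveI : Fact (Nat.Prime 3) := ⟨Nat.prime_three⟩
  rw [invC_eq]
  have h1 := card_cen_nonsplit 3 (wS : SL2) (wS_not_center h2) (by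
    rw [tr_wS]
    intro h4
    have : (1 : F) = 0 := by linear_combination -h4 - h3
    exact one_ne_zero this) (by
    intro ρ hρ
    rw [tr_wS] at hρ
    exact hns ρ (by linear_combination hρ))
  rw [← h1]
  exact (Nat.card_coe_set_eq _).symm

/-- an auxiliary element of trace zero with equal off-diagonal entries. -/
def w0 (h3 : (3 : F) = 0) : SL2 := mkSL 1 1 1 (-1) (by linear_combination -h3)

theorem invAB_eq (h3 : (3 : F) = 0) :
    (invA ∩ invB : Set SL2) = (fun h => w0 h3 * h) '' invC := by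
  ext h
  simp only [invB, invA, invC, Set.mem_inter_iff, Set.mem_setOf_eq, Set.mem_image]
  constructor
  · rintro ⟨hA, hB⟩
    rw [tr_eq] at hA
    refine ⟨(w0 h3)⁻¹ * h, ⟨?_, ?_⟩, by group⟩
    · simp only [mul_e00, mul_e01, mul_e10, mul_e11, inv_e00, inv_e01, inv_e10, inv_e11, w0,
        mk_e00, mk_e01, mk_e10, mk_e11]
      linear_combination -hA + hB
    · simp only [mul_e00, mul_e01, mul_e10, mul_e11, inv_e00, inv_e01, inv_e10, inv_e11, w0,
        mk_e00, mk_e01, mk_e10, mk_e11]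
      linear_combination -hA - hB
  · rintro ⟨k, ⟨h1, h2⟩, rfl⟩
    constructor
    · rw [tr_eq]
      simp only [mul_e00, mul_e01, mul_e10, mul_e11, w0, mk_e00, mk_e01, mk_e10, mk_e11]
      linear_combination h1 + h2
    · simp only [mul_e00, mul_e01, mul_e10, mul_e11, w0, mk_e00, mk_e01, mk_e10, mk_e11]
      linear_combination h2 - h1

theorem invBC_eq (h2 : (2 : F) ≠ 0) :
    (invB ∩ invC : Set SL2) = (Subgroup.center SL2 : Set SL2) := by
  ext h
  simp only [invB, invC, Set.mem_inter_iff, Set.mem_setOf_eq, SetLike.mem_coe]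
  rw [center_iff_entries]
  constructor
  · rintro ⟨hB, h00, h01⟩
    have h10 : h.1 1 0 = 0 := by
      have : 2 * h.1 1 0 = 0 := by linear_combination h01 - hB
      exact (mul_eq_zero.mp this).resolve_left h2
    exact ⟨h10, by rw [hB, h10], h00⟩
  · rintro ⟨h10, h01, h00⟩
    exact ⟨by rw [h10, h01], h00, by rw [h10, h01, neg_zero]⟩

theorem invAC_eq (h2 : (2 : F) ≠ 0) :
    (invA ∩ invC : Set SL2) = (fun z => wS * z) '' (Subgroup.center SL2 : Set SL2) := by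
  ext h
  simp only [invA, invC, Set.mem_inter_iff, Set.mem_setOf_eq, Set.mem_image, SetLike.mem_coe]
  constructor
  · rintro ⟨hA, h00, h01⟩
    rw [tr_eq] at hA
    have h0 : h.1 0 0 = 0 := by
      have : 2 * h.1 0 0 = 0 := by linear_combination hA + h00
      exact (mul_eq_zero.mp this).resolve_left h2
    have h1 : h.1 1 1 = 0 := by rw [← h00, h0]
    refine ⟨wS⁻¹ * h, ?_, by group⟩
    rw [center_iff_entries]
    simp only [mul_e00, mul_e01, mul_e10, mul_e11, inv_e00, inv_e01, inv_e10, inv_e11,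
      wS_e00, wS_e01, wS_e10, wS_e11, h0, h1]
    refine ⟨by ring, by ring, ?_⟩
    linear_combination -h01
  · rintro ⟨z, hz, rfl⟩
    rw [center_iff_entries] at hz
    obtain ⟨z10, z01, z00⟩ := hz
    rw [tr_eq]
    simp only [mul_e00, mul_e01, mul_e10, mul_e11, wS_e00, wS_e01, wS_e10, wS_e11, z10, z01, z00]
    refine ⟨by ring, by ring, by ring⟩

theorem invABC_empty (h2 : (2 : F) ≠ 0) (h : SL2) (hA : h ∈ (invA : Set SL2))
    (hB : h ∈ (invB : Set SL2)) (hC : h ∈ (invC : Set SL2)) : False := by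
  have hA' : tr h = 0 := hA
  have hB' : h.1 0 1 = h.1 1 0 := hB
  obtain ⟨h00, h01⟩ : h.1 0 0 = h.1 1 1 ∧ h.1 0 1 = -h.1 1 0 := hC
  rw [tr_eq] at hA'
  have hd := sl2_det h
  have h0 : h.1 0 0 = 0 := by
    have : 2 * h.1 0 0 = 0 := by linear_combination hA' + h00
    exact (mul_eq_zero.mp this).resolve_left h2
  have h10 : h.1 1 0 = 0 := by
    have : 2 * h.1 1 0 = 0 := by linear_combination h01 - hB'
    exact (mul_eq_zero.mp this).resolve_left h2
  rw [h0, h10] at hd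
  simp at hd

/-- the parametrisation of `invD`. -/
def dmk (ε t : F) (k : SL2) (hε : ε ^ 2 = 1) (ht : t ^ 2 = 1) (hk : k ∈ (invC : Set SL2)) : SL2 :=
  mkSL (k.1 0 0 - ε) (-k.1 0 1 - t) (t - k.1 0 1) (-k.1 0 0 - ε) (by
    have hd := sl2_det k
    obtain ⟨h00, h01⟩ : k.1 0 0 = k.1 1 1 ∧ k.1 0 1 = -k.1 1 0 := hk
    linear_combination -hd - k.1 0 0 * h00 - k.1 0 1 * h01 + hε + ht)

theorem dmk_e00 (ε t : F) (k : SL2) (hε : ε ^ 2 = 1) (ht : t ^ 2 = 1)
    (hk : k ∈ (invC : Set SL2)) : (dmk ε t k hε ht hk).1 0 0 = k.1 0 0 - ε := rfl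
theorem dmk_e01 (ε t : F) (k : SL2) (hε : ε ^ 2 = 1) (ht : t ^ 2 = 1)
    (hk : k ∈ (invC : Set SL2)) : (dmk ε t k hε ht hk).1 0 1 = -k.1 0 1 - t := rfl
theorem dmk_e10 (ε t : F) (k : SL2) (hε : ε ^ 2 = 1) (ht : t ^ 2 = 1)
    (hk : k ∈ (invC : Set SL2)) : (dmk ε t k hε ht hk).1 1 0 = t - k.1 0 1 := rfl
theorem dmk_e11 (ε t : F) (k : SL2) (hε : ε ^ 2 = 1) (ht : t ^ 2 = 1)
    (hk : k ∈ (invC : Set SL2)) : (dmk ε t k hε ht hk).1 1 1 = -k.1 0 0 - ε := rfl

theorem dmk_mem (h3 : (3 : F) = 0) (ε t : F) (k : SL2) (hε : ε ^ 2 = 1) (ht : t ^ 2 = 1)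
    (hk : k ∈ (invC : Set SL2)) : dmk ε t k hε ht hk ∈ (invD : Set SL2) := by
  have hd := sl2_det k
  have hk' : k.1 0 0 = k.1 1 1 ∧ k.1 0 1 = -k.1 1 0 := hk
  obtain ⟨h00, h01⟩ := hk'
  show tr (dmk ε t k hε ht hk) ^ 2 = 1 ∧ _
  rw [tr_eq]
  simp only [dmk, mk_e00, mk_e01, mk_e10, mk_e11]
  constructor
  · linear_combination 4 * hε + h3
  · linear_combination 2 * hd + 2 * k.1 0 0 * h00 + 2 * k.1 0 1 * h01 + 2 * hε + 2 * ht +
      2 * h3

theorem ncard_invD (h3 : (3 : F) = 0) [Finite F] :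
    (invD : Set SL2).ncard = 4 * (invC : Set SL2).ncard := by
  have h2 := two_ne_zero_of_three h3
  rw [← Nat.card_coe_set_eq, ← Nat.card_coe_set_eq]
  have e : Nat.card ({ε : F // ε ^ 2 = 1} × {ε : F // ε ^ 2 = 1} × ↥(invC : Set SL2)) =
      Nat.card ↥(invD : Set SL2) := by
    apply Nat.card_congr
    refine Equiv.ofBijective (fun x : {ε : F // ε ^ 2 = 1} × {ε : F // ε ^ 2 = 1} ×
      ↥(invC : Set SL2) => (⟨dmk x.1.1 x.2.1.1 x.2.2.1 x.1.2 x.2.1.2 x.2.2.2,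
        dmk_mem h3 x.1.1 x.2.1.1 x.2.2.1 x.1.2 x.2.1.2 x.2.2.2⟩ : ↥(invD : Set SL2))) ⟨?_, ?_⟩
    · rintro ⟨⟨ε, hε⟩, ⟨t, ht⟩, ⟨k, hk⟩⟩ ⟨⟨ε', hε'⟩, ⟨t', ht'⟩, ⟨k', hk'⟩⟩ hxy
      have hxy' : dmk ε t k hε ht hk = dmk ε' t' k' hε' ht' hk' := congrArg Subtype.val hxy
      have e00 := congrArg (fun g : SL2 => g.1 0 0) hxy'
      have e01 := congrArg (fun g : SL2 => g.1 0 1) hxy'
      have e10 := congrArg (fun g : SL2 => g.1 1 0) hxy'
      have e11 := congrArg (fun g : SL2 => g.1 1 1) hxy'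
      simp only [dmk, mk_e00, mk_e01, mk_e10, mk_e11] at e00 e01 e10 e11
      have hk00 : k.1 0 0 = k'.1 0 0 := by
        have : 2 * (k.1 0 0 - k'.1 0 0) = 0 := by linear_combination e00 - e11
        exact sub_eq_zero.mp ((mul_eq_zero.mp this).resolve_left h2)
      have hk01 : k.1 0 1 = k'.1 0 1 := by
        have : 2 * (k.1 0 1 - k'.1 0 1) = 0 := by linear_combination -e01 - e10
        exact sub_eq_zero.mp ((mul_eq_zero.mp this).resolve_left h2)
      have hεε : ε = ε' := by linear_combination hk00 - e00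
      have htt : t = t' := by linear_combination e10 + hk01
      obtain ⟨a00, a01⟩ : k.1 0 0 = k.1 1 1 ∧ k.1 0 1 = -k.1 1 0 := hk
      obtain ⟨b00, b01⟩ : k'.1 0 0 = k'.1 1 1 ∧ k'.1 0 1 = -k'.1 1 0 := hk'
      have hkk : k = k' := by
        apply sl_ext hk00 hk01
        · linear_combination a01 - b01 - hk01
        · linear_combination hk00 - a00 + b00
      subst hεε htt hkk
      rfl
    · rintro ⟨h, hτ, hss⟩
      have hd := sl2_det h
      rw [tr_eq] at hτ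
      have ht : (h.1 0 1 - h.1 1 0) ^ 2 = 1 := by
        linear_combination hss - hτ + 2 * hd
      have hX : (h.1 0 0 + tr h) * (h.1 0 0 + tr h) - (h.1 0 1 + h.1 1 0) *
          (-(h.1 0 1 + h.1 1 0)) = 1 := by
        rw [tr_eq]
        linear_combination hss + (-2) * hd + (h.1 0 0 ^ 2 + 2 * h.1 0 0 * h.1 1 1 - 1) * h3
      obtain ⟨k, k00, k01, k10, k11⟩ : ∃ k : SL2, k.1 0 0 = h.1 0 0 + tr h ∧
          k.1 0 1 = h.1 0 1 + h.1 1 0 ∧ k.1 1 0 = -(h.1 0 1 + h.1 1 0) ∧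
          k.1 1 1 = h.1 0 0 + tr h :=
        ⟨mkSL (h.1 0 0 + tr h) (h.1 0 1 + h.1 1 0) (-(h.1 0 1 + h.1 1 0)) (h.1 0 0 + tr h) hX,
          rfl, rfl, rfl, rfl⟩
      have hk : k ∈ (invC : Set SL2) := by
        show k.1 0 0 = k.1 1 1 ∧ k.1 0 1 = -k.1 1 0
        rw [k00, k01, k10, k11, neg_neg]
        exact ⟨rfl, rfl⟩
      have hε' : tr h ^ 2 = 1 := by rw [tr_eq]; exact hτ
      refine ⟨(⟨tr h, hε'⟩, ⟨h.1 0 1 - h.1 1 0, ht⟩, ⟨k, hk⟩), ?_⟩
      apply Subtype.ext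
      show dmk (tr h) (h.1 0 1 - h.1 1 0) k hε' ht hk = h
      apply sl_ext
      · rw [dmk_e00, k00]; ring
      · rw [dmk_e01, k01]
        linear_combination (-h.1 0 1) * h3
      · rw [dmk_e10, k01]
        linear_combination (-h.1 1 0) * h3
      · rw [dmk_e11, k00, tr_eq]
        linear_combination (-(h.1 0 0 + h.1 1 1)) * h3
  rw [← e, Nat.card_prod, Nat.card_prod, card_sgn h2]
  ring

theorem invD_disj (h3 : (3 : F) = 0) (h : SL2) (hD : h ∈ (invD : Set SL2)) :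
    h ∉ (invA : Set SL2) ∧ h ∉ (invB : Set SL2) ∧ h ∉ (invC : Set SL2) := by
  have h2 := two_ne_zero_of_three h3
  obtain ⟨hτ, hss⟩ : tr h ^ 2 = 1 ∧ h.1 0 0 ^ 2 + h.1 0 1 ^ 2 + h.1 1 0 ^ 2 + h.1 1 1 ^ 2 = 0 := hD
  have hd := sl2_det h
  refine ⟨?_, ?_, ?_⟩
  · intro hA
    have hA' : tr h = 0 := hA
    rw [hA'] at hτ
    simp at hτ
  · intro hB
    have hB' : h.1 0 1 = h.1 1 0 := hB
    rw [tr_eq] at hτ
    have ht : (h.1 0 1 - h.1 1 0) ^ 2 = 1 := by
      linear_combination hss - hτ + 2 * hd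
    rw [hB', sub_self] at ht
    simp at ht
  · intro hC
    obtain ⟨h00, h01⟩ : h.1 0 0 = h.1 1 1 ∧ h.1 0 1 = -h.1 1 0 := hC
    apply h2
    linear_combination -2 * hd + hss - (h.1 0 0 - h.1 1 1) * h00 - (h.1 0 1 + h.1 1 0) * h01

end Cfsg.Agent.Helper41.Dk
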