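import Cfsg.Agent.Helper41.DkSol3e

set_option autoImplicit false

/-!
# Solubilizers in `PSL₂(3^p)`: total counts of the lifted solubilizers (helper41)
-/

namespace Cfsg.Agent.Helper41.Dk

open Cfsg.Agent.Helper41 Matrix

variable {F : Type*} [Field F]

local notation "SL2" => Matrix.SpecialLinearGroup (Fin 2) F

theorem card_center_three [Fintype F] (p : ℕ) (hF : Fintype.card F = 3 ^ p) :
    Nat.card (Subgroup.center SL2) = 2 := by
  haveI : CharP F 3 := charP_three p hF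
  haveI : Fact (Nat.Prime 3) := ⟨Nat.prime_three⟩
  rw [card_center_gcd 3, hF]
  have hodd : Odd (3 ^ p) := Odd.pow (by decide)
  obtain ⟨k, hk⟩ := hodd
  rw [hk, Nat.add_sub_cancel]
  exact Nat.gcd_eq_left (Dvd.intro k rfl)

theorem ncard_center_three [Fintype F] (p : ℕ) (hF : Fintype.card F = 3 ^ p) :
    (Subgroup.center SL2 : Set SL2).ncard = 2 := by
  rw [← Nat.card_coe_set_eq]
  exact card_center_three p hF

/-- the number of elements in the lifted solubilizer of an involution. -/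
theorem card_invol_total [Fintype F] (p : ℕ) (hodd : Odd p)
    (hF : Fintype.card F = 3 ^ p) :
    Nat.card {h : SL2 // tr h = 0 ∨ h.1 0 1 = h.1 1 0 ∨
      (h.1 0 0 = h.1 1 1 ∧ h.1 0 1 = -h.1 1 0) ∨
      (tr h ^ 2 = 1 ∧ h.1 0 0 ^ 2 + h.1 0 1 ^ 2 + h.1 1 0 ^ 2 + h.1 1 1 ^ 2 = 0)} =
      2 * (3 ^ p * (3 ^ p + 1)) := by
  have h3 := char_three p hF
  have h2 := two_ne_zero_of_three h3
  have hns := neg_one_nonsq p hodd hF
  show Nat.card ↥{h : SL2 | tr h = 0 ∨ h.1 0 1 = h.1 1 0 ∨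
      (h.1 0 0 = h.1 1 1 ∧ h.1 0 1 = -h.1 1 0) ∨
      (tr h ^ 2 = 1 ∧ h.1 0 0 ^ 2 + h.1 0 1 ^ 2 + h.1 1 0 ^ 2 + h.1 1 1 ^ 2 = 0)} = _
  rw [Nat.card_coe_set_eq]
  have hset : {h : SL2 | tr h = 0 ∨ h.1 0 1 = h.1 1 0 ∨
      (h.1 0 0 = h.1 1 1 ∧ h.1 0 1 = -h.1 1 0) ∨
      (tr h ^ 2 = 1 ∧ h.1 0 0 ^ 2 + h.1 0 1 ^ 2 + h.1 1 0 ^ 2 + h.1 1 1 ^ 2 = 0)} =
      ((invA ∪ invB) ∪ invC) ∪ invD := by
    ext h
    simp only [Set.mem_union, invA, invB, invC, invD, Set.mem_setOf_eq]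
    tauto
  rw [hset]
  have d1 : Disjoint (((invA ∪ invB) ∪ invC : Set SL2)) invD := by
    rw [Set.disjoint_left]
    intro h hABC hD
    obtain ⟨n1, n2, n3⟩ := invD_disj h3 h hD
    rcases hABC with (hA | hB) | hC
    · exact n1 hA
    · exact n2 hB
    · exact n3 hC
  rw [Set.ncard_union_eq d1]
  have e1 := Set.ncard_union_add_ncard_inter (invA ∪ invB : Set SL2) invC
  have e2 := Set.ncard_union_add_ncard_inter (invA : Set SL2) invB
  have e3 : (((invA ∪ invB) ∩ invC : Set SL2)).ncard = 4 := by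
    have d2 : Disjoint ((invA ∩ invC : Set SL2)) (invB ∩ invC) := by
      rw [Set.disjoint_left]
      intro h hAC hBC
      exact invABC_empty h2 h hAC.1 hBC.1 hAC.2
    rw [Set.union_inter_distrib_right, Set.ncard_union_eq d2, invAC_eq h2, invBC_eq h2,
      Set.ncard_image_of_injective _ (mul_right_injective _), ncard_center_three p hF]
  rw [ncard_invA hns, ncard_invB hns, invAB_eq h3,
    Set.ncard_image_of_injective _ (mul_right_injective _), ncard_invC p hodd hF] at e2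
  rw [e3, ncard_invC p hodd hF] at e1
  rw [ncard_invD h3, ncard_invC p hodd hF]
  obtain ⟨m, hm⟩ : ∃ m, 3 ^ p = m + 1 :=
    ⟨3 ^ p - 1, by have := Nat.one_le_pow p 3 (by norm_num); omega⟩
  rw [hF, hm] at e1 e2 ⊢
  rw [Nat.add_sub_cancel] at e2
  have h5 : (m + 1) * (m + 1 + 1) = (m + 1) * m + 2 * (m + 1) := by ring
  rw [h5]
  generalize (m + 1) * m = P at e2 ⊢
  omega

/-- the number of elements in the lifted solubilizer of a unipotent element. -/
theorem card_unip_total [Fintype F] (p : ℕ) (hF : Fintype.card F = 3 ^ p) (β : F) (hβ : β ≠ 0) :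
    Nat.card {h : SL2 // h.1 1 0 = 0 ∨ ((β * h.1 1 0) ^ 2 = 1 ∧ tr h ^ 3 = tr h)} =
      3 ^ p * (3 ^ p + 5) := by
  classical
  have h3 := char_three p hF
  have h2 := two_ne_zero_of_three h3
  show Nat.card ↥{h : SL2 | h.1 1 0 = 0 ∨ ((β * h.1 1 0) ^ 2 = 1 ∧ tr h ^ 3 = tr h)} = _
  rw [Nat.card_coe_set_eq]
  have hset : {h : SL2 | h.1 1 0 = 0 ∨ ((β * h.1 1 0) ^ 2 = 1 ∧ tr h ^ 3 = tr h)} =
      ((Bor : Subgroup SL2) : Set SL2) ∪ {h : SL2 | (β * h.1 1 0) ^ 2 = 1 ∧ tr h ^ 3 = tr h} := by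
    ext h
    simp only [Set.mem_union, Set.mem_setOf_eq, SetLike.mem_coe, mem_Bor]
  rw [hset]
  have d1 : Disjoint (((Bor : Subgroup SL2) : Set SL2))
      {h : SL2 | (β * h.1 1 0) ^ 2 = 1 ∧ tr h ^ 3 = tr h} := by
    rw [Set.disjoint_left]
    intro h hB hT
    have hB' : h.1 1 0 = 0 := hB
    have hT' : (β * h.1 1 0) ^ 2 = 1 := hT.1
    rw [hB'] at hT'
    simp at hT'
  rw [Set.ncard_union_eq d1]
  have eB : (((Bor : Subgroup SL2) : Set SL2)).ncard = Fintype.card F * (Fintype.card F - 1) := by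
    rw [← card_Bor]
    exact (Nat.card_coe_set_eq _).symm
  have c2 : Nat.card {c : F // (β * c) ^ 2 = 1} = 2 := by
    exact (Nat.card_congr (Equiv.subtypeEquiv (Equiv.mulLeft₀ β hβ) (fun c => Iff.rfl))).trans
      (card_sgn h2)
  have c3 : Nat.card {τ : F // τ ^ 3 = τ} = 3 := by
    have e : {τ : F | τ ^ 3 = τ} = {0, 1, -1} := by
      ext x
      simp only [Set.mem_setOf_eq, Set.mem_insert_iff, Set.mem_singleton_iff]
      constructor
      · intro h
        have h1 : x * ((x - 1) * (x + 1)) = 0 := by linear_combination h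
        rcases mul_eq_zero.mp h1 with h0 | h0
        · left; exact h0
        · rcases mul_eq_zero.mp h0 with h0 | h0
          · right; left; linear_combination h0
          · right; right; linear_combination h0
      · rintro (rfl | rfl | rfl) <;> ring
    show Nat.card ↥{τ : F | τ ^ 3 = τ} = 3
    rw [Nat.card_coe_set_eq, e, Set.ncard_insert_of_notMem, Set.ncard_pair]
    · intro h
      apply h2
      linear_combination h
    · simp only [Set.mem_insert_iff, Set.mem_singleton_iff, not_or]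
      refine ⟨zero_ne_one, ?_⟩
      intro h
      have : (1 : F) = 0 := by linear_combination h
      exact one_ne_zero this
  have hc : ∀ h : SL2, (β * h.1 1 0) ^ 2 = 1 → h.1 1 0 ≠ 0 := by
    intro h hh h0
    rw [h0] at hh
    simp at hh
  have eT : ({h : SL2 | (β * h.1 1 0) ^ 2 = 1 ∧ tr h ^ 3 = tr h}).ncard = 6 * Fintype.card F := by
    rw [← Nat.card_coe_set_eq]
    have e : Nat.card ↥{h : SL2 | (β * h.1 1 0) ^ 2 = 1 ∧ tr h ^ 3 = tr h} =
        Nat.card ({c : F // (β * c) ^ 2 = 1} × {τ : F // τ ^ 3 = τ} × F) := by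
      apply Nat.card_congr
      refine Equiv.ofBijective (fun h : ↥{h : SL2 | (β * h.1 1 0) ^ 2 = 1 ∧ tr h ^ 3 = tr h} =>
        ((⟨h.1.1 1 0, h.2.1⟩, ⟨tr h.1, h.2.2⟩, h.1.1 0 0) :
          {c : F // (β * c) ^ 2 = 1} × {τ : F // τ ^ 3 = τ} × F)) ⟨?_, ?_⟩
      · intro a b hab
        have h10 : a.1.1 1 0 = b.1.1 1 0 := congrArg
          (fun x : {c : F // (β * c) ^ 2 = 1} × {τ : F // τ ^ 3 = τ} × F => (x.1 : F)) hab
        have htr : tr a.1 = tr b.1 := congrArg
          (fun x : {c : F // (β * c) ^ 2 = 1} × {τ : F // τ ^ 3 = τ} × F => (x.2.1 : F)) hab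
        have h00 : a.1.1 0 0 = b.1.1 0 0 := congrArg
          (fun x : {c : F // (β * c) ^ 2 = 1} × {τ : F // τ ^ 3 = τ} × F => x.2.2) hab
        rw [tr_eq, tr_eq] at htr
        have h11 : a.1.1 1 1 = b.1.1 1 1 := by linear_combination htr - h00
        have ha := sl2_det a.1
        have hb := sl2_det b.1
        apply Subtype.ext
        apply sl_ext h00 _ h10 h11
        have h5 : a.1.1 1 0 * (a.1.1 0 1 - b.1.1 0 1) = 0 := by
          rw [h00, h11] at ha
          rw [h10] at ha ⊢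
          linear_combination hb - ha
        exact sub_eq_zero.mp ((mul_eq_zero.mp h5).resolve_left (hc a.1 a.2.1))
      · rintro ⟨⟨c, hc2⟩, ⟨τ, hτ⟩, a⟩
        have hc0 : c ≠ 0 := by
          intro h0
          rw [h0] at hc2
          simp at hc2
        have hcc : c⁻¹ * c = 1 := inv_mul_cancel₀ hc0
        obtain ⟨g, hg00, hg10, hg11⟩ : ∃ g : SL2, g.1 0 0 = a ∧ g.1 1 0 = c ∧ g.1 1 1 = τ - a :=
          ⟨mkSL a ((a * (τ - a) - 1) * c⁻¹) c (τ - a)
            (by linear_combination (-(a * (τ - a) - 1)) * hcc),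
            by rw [mk_e00], by rw [mk_e10], by rw [mk_e11]⟩
        have hgtr : tr g = τ := by rw [tr_eq, hg00, hg11]; ring
        refine ⟨⟨g, ?_, ?_⟩, ?_⟩
        · rw [hg10]; exact hc2
        · rw [hgtr]; exact hτ
        · apply Prod.ext
          · exact Subtype.ext hg10
          · apply Prod.ext
            · exact Subtype.ext hgtr
            · exact hg00
    rw [e, Nat.card_prod, Nat.card_prod, c2, c3, Nat.card_eq_fintype_card]
    ring
  rw [eB, eT, hF]
  obtain ⟨m, hm⟩ : ∃ m, 3 ^ p = m + 1 :=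
    ⟨3 ^ p - 1, by have := Nat.one_le_pow p 3 (by norm_num); omega⟩
  rw [hm, Nat.add_sub_cancel]
  ring

/-- the number of elements in the lifted solubilizer of a split semisimple element. -/
theorem card_split_total [Fintype F] :
    Nat.card {h : SL2 // h.1 1 0 = 0 ∨ h.1 0 1 = 0 ∨ (h.1 0 0 = 0 ∧ h.1 1 1 = 0)} =
      2 * (Fintype.card F * (Fintype.card F - 1)) := by
  classical
  show Nat.card ↥{h : SL2 | h.1 1 0 = 0 ∨ h.1 0 1 = 0 ∨ (h.1 0 0 = 0 ∧ h.1 1 1 = 0)} = _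
  rw [Nat.card_coe_set_eq]
  have hset : {h : SL2 | h.1 1 0 = 0 ∨ h.1 0 1 = 0 ∨ (h.1 0 0 = 0 ∧ h.1 1 1 = 0)} =
      ({h : SL2 | h.1 1 0 = 0} ∪ {h : SL2 | h.1 0 1 = 0}) ∪
        {h : SL2 | h.1 0 0 = 0 ∧ h.1 1 1 = 0} := by
    ext h
    simp only [Set.mem_union, Set.mem_setOf_eq]
    tauto
  rw [hset]
  have d1 : Disjoint (({h : SL2 | h.1 1 0 = 0} ∪ {h : SL2 | h.1 0 1 = 0}))
      {h : SL2 | h.1 0 0 = 0 ∧ h.1 1 1 = 0} := by
    rw [Set.disjoint_left]
    rintro h (h10 | h01) ⟨h00, h11⟩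
    · have hd := sl2_det h
      rw [show h.1 1 0 = 0 from h10, h00] at hd
      simp at hd
    · have hd := sl2_det h
      rw [show h.1 0 1 = 0 from h01, h00] at hd
      simp at hd
  rw [Set.ncard_union_eq d1]
  have e2 : {h : SL2 | h.1 0 1 = 0} = (fun h => wS * h * wS⁻¹) '' {h : SL2 | h.1 1 0 = 0} := by
    ext h
    simp only [Set.mem_setOf_eq, Set.mem_image]
    constructor
    · intro h01
      refine ⟨wS⁻¹ * h * wS, ?_, by group⟩
      simp only [mul_e00, mul_e01, mul_e10, mul_e11, inv_e00, inv_e01, inv_e10, inv_e11,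
        wS_e00, wS_e01, wS_e10, wS_e11, h01]
      ring
    · rintro ⟨k, hk, rfl⟩
      simp only [mul_e00, mul_e01, mul_e10, mul_e11, inv_e00, inv_e01, inv_e10, inv_e11,
        wS_e00, wS_e01, wS_e10, wS_e11, hk]
      ring
  have e3 : {h : SL2 | h.1 0 0 = 0 ∧ h.1 1 1 = 0} =
      (fun h => wS * h) '' ({h : SL2 | h.1 1 0 = 0} ∩ {h : SL2 | h.1 0 1 = 0}) := by
    ext h
    simp only [Set.mem_setOf_eq, Set.mem_image, Set.mem_inter_iff]
    constructor
    · rintro ⟨h00, h11⟩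
      refine ⟨wS⁻¹ * h, ⟨?_, ?_⟩, by group⟩
      · simp only [mul_e00, mul_e01, mul_e10, mul_e11, inv_e00, inv_e01, inv_e10, inv_e11,
          wS_e00, wS_e01, wS_e10, wS_e11, h00]
        ring
      · simp only [mul_e00, mul_e01, mul_e10, mul_e11, inv_e00, inv_e01, inv_e10, inv_e11,
          wS_e00, wS_e01, wS_e10, wS_e11, h11]
        ring
    · rintro ⟨k, ⟨k10, k01⟩, rfl⟩
      simp only [mul_e00, mul_e01, mul_e10, mul_e11, wS_e00, wS_e01, wS_e10, wS_e11, k10, k01]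
      exact ⟨by ring, by ring⟩
  have hinj : Function.Injective (fun h : SL2 => wS * h * wS⁻¹) := by
    intro a b hab
    have h1 : wS * a * wS⁻¹ = wS * b * wS⁻¹ := hab
    exact mul_left_cancel (mul_right_cancel h1)
  have eB : ({h : SL2 | h.1 1 0 = 0}).ncard = Fintype.card F * (Fintype.card F - 1) := by
    rw [← card_Bor]
    exact (Nat.card_coe_set_eq _).symm
  have e1 := Set.ncard_union_add_ncard_inter {h : SL2 | h.1 1 0 = 0} {h : SL2 | h.1 0 1 = 0}
  rw [e3, Set.ncard_image_of_injective _ (mul_right_injective _), e1, e2,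
    Set.ncard_image_of_injective _ hinj, eB]
  ring

/-- the order of the normaliser of a non-split torus. -/
theorem card_NT_nonsplit [Fintype F] (p : ℕ) (hF : Fintype.card F = 3 ^ p) (g : SL2)
    (hns : ∀ ρ : F, ρ ^ 2 - tr g * ρ + 1 ≠ 0) (hg2 : g * g ∉ Subgroup.center SL2) :
    Nat.card (NT g) = 2 * (3 ^ p + 1) := by
  haveI : CharP F 3 := charP_three p hF
  haveI : Fact (Nat.Prime 3) := ⟨Nat.prime_three⟩
  have hgZ : g ∉ Subgroup.center SL2 := fun hc => hg2 (Subgroup.mul_mem _ hc hc)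
  have ht : tr g ^ 2 ≠ 4 := by
    intro h4
    have h5 : (tr g - 2) * (tr g + 2) = 0 := by linear_combination h4
    rcases mul_eq_zero.mp h5 with h6 | h6
    · exact hns 1 (by linear_combination -h6)
    · exact hns (-1) (by linear_combination h6)
  have hns' : ∀ ρ : F, ρ ^ 2 + tr g * ρ + 1 ≠ 0 := fun ρ h => hns (-ρ) (by linear_combination h)
  obtain ⟨w, hw⟩ := exists_inv_nonsplit 3 g hgZ ht hns'
  rw [card_NT_of_inv g w hw (fun h1 => hg2 (by rw [h1]; exact Subgroup.one_mem _)),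
    card_cen_nonsplit 3 g hgZ ht hns', hF]

end Cfsg.Agent.Helper41.Dk
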