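import Cfsg.Agent.Helper41.DkSol3f

set_option autoImplicit false

/-!
# Solubilizers in `PSL₂(3^p)`: the four counts (helper41)

`sol_card_invol`, `sol_card_three`, `sol_card_split`, `sol_card_nonsplit`: the sizes of the
solubilizers of `pmk g` in `PSL₂(F)`, `|F| = 3^p`, `p` an odd prime.
-/

namespace Cfsg.Agent.Helper41.Dk

open Cfsg.Agent.Helper41 Matrix

variable {F : Type*} [Field F]

local notation "SL2" => Matrix.SpecialLinearGroup (Fin 2) F
local notation "PSL2" => Matrix.ProjectiveSpecialLinearGroup (Fin 2) F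

theorem pmk_sq_iff (g : SL2) : pmk g ^ 2 = 1 ↔ g * g ∈ Subgroup.center SL2 := by
  rw [pow_two]
  exact QuotientGroup.eq_one_iff (g * g)

theorem pmk_cube_iff (g : SL2) : pmk g ^ 3 = 1 ↔ g * g * g ∈ Subgroup.center SL2 := by
  rw [pow_three']
  exact QuotientGroup.eq_one_iff (g * g * g)

theorem pmk_ne_one_iff (g : SL2) : pmk g ≠ 1 ↔ g ∉ Subgroup.center SL2 :=
  not_congr (QuotientGroup.eq_one_iff g)

/-- transfer of the count from the lifted solubilizer. -/
theorem card_sol_of_lift [Fintype F] (p : ℕ) (hF : Fintype.card F = 3 ^ p) (g : SL2)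
    (P : SL2 → Prop)
    (hP : ∀ h : SL2, Group.IsSolvable (Subgroup.closure ({pmk g, pmk h} : Set PSL2)) ↔ P h)
    (n : ℕ) (hn : Nat.card {h : SL2 // P h} = n) :
    2 * Nat.card {y : PSL2 // Group.IsSolvable (Subgroup.closure ({pmk g, y} : Set PSL2))} = n := by
  have h1 := card_lift_quot (Subgroup.center SL2)
    (fun y : PSL2 => Group.IsSolvable (Subgroup.closure ({pmk g, y} : Set PSL2)))
  rw [card_center_three p hF] at h1
  rw [← h1, ← hn]
  exact Nat.card_congr (Equiv.subtypeEquivRight hP)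

theorem card_sol_conj (U g : SL2) :
    Nat.card {y : PSL2 // Group.IsSolvable (Subgroup.closure
      ({pmk (U * g * U⁻¹), y} : Set PSL2))} =
    Nat.card {y : PSL2 // Group.IsSolvable (Subgroup.closure ({pmk g, y} : Set PSL2))} :=
  card_sol_equiv (MulAut.conj (pmk U)) (pmk g)

theorem conj_center_iff (U k : SL2) :
    U * k * U⁻¹ ∈ Subgroup.center SL2 ↔ k ∈ Subgroup.center SL2 := by
  constructor
  · intro h
    have h1 := Subgroup.Normal.conj_mem (inferInstance : (Subgroup.center SL2).Normal) _ h U⁻¹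
    rw [inv_inv] at h1
    rw [show U⁻¹ * (U * k * U⁻¹) * U = k by group] at h1
    exact h1
  · intro h
    exact Subgroup.Normal.conj_mem (inferInstance : (Subgroup.center SL2).Normal) _ h U

theorem three_dvd_aux (p : ℕ) (hp : p.Prime) (n : ℕ) (h3 : n ∣ 3)
    (hn : n ∣ 3 ^ p + 1 ∨ n ∣ 3 ^ p - 1) : n = 1 := by
  rcases (Nat.dvd_prime Nat.prime_three).mp h3 with h1 | h1
  · exact h1
  · exfalso
    rw [h1] at hn
    have h4 : 3 ∣ 3 ^ p := dvd_pow_self 3 hp.ne_zero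
    have h5 : 1 ≤ 3 ^ p := Nat.one_le_pow p 3 (by norm_num)
    rcases hn with h6 | h6 <;> omega

theorem two_dvd_aux (p : ℕ) (n : ℕ) (h1 : n ∣ 3 ^ p + 1) (h2 : n ∣ 3 ^ p - 1) : n ∣ 2 := by
  have h5 : 1 ≤ 3 ^ p := Nat.one_le_pow p 3 (by norm_num)
  have h3 := Nat.dvd_sub h1 h2
  have e : 3 ^ p + 1 - (3 ^ p - 1) = 2 := by omega
  rw [e] at h3
  exact h3

theorem exists_conj_Ux (g : SL2) (ht : tr g = 2) (hgZ : g ∉ Subgroup.center SL2) :
    ∃ (Q : SL2) (β : F), β ≠ 0 ∧ Q * Ux β * Q⁻¹ = g := by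
  have hd := sl2_det g
  have ht' := ht
  rw [tr_eq] at ht'
  obtain ⟨v, hv, c, hc⟩ : ∃ v : Fin 2 → F, v ≠ 0 ∧ ∃ c : F, g.1 *ᵥ v = c • v := by
    by_cases h10 : g.1 1 0 = 0
    · refine ⟨![1, 0], ?_, g.1 0 0, ?_⟩
      · intro h
        have := congrFun h 0
        simp at this
      · funext i
        fin_cases i
        · simp [Matrix.mulVec, dotProduct, Fin.sum_univ_two]
        · simp [Matrix.mulVec, dotProduct, Fin.sum_univ_two, h10]
    · refine ⟨![g.1 0 0 - 1, g.1 1 0], ?_, 1, ?_⟩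
      · intro h
        have := congrFun h 1
        simp at this
        exact h10 this
      · funext i
        fin_cases i
        · simp [Matrix.mulVec, dotProduct, Fin.sum_univ_two]
          linear_combination -hd + g.1 0 0 * ht'
        · simp [Matrix.mulVec, dotProduct, Fin.sum_univ_two]
          linear_combination g.1 1 0 * ht'
  obtain ⟨Q0, hQ0⟩ := exists_conj_borel v hv
  have hB := mem_Bor.mp (hQ0 g ⟨c, hc⟩)
  obtain ⟨g', hg'⟩ : ∃ g' : SL2, g' = Q0⁻¹ * g * Q0 := ⟨_, rfl⟩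
  rw [← hg'] at hB
  have htr' : tr g' = 2 := by
    have : g' = Q0⁻¹ * g * (Q0⁻¹)⁻¹ := by rw [hg', inv_inv]
    rw [this, tr_conj, ht]
  have hd' := sl2_det g'
  rw [tr_eq] at htr'
  rw [hB] at hd'
  have h00 : g'.1 0 0 = 1 := by
    have : (g'.1 0 0 - 1) ^ 2 = 0 := by linear_combination g'.1 0 0 * htr' - hd'
    exact sub_eq_zero.mp (pow_eq_zero_iff (by norm_num) |>.mp this)
  have h11 : g'.1 1 1 = 1 := by linear_combination htr' - h00
  have hg'U : g' = Ux (g'.1 0 1) := by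
    apply sl_ext
    · rw [Ux_e00, h00]
    · rw [Ux_e01]
    · rw [Ux_e10, hB]
    · rw [Ux_e11, h11]
  refine ⟨Q0, g'.1 0 1, ?_, ?_⟩
  · intro h0
    apply hgZ
    have : g = Q0 * g' * Q0⁻¹ := by rw [hg']; group
    rw [this, conj_center_iff, hg'U, h0, Ux_zero]
    exact Subgroup.one_mem _
  · rw [← hg'U, hg']; group

section main

variable [Fintype F] (p : ℕ) (hp : p.Prime) (hodd : Odd p) (hF : Fintype.card F = 3 ^ p)

include hp hodd hF

/-- basic consequences of `pmk g` having order neither `1` nor `2`. -/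
theorem not_sq_center (g : SL2) (hx1 : pmk g ≠ 1) (ho2 : orderOf (pmk g) ≠ 2) :
    g * g ∉ Subgroup.center SL2 := by
  intro hc
  have h1 : orderOf (pmk g) ∣ 2 := orderOf_dvd_of_pow_eq_one ((pmk_sq_iff g).mpr hc)
  rcases (Nat.dvd_prime Nat.prime_two).mp h1 with h2 | h2
  · exact hx1 (orderOf_eq_one_iff.mp h2)
  · exact ho2 h2

theorem not_cube_center (g : SL2) (hx1 : pmk g ≠ 1)
    (hdvd : orderOf (pmk g) ∣ 3 ^ p + 1 ∨ orderOf (pmk g) ∣ 3 ^ p - 1) :
    g * g * g ∉ Subgroup.center SL2 := by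
  intro hc
  have h1 : orderOf (pmk g) ∣ 3 := orderOf_dvd_of_pow_eq_one ((pmk_cube_iff g).mpr hc)
  exact hx1 (orderOf_eq_one_iff.mp (three_dvd_aux p hp _ h1 hdvd))

/-- a root `ρ = ± 1` of the characteristic polynomial forces `g³` central. -/
theorem root_pm_one (g : SL2) (ρ : F) (hρ : ρ ^ 2 - tr g * ρ + 1 = 0) (h1 : ρ ^ 2 = 1) :
    g * g * g ∈ Subgroup.center SL2 := by
  have h3 := char_three p hF
  apply cube_center_of
  have h4 : tr g = 2 * ρ := by
    linear_combination (-ρ) * hρ + (ρ - tr g) * h1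
  rw [h4]
  linear_combination 4 * h1 + h3

theorem sol_card_nonsplit (g : SL2) (hx1 : pmk g ≠ 1) (ho2 : orderOf (pmk g) ≠ 2)
    (hdvd : orderOf (pmk g) ∣ 3 ^ p + 1) :
    Nat.card {y : PSL2 // Group.IsSolvable (Subgroup.closure ({pmk g, y} : Set PSL2))} =
      3 ^ p + 1 := by
  have hg2 := not_sq_center p hp hodd hF g hx1 ho2
  have hg3 := not_cube_center p hp hodd hF g hx1 (Or.inl hdvd)
  have hns : ∀ ρ : F, ρ ^ 2 - tr g * ρ + 1 ≠ 0 := by
    intro ρ hρ
    by_cases h1 : ρ ^ 2 = 1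
    · exact hg3 (root_pm_one p hp hodd hF g ρ hρ h1)
    · have hρ0 : ρ ≠ 0 := by
        rintro rfl
        simp at hρ
      have h4 := FiniteField.pow_card_sub_one_eq_one ρ hρ0
      have h5 := split_pow_eq g ρ hρ h1 (Fintype.card F - 1) 1 (by ring) h4
      rw [one_smul, hF] at h5
      have h6 : pmk g ^ (3 ^ p - 1) = 1 := (pmk_pow_eq_one_iff g _).mpr (Or.inl h5)
      have h7 := two_dvd_aux p _ hdvd (orderOf_dvd_of_pow_eq_one h6)
      rcases (Nat.dvd_prime Nat.prime_two).mp h7 with h8 | h8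
      · exact hx1 (orderOf_eq_one_iff.mp h8)
      · exact ho2 h8
  have h1 := card_sol_of_lift p hF g (fun h => h ∈ NT g)
    (solt_nonsplit p hp hodd hF g hns hg2 hg3) _ (card_NT_nonsplit p hF g hns hg2)
  omega

theorem sol_card_split (g : SL2) (hx1 : pmk g ≠ 1) (ho2 : orderOf (pmk g) ≠ 2)
    (hdvd : orderOf (pmk g) ∣ 3 ^ p - 1) :
    Nat.card {y : PSL2 // Group.IsSolvable (Subgroup.closure ({pmk g, y} : Set PSL2))} =
      3 ^ p * (3 ^ p - 1) := by
  have h3 := char_three p hF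
  have h2 := two_ne_zero_of_three h3
  have hg2 := not_sq_center p hp hodd hF g hx1 ho2
  have hg3 := not_cube_center p hp hodd hF g hx1 (Or.inr hdvd)
  obtain ⟨ρ, hρ⟩ : ∃ ρ : F, ρ ^ 2 - tr g * ρ + 1 = 0 := by
    by_contra hns
    push Not at hns
    have h5 := (nonsplit_pow g hns).1
    rw [hF] at h5
    have h6 : pmk g ^ (3 ^ p + 1) = 1 := (pmk_pow_eq_one_iff g _).mpr (Or.inl h5)
    have h7 := two_dvd_aux p _ (orderOf_dvd_of_pow_eq_one h6) hdvd
    rcases (Nat.dvd_prime Nat.prime_two).mp h7 with h8 | h8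
    · exact hx1 (orderOf_eq_one_iff.mp h8)
    · exact ho2 h8
  have h1 : ρ ^ 2 ≠ 1 := fun h1 => hg3 (root_pm_one p hp hodd hF g ρ hρ h1)
  have hρ0 : ρ ≠ 0 := by
    rintro rfl
    simp at hρ
  obtain ⟨u, hu⟩ : ∃ u : Fˣ, (u : F) = ρ := ⟨Units.mk0 ρ hρ0, rfl⟩
  have huinv : ((u⁻¹ : Fˣ) : F) = ρ⁻¹ := by rw [Units.val_inv_eq_inv_val, hu]
  have hρρ : ρ * ρ⁻¹ = 1 := mul_inv_cancel₀ hρ0
  have htrD : tr (Dg u : SL2) = ρ + ρ⁻¹ := by
    rw [tr_eq, Dg_e00, Dg_e11, hu, huinv]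
  have htrg : tr g = ρ + ρ⁻¹ := by
    linear_combination (-ρ⁻¹) * hρ + (ρ - tr g) * hρρ
  have hne : ρ - ρ⁻¹ ≠ 0 := by
    intro h0
    apply h1
    linear_combination ρ * h0 + hρρ
  have hDZ : (Dg u : SL2) ∉ Subgroup.center SL2 := by
    rw [center_iff_entries, Dg_e00, Dg_e11, hu, huinv]
    rintro ⟨-, -, h4⟩
    exact hne (sub_eq_zero.mpr h4)
  have hoddF : Fintype.card F % 2 = 1 := by
    rw [hF]
    exact Nat.odd_iff.mp (Odd.pow (by decide))
  obtain ⟨U, hU⟩ := conj_of_trace_eq (Dg u) g ((pmk_ne_one_iff _).mpr hDZ) hx1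
    (by
      show tr g = tr (Dg u : SL2)
      rw [htrg, htrD])
    (fun c _ => norm_univ_odd hoddF _ (by
      show tr (Dg u : SL2) ^ 2 ≠ 4
      rw [htrD]
      intro h4
      apply hne
      have h5 : (ρ - ρ⁻¹) ^ 2 = 0 := by linear_combination h4 - 4 * hρρ
      exact pow_eq_zero_iff (by norm_num) |>.mp h5) c)
  rw [← hU] at hg2 hg3 ⊢
  have hD2 : (Dg u : SL2) * Dg u ∉ Subgroup.center SL2 := by
    intro hc
    apply hg2
    rw [show U * Dg u * U⁻¹ * (U * Dg u * U⁻¹) = U * (Dg u * Dg u) * U⁻¹ by group]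
    exact (conj_center_iff U _).mpr hc
  have hD3 : (Dg u : SL2) * Dg u * Dg u ∉ Subgroup.center SL2 := by
    intro hc
    apply hg3
    rw [show U * Dg u * U⁻¹ * (U * Dg u * U⁻¹) * (U * Dg u * U⁻¹) =
      U * (Dg u * Dg u * Dg u) * U⁻¹ by group]
    exact (conj_center_iff U _).mpr hc
  rw [card_sol_conj]
  have h5 := card_sol_of_lift p hF (Dg u)
    (fun h => h.1 1 0 = 0 ∨ h.1 0 1 = 0 ∨ (h.1 0 0 = 0 ∧ h.1 1 1 = 0))
    (solt_split p hp hodd hF u hD2 hD3) _ card_split_total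
  rw [hF] at h5
  omega

theorem sol_card_three (g : SL2) (ho : orderOf (pmk g) = 3) :
    2 * Nat.card {y : PSL2 // Group.IsSolvable (Subgroup.closure ({pmk g, y} : Set PSL2))} =
      3 ^ p * (3 ^ p + 5) := by
  have h3 := char_three p hF
  have h2 := two_ne_zero_of_three h3
  have hx1 : pmk g ≠ 1 := by
    intro h1
    rw [h1, orderOf_one] at ho
    omega
  have hgZ := (pmk_ne_one_iff g).mp hx1
  have hg3 : g * g * g ∈ Subgroup.center SL2 := by
    have h4 := pow_orderOf_eq_one (pmk g)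
    rw [ho] at h4
    exact (pmk_cube_iff g).mp h4
  have hτ : tr g ^ 2 = 1 := (cube_center g hg3).resolve_left hgZ
  -- replace `g` by a lift of trace `2`
  obtain ⟨g', hpm, htr'⟩ : ∃ g' : SL2, pmk g' = pmk g ∧ tr g' = 2 := by
    have h5 : (tr g - 1) * (tr g + 1) = 0 := by linear_combination hτ
    rcases mul_eq_zero.mp h5 with h6 | h6
    · refine ⟨(wS * wS) * g, ?_, ?_⟩
      · have e1 : pmk ((wS : SL2) * wS) = 1 :=
          (QuotientGroup.eq_one_iff _).mpr (sq_center_of_tr0 (wS : SL2) tr_wS)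
        show pmk (wS * wS) * pmk g = pmk g
        rw [e1, one_mul]
      · rw [tr_eq] at h6 ⊢
        simp only [mul_e00, mul_e01, mul_e10, mul_e11, wS_e00, wS_e01, wS_e10, wS_e11]
        linear_combination -h6 - h3
    · exact ⟨g, rfl, by linear_combination h6 - h3⟩
  rw [← hpm]
  have hg'Z : g' ∉ Subgroup.center SL2 := by
    rw [← pmk_ne_one_iff, hpm]; exact hx1
  obtain ⟨Q, β, hβ, hQ⟩ := exists_conj_Ux g' htr' hg'Z
  rw [← hQ, card_sol_conj]
  exact card_sol_of_lift p hF (Ux β)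
    (fun h => h.1 1 0 = 0 ∨ ((β * h.1 1 0) ^ 2 = 1 ∧ tr h ^ 3 = tr h))
    (solt_unip p hp hodd hF β hβ) _ (card_unip_total p hF β hβ)

theorem sol_card_invol (g : SL2) (ho : orderOf (pmk g) = 2) :
    Nat.card {y : PSL2 // Group.IsSolvable (Subgroup.closure ({pmk g, y} : Set PSL2))} =
      3 ^ p * (3 ^ p + 1) := by
  have h3 := char_three p hF
  have h2 := two_ne_zero_of_three h3
  have hx1 : pmk g ≠ 1 := by
    intro h1
    rw [h1, orderOf_one] at ho
    omega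
  have hgZ := (pmk_ne_one_iff g).mp hx1
  have hg2 : g * g ∈ Subgroup.center SL2 := by
    have h4 := pow_orderOf_eq_one (pmk g)
    rw [ho] at h4
    exact (pmk_sq_iff g).mp h4
  have hτ : tr g = 0 := (sq_center g hg2).resolve_left hgZ
  have hoddF : Fintype.card F % 2 = 1 := by
    rw [hF]
    exact Nat.odd_iff.mp (Odd.pow (by decide))
  obtain ⟨U, hU⟩ := conj_of_trace_eq (wS : SL2) g ((pmk_ne_one_iff _).mpr (wS_not_center h2)) hx1
    (by
      show tr g = tr (wS : SL2)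
      rw [hτ, tr_wS])
    (fun c _ => norm_univ_odd hoddF _ (by
      show tr (wS : SL2) ^ 2 ≠ 4
      rw [tr_wS]
      intro h4
      have : (1 : F) = 0 := by linear_combination -h4 - h3
      exact one_ne_zero this) c)
  rw [← hU, card_sol_conj]
  have h5 := card_sol_of_lift p hF (wS : SL2)
    (fun h => tr h = 0 ∨ h.1 0 1 = h.1 1 0 ∨ (h.1 0 0 = h.1 1 1 ∧ h.1 0 1 = -h.1 1 0) ∨
      (tr h ^ 2 = 1 ∧ h.1 0 0 ^ 2 + h.1 0 1 ^ 2 + h.1 1 0 ^ 2 + h.1 1 1 ^ 2 = 0))
    (solt_invol p hp hodd hF) _ (card_invol_total p hodd hF)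
  omega

end main

end Cfsg.Agent.Helper41.Dk
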