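import Cfsg.Agent.Helper41.DkMax2

set_option autoImplicit false

/-!
# Dickson, part 13: exact orders of tori of `SL₂(q)` and their normalizers
-/

namespace Cfsg.Agent.Helper41.Dk

open Cfsg.Agent.Helper41 Matrix

section general

variable {G : Type*} [Group G]

/-- the elements conjugating `x` to `x` or `x⁻¹`. -/
def NT (x : G) : Subgroup G where
  carrier := {g | g * x * g⁻¹ = x ∨ g * x * g⁻¹ = x⁻¹}
  one_mem' := Or.inl (by group)
  mul_mem' := fun {a b} ha hb => by
    have e : a * b * x * (a * b)⁻¹ = a * (b * x * b⁻¹) * a⁻¹ := by group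
    show a * b * x * (a * b)⁻¹ = x ∨ a * b * x * (a * b)⁻¹ = x⁻¹
    rw [e]
    rcases hb with hb | hb
    · rw [hb]; exact ha
    · rw [hb]
      have e2 : a * x⁻¹ * a⁻¹ = (a * x * a⁻¹)⁻¹ := by group
      rw [e2]
      rcases ha with ha | ha
      · right; rw [ha]
      · left; rw [ha, inv_inv]
  inv_mem' := fun {a} ha => by
    show a⁻¹ * x * a⁻¹⁻¹ = x ∨ a⁻¹ * x * a⁻¹⁻¹ = x⁻¹
    rcases ha with ha | ha
    · left
      calc a⁻¹ * x * a⁻¹⁻¹ = a⁻¹ * (a * x * a⁻¹) * a := by rw [ha, inv_inv]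
        _ = x := by group
    · right
      calc a⁻¹ * x * a⁻¹⁻¹ = a⁻¹ * (a * x * a⁻¹)⁻¹ * a := by rw [ha, inv_inv, inv_inv]
        _ = x⁻¹ := by group

theorem mem_NT {x g : G} : g ∈ NT x ↔ (g * x * g⁻¹ = x ∨ g * x * g⁻¹ = x⁻¹) := Iff.rfl

theorem cen_le_NT (x : G) : cen x ≤ NT x := by
  intro g hg
  left
  have h := (mem_cen.mp hg).eq
  calc g * x * g⁻¹ = x * g * g⁻¹ := by rw [h]
    _ = x := by group

theorem self_mem_NT (x : G) : x ∈ NT x := cen_le_NT x (mem_cen.mpr (Commute.refl x))

theorem conj_of_mem_NT {x g : G} (hg : g ∈ NT x) (hgc : g ∉ cen x) : g * x * g⁻¹ = x⁻¹ := by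
  rcases hg with h | h
  · exfalso
    apply hgc
    rw [mem_cen]
    show g * x = x * g
    calc g * x = g * x * g⁻¹ * g := by group
      _ = x * g := by rw [h]
  · exact h

theorem card_NT_of_inv [Finite G] (x w : G) (hw : w * x * w⁻¹ = x⁻¹) (hx2 : x * x ≠ 1) :
    Nat.card (NT x) = 2 * Nat.card (cen x) := by
  have hwN : w ∈ NT x := Or.inr hw
  have hwc : w ∉ cen x := by
    intro h
    have h1 := (mem_cen.mp h).eq
    apply hx2
    have h2 : w * x * w⁻¹ = x := by
      calc w * x * w⁻¹ = x * w * w⁻¹ := by rw [h1]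
        _ = x := by group
    rw [hw] at h2
    calc x * x = x * x⁻¹ := by rw [h2]
      _ = 1 := mul_inv_cancel x
  have hidx : ((cen x).subgroupOf (NT x)).index = 2 := by
    rw [Subgroup.index_eq_two_iff]
    refine ⟨⟨w, hwN⟩, fun b => ?_⟩
    by_cases hb : b ∈ (cen x).subgroupOf (NT x)
    · refine Or.inr ⟨hb, fun hbw => hwc ?_⟩
      rw [Subgroup.mem_subgroupOf] at hb hbw
      have e : w = (b : G)⁻¹ * ((b : G) * w) := by group
      rw [e]
      exact (cen x).mul_mem ((cen x).inv_mem hb) hbw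
    · refine Or.inl ⟨?_, hb⟩
      rw [Subgroup.mem_subgroupOf] at hb ⊢
      have h1 := conj_of_mem_NT b.2 hb
      rw [mem_cen]
      show (b : G) * w * x = x * ((b : G) * w)
      have e3 : (b : G) * w * x * ((b : G) * w)⁻¹ = x := by
        calc (b : G) * w * x * ((b : G) * w)⁻¹ = (b : G) * (w * x * w⁻¹) * (b : G)⁻¹ := by group
          _ = ((b : G) * x * (b : G)⁻¹)⁻¹ := by rw [hw]; group
          _ = x := by rw [h1, inv_inv]
      calc (b : G) * w * x = (b : G) * w * x * ((b : G) * w)⁻¹ * ((b : G) * w) := by group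
        _ = x * ((b : G) * w) := by rw [e3]
  rw [← Subgroup.index_mul_card ((cen x).subgroupOf (NT x)), hidx,
    Nat.card_congr (Subgroup.subgroupOfEquivOfLe (cen_le_NT x)).toEquiv]

end general

variable {F : Type*} [Field F]

local notation "SL2" => Matrix.SpecialLinearGroup (Fin 2) F

theorem center_le_NT (x : SL2) : Subgroup.center SL2 ≤ NT x := by
  intro z hz
  apply cen_le_NT
  rw [mem_cen]
  exact (Subgroup.mem_center_iff.mp hz x).symm

/-- the norm form of `F[x]`. -/
def nrm (τ α β : F) : F := α ^ 2 + α * β * τ + β ^ 2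

theorem exists_torus_elt (x : SL2) (α β : F) (h : nrm (tr x) α β = 1) :
    ∃ t : SL2, t ∈ cen x ∧ t.1 0 0 = α + β * x.1 0 0 ∧ t.1 0 1 = β * x.1 0 1 ∧
      t.1 1 0 = β * x.1 1 0 ∧ t.1 1 1 = α + β * x.1 1 1 := by
  have hd := sl2_det x
  refine ⟨mkSL (α + β * x.1 0 0) (β * x.1 0 1) (β * x.1 1 0) (α + β * x.1 1 1) ?_, ?_,
    by rw [mk_e00], by rw [mk_e01], by rw [mk_e10], by rw [mk_e11]⟩
  · unfold nrm at h
    rw [tr_eq] at h
    linear_combination h + β ^ 2 * hd
  · rw [mem_cen]
    exact comm_of_coords x _ α β (by rw [mk_e00]) (by rw [mk_e01]) (by rw [mk_e10])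
      (by rw [mk_e11])

/-- the fibres of the norm form are no bigger than the norm-one group. -/
theorem card_fiber_le [Fintype F] (x : SL2) (hx : x ∉ Subgroup.center SL2) (c : F)
    (hc : c ≠ 0) :
    Nat.card {ab : F × F // nrm (tr x) ab.1 ab.2 = c} ≤ Nat.card (cen x) := by
  classical
  by_cases hne : Nonempty {ab : F × F // nrm (tr x) ab.1 ab.2 = c}
  · obtain ⟨⟨⟨α0, β0⟩, h0⟩⟩ := hne
    simp only at h0
    have key : ∀ ab : {ab : F × F // nrm (tr x) ab.1 ab.2 = c}, ∃ t : cen x,
        t.1.1 0 0 = (ab.1.1 * (α0 + β0 * tr x) + ab.1.2 * β0) / c +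
          (ab.1.2 * α0 - ab.1.1 * β0) / c * x.1 0 0 ∧
        t.1.1 0 1 = (ab.1.2 * α0 - ab.1.1 * β0) / c * x.1 0 1 ∧
        t.1.1 1 0 = (ab.1.2 * α0 - ab.1.1 * β0) / c * x.1 1 0 ∧
        t.1.1 1 1 = (ab.1.1 * (α0 + β0 * tr x) + ab.1.2 * β0) / c +
          (ab.1.2 * α0 - ab.1.1 * β0) / c * x.1 1 1 := by
      rintro ⟨⟨α, β⟩, hab⟩
      simp only at hab ⊢
      have h1 : nrm (tr x) ((α * (α0 + β0 * tr x) + β * β0) / c) ((β * α0 - α * β0) / c) = 1 := by
        unfold nrm at h0 hab ⊢
        field_simp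
        rw [← h0]
        have e : α ^ 2 + α * β * tr x + β ^ 2 = α0 ^ 2 + α0 * β0 * tr x + β0 ^ 2 := by
          rw [hab, h0]
        linear_combination (α0 ^ 2 + α0 * β0 * tr x + β0 ^ 2) * e
      obtain ⟨t, ht, t00, t01, t10, t11⟩ := exists_torus_elt x _ _ h1
      exact ⟨⟨t, ht⟩, t00, t01, t10, t11⟩
    choose f hf using key
    apply Nat.card_le_card_of_injective f
    rintro ⟨⟨α, β⟩, hab⟩ ⟨⟨α', β'⟩, hab'⟩ h
    obtain ⟨t00, t01, t10, t11⟩ := hf ⟨⟨α, β⟩, hab⟩
    obtain ⟨s00, s01, s10, s11⟩ := hf ⟨⟨α', β'⟩, hab'⟩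
    rw [h] at t00 t01 t10 t11
    simp only at t00 t01 t10 t11 s00 s01 s10 s11 hab hab'
    obtain ⟨e1, e2⟩ := coords_unique x hx (t00.symm.trans s00) (t01.symm.trans s01)
      (t10.symm.trans s10) (t11.symm.trans s11)
    unfold nrm at h0
    have e1' : α * (α0 + β0 * tr x) + β * β0 = α' * (α0 + β0 * tr x) + β' * β0 := by
      field_simp at e1; linear_combination e1
    have e2' : β * α0 - α * β0 = β' * α0 - α' * β0 := by
      field_simp at e2; linear_combination e2
    have hα : α = α' := by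
      have h3 : (α - α') * c = 0 := by
        rw [← h0]; linear_combination α0 * e1' - β0 * e2'
      exact sub_eq_zero.mp ((mul_eq_zero.mp h3).resolve_right hc)
    have hβ : β = β' := by
      have h3 : (β - β') * c = 0 := by
        rw [← h0]; linear_combination β0 * e1' + (α0 + β0 * tr x) * e2'
      exact sub_eq_zero.mp ((mul_eq_zero.mp h3).resolve_right hc)
    subst hα; subst hβ; rfl
  · rw [not_nonempty_iff] at hne
    rw [Nat.card_of_isEmpty]
    exact Nat.zero_le _

theorem card_nonzero_le [Fintype F] [DecidableEq F] (x : SL2) (hx : x ∉ Subgroup.center SL2) :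
    (Finset.univ.filter (fun ab : F × F => nrm (tr x) ab.1 ab.2 ≠ 0)).card ≤
      (Fintype.card F - 1) * Nat.card (cen x) := by
  have h1 := Finset.card_eq_sum_card_fiberwise (f := fun ab : F × F => nrm (tr x) ab.1 ab.2)
    (s := Finset.univ.filter (fun ab : F × F => nrm (tr x) ab.1 ab.2 ≠ 0))
    (t := Finset.univ.filter (fun c : F => c ≠ 0)) (by
      intro ab hab
      simp only [Finset.coe_filter, Finset.mem_univ, true_and, Set.mem_setOf_eq] at hab ⊢
      exact hab)
  rw [h1]
  have h2 : ∀ c ∈ Finset.univ.filter (fun c : F => c ≠ 0),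
      ((Finset.univ.filter (fun ab : F × F => nrm (tr x) ab.1 ab.2 ≠ 0)).filter
        (fun ab => nrm (tr x) ab.1 ab.2 = c)).card ≤ Nat.card (cen x) := by
    intro c hc
    have hc' : c ≠ 0 := by simpa using hc
    have h3 := card_fiber_le x hx c hc'
    rw [Nat.card_eq_fintype_card, Fintype.card_subtype] at h3
    refine le_trans (Finset.card_le_card ?_) h3
    intro ab hab
    simp only [Finset.mem_filter, Finset.mem_univ, true_and] at hab ⊢
    exact hab.2
  have h4 := Finset.sum_le_card_nsmul _ _ _ h2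
  have h5 : (Finset.univ.filter (fun c : F => c ≠ 0)).card = Fintype.card F - 1 := by
    rw [Finset.filter_ne', Finset.card_erase_of_mem (Finset.mem_univ _), Finset.card_univ]
  rw [h5, smul_eq_mul] at h4
  exact h4

theorem card_zero_le [Fintype F] [DecidableEq F] (τ : F) :
    (Finset.univ.filter (fun ab : F × F => nrm τ ab.1 ab.2 = 0)).card ≤
      2 * (Fintype.card F - 1) + 1 := by
  obtain ⟨R, hR⟩ : ∃ R : Finset F,
      R = Finset.univ.filter (fun ρ : F => ρ ^ 2 + τ * ρ + 1 = 0) := ⟨_, rfl⟩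
  have hR2 : R.card ≤ 2 := by
    by_cases hne : R.Nonempty
    · obtain ⟨ρ1, h1⟩ := hne
      have h1' : ρ1 ^ 2 + τ * ρ1 + 1 = 0 := by rw [hR] at h1; simpa using h1
      have hsub : R ⊆ {ρ1, -τ - ρ1} := by
        intro ρ hρ
        have hρ' : ρ ^ 2 + τ * ρ + 1 = 0 := by rw [hR] at hρ; simpa using hρ
        have h3 : (ρ - ρ1) * (ρ + ρ1 + τ) = 0 := by linear_combination hρ' - h1'
        rw [Finset.mem_insert, Finset.mem_singleton]
        rcases mul_eq_zero.mp h3 with h | h
        · left; exact sub_eq_zero.mp h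
        · right; linear_combination h
      exact (Finset.card_le_card hsub).trans Finset.card_le_two
    · rw [Finset.not_nonempty_iff_eq_empty] at hne
      rw [hne]; simp
  have hsub : Finset.univ.filter (fun ab : F × F => nrm τ ab.1 ab.2 = 0) ⊆
      insert (0, 0) ((R ×ˢ (Finset.univ.erase (0 : F))).image
        (fun rb : F × F => (rb.1 * rb.2, rb.2))) := by
    rintro ⟨α, β⟩ hab
    have hab' : nrm τ α β = 0 := by simpa using hab
    unfold nrm at hab'
    rw [Finset.mem_insert]
    by_cases hβ : β = 0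
    · left
      rw [hβ] at hab'
      have h0 : α = 0 := by
        have h00 : α ^ 2 = 0 := by linear_combination hab'
        exact pow_eq_zero_iff two_ne_zero |>.mp h00
      rw [h0, hβ]
    · right
      rw [Finset.mem_image]
      refine ⟨(α / β, β), ?_, ?_⟩
      · rw [Finset.mem_product, hR]
        refine ⟨?_, by simp [hβ]⟩
        simp only [Finset.mem_filter, Finset.mem_univ, true_and]
        field_simp
        linear_combination hab'
      · simp [hβ]
  calc (Finset.univ.filter (fun ab : F × F => nrm τ ab.1 ab.2 = 0)).card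
      ≤ (insert (0, 0) ((R ×ˢ (Finset.univ.erase (0 : F))).image
        (fun rb : F × F => (rb.1 * rb.2, rb.2)))).card := Finset.card_le_card hsub
    _ ≤ ((R ×ˢ (Finset.univ.erase (0 : F))).image
        (fun rb : F × F => (rb.1 * rb.2, rb.2))).card + 1 := Finset.card_insert_le _ _
    _ ≤ (R ×ˢ (Finset.univ.erase (0 : F))).card + 1 :=
        Nat.add_le_add_right Finset.card_image_le 1
    _ = R.card * (Fintype.card F - 1) + 1 := by
        rw [Finset.card_product, Finset.card_erase_of_mem (Finset.mem_univ _), Finset.card_univ]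
    _ ≤ 2 * (Fintype.card F - 1) + 1 := Nat.add_le_add_right (Nat.mul_le_mul_right _ hR2) 1

/-- the centralizer of a non-central element has at least `q - 1` elements. -/
theorem card_cen_ge [Fintype F] (x : SL2) (hx : x ∉ Subgroup.center SL2) :
    Fintype.card F - 1 ≤ Nat.card (cen x) := by
  classical
  have h1 := card_nonzero_le x hx
  have h2 := card_zero_le (tr x)
  have h3 : (Finset.univ.filter (fun ab : F × F => nrm (tr x) ab.1 ab.2 = 0)).card +
      (Finset.univ.filter (fun ab : F × F => nrm (tr x) ab.1 ab.2 ≠ 0)).card =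
      Fintype.card F * Fintype.card F := by
    have h3' := Finset.card_filter_add_card_filter_not (s := (Finset.univ : Finset (F × F)))
      (fun ab : F × F => nrm (tr x) ab.1 ab.2 = 0)
    rw [Finset.card_univ, Fintype.card_prod] at h3'
    exact h3'
  have hq : 2 ≤ Fintype.card F := Fintype.one_lt_card
  obtain ⟨m, hm⟩ : ∃ m, Fintype.card F = m + 1 := ⟨Fintype.card F - 1, by omega⟩
  rw [hm] at h1 h2 h3 ⊢
  simp only [Nat.add_sub_cancel] at h1 h2 ⊢
  by_contra hlt
  push_neg at hlt
  have h4 : m * Nat.card (cen x) ≤ m * (m - 1) := Nat.mul_le_mul_left m (by omega)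
  have h5 : (m + 1) * (m + 1) = m * (m - 1) + (3 * m + 1) := by
    obtain ⟨k, rfl⟩ : ∃ k, m = k + 1 := ⟨m - 1, by omega⟩
    simp only [Nat.add_sub_cancel]; ring
  omega

/-- the exact order of a torus of `SL₂(q)`. -/
theorem card_cen_cases [Fintype F] (p : ℕ) [Fact p.Prime] [CharP F p] (x : SL2)
    (hx : x ∉ Subgroup.center SL2) (ht : tr x ^ 2 ≠ 4) :
    Nat.card (cen x) = Fintype.card F - 1 ∨ Nat.card (cen x) = Fintype.card F + 1 := by
  have h1 := card_cen_ge x hx
  have hq : 2 ≤ Fintype.card F := Fintype.one_lt_card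
  rcases (torus_cyclic p hx ht).2 with h | h
  · left
    have := Nat.le_of_dvd (by omega) h
    omega
  · obtain ⟨j, hj⟩ := h
    rcases Nat.lt_or_ge j 2 with hj2 | hj2
    · right
      have hj1 : j = 1 := by
        rcases Nat.lt_or_ge j 1 with h0 | h0
        · have : j = 0 := by omega
          rw [this, mul_zero] at hj; omega
        · omega
      rw [hj1, mul_one] at hj; exact hj.symm
    · left
      have h2 : Nat.card (cen x) * 2 ≤ Nat.card (cen x) * j := Nat.mul_le_mul_left _ hj2
      have hq3 : Fintype.card F ≤ 3 := by omega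
      have h3 : Nat.card (cen x) ≤ 2 := by omega
      have h4 : j ≤ 4 := by
        have hc1 : 1 ≤ Nat.card (cen x) := Nat.card_pos
        by_contra hj5
        push_neg at hj5
        have : Nat.card (cen x) * 5 ≤ Nat.card (cen x) * j := Nat.mul_le_mul_left _ hj5
        omega
      obtain ⟨c, hc⟩ : ∃ c, c = Nat.card (cen x) := ⟨_, rfl⟩
      rw [← hc] at h1 h2 h3 hj ⊢
      interval_cases c <;> interval_cases j <;> omega

/-- the order of a non-split torus. -/
theorem card_cen_nonsplit [Fintype F] (p : ℕ) [Fact p.Prime] [CharP F p] (x : SL2)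
    (hx : x ∉ Subgroup.center SL2) (ht : tr x ^ 2 ≠ 4)
    (hns : ∀ ρ : F, ρ ^ 2 + tr x * ρ + 1 ≠ 0) :
    Nat.card (cen x) = Fintype.card F + 1 := by
  classical
  have hq : 2 ≤ Fintype.card F := Fintype.one_lt_card
  have h1 := card_nonzero_le x hx
  have h2 : (Finset.univ.filter (fun ab : F × F => nrm (tr x) ab.1 ab.2 = 0)).card ≤ 1 := by
    have hsub : Finset.univ.filter (fun ab : F × F => nrm (tr x) ab.1 ab.2 = 0) ⊆ {(0, 0)} := by
      rintro ⟨α, β⟩ hab
      have hab' : nrm (tr x) α β = 0 := by simpa using hab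
      unfold nrm at hab'
      rw [Finset.mem_singleton]
      have hβ : β = 0 := by
        by_contra hβ
        apply hns (α / β)
        field_simp
        linear_combination hab'
      rw [hβ] at hab'
      have h0 : α = 0 := by
        have h00 : α ^ 2 = 0 := by linear_combination hab'
        exact pow_eq_zero_iff two_ne_zero |>.mp h00
      rw [h0, hβ]
    exact (Finset.card_le_card hsub).trans (by simp)
  have h3 : (Finset.univ.filter (fun ab : F × F => nrm (tr x) ab.1 ab.2 = 0)).card +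
      (Finset.univ.filter (fun ab : F × F => nrm (tr x) ab.1 ab.2 ≠ 0)).card =
      Fintype.card F * Fintype.card F := by
    have h3' := Finset.card_filter_add_card_filter_not (s := (Finset.univ : Finset (F × F)))
      (fun ab : F × F => nrm (tr x) ab.1 ab.2 = 0)
    rw [Finset.card_univ, Fintype.card_prod] at h3'
    exact h3'
  have h4 : Fintype.card F + 1 ≤ Nat.card (cen x) := by
    obtain ⟨m, hm⟩ : ∃ m, Fintype.card F = m + 1 := ⟨Fintype.card F - 1, by omega⟩
    rw [hm] at h1 h3 ⊢
    simp only [Nat.add_sub_cancel] at h1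
    by_contra hlt
    push_neg at hlt
    have h5 : m * Nat.card (cen x) ≤ m * (m + 1) := Nat.mul_le_mul_left m (by omega)
    have h6 : (m + 1) * (m + 1) = m * (m + 1) + (m + 1) := by ring
    omega
  rcases card_cen_cases p x hx ht with h | h
  · omega
  · exact h


/-- some quadratic `ρ² + τρ + 1` has no root. -/
theorem exists_nonsplit [Finite F] : ∃ τ : F, ∀ ρ : F, ρ ^ 2 + τ * ρ + 1 ≠ 0 := by
  by_contra hcon
  push_neg at hcon
  choose f hf using hcon
  have hf0 : ∀ τ, f τ ≠ 0 := by
    intro τ h0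
    have h1 := hf τ
    rw [h0] at h1
    simp at h1
  have hinj : Function.Injective f := by
    intro τ τ' h
    have h1 := hf τ
    have h2 := hf τ'
    rw [h] at h1
    have h3 : (τ - τ') * f τ' = 0 := by linear_combination h1 - h2
    rcases mul_eq_zero.mp h3 with h4 | h4
    · exact sub_eq_zero.mp h4
    · exact absurd h4 (hf0 τ')
  obtain ⟨τ, hτ⟩ := (Finite.injective_iff_surjective.mp hinj) 0
  exact hf0 τ hτ

theorem card_nonzero_le' [Fintype F] [DecidableEq F] (x : SL2) (hx : x ∉ Subgroup.center SL2)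
    (c0 : F) (hc0 : c0 ≠ 0) (hemp : ∀ α β : F, nrm (tr x) α β ≠ c0) :
    (Finset.univ.filter (fun ab : F × F => nrm (tr x) ab.1 ab.2 ≠ 0)).card ≤
      (Fintype.card F - 2) * Nat.card (cen x) := by
  have h1 := Finset.card_eq_sum_card_fiberwise (f := fun ab : F × F => nrm (tr x) ab.1 ab.2)
    (s := Finset.univ.filter (fun ab : F × F => nrm (tr x) ab.1 ab.2 ≠ 0))
    (t := (Finset.univ.erase (0 : F)).erase c0) (by
      intro ab hab
      simp only [Finset.coe_filter, Finset.mem_univ, true_and, Set.mem_setOf_eq] at hab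
      simp only [Finset.coe_erase, Finset.coe_univ, Set.mem_diff, Set.mem_univ,
        Set.mem_singleton_iff, true_and]
      exact ⟨hab, hemp _ _⟩)
  rw [h1]
  have h2 : ∀ c ∈ (Finset.univ.erase (0 : F)).erase c0,
      ((Finset.univ.filter (fun ab : F × F => nrm (tr x) ab.1 ab.2 ≠ 0)).filter
        (fun ab => nrm (tr x) ab.1 ab.2 = c)).card ≤ Nat.card (cen x) := by
    intro c hc
    have hc' : c ≠ 0 := by
      rw [Finset.mem_erase, Finset.mem_erase] at hc
      exact hc.2.1
    have h3 := card_fiber_le x hx c hc'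
    rw [Nat.card_eq_fintype_card, Fintype.card_subtype] at h3
    refine le_trans (Finset.card_le_card ?_) h3
    intro ab hab
    simp only [Finset.mem_filter, Finset.mem_univ, true_and] at hab ⊢
    exact hab.2
  have h4 := Finset.sum_le_card_nsmul _ _ _ h2
  have h5 : ((Finset.univ.erase (0 : F)).erase c0).card = Fintype.card F - 2 := by
    rw [Finset.card_erase_of_mem (by simp [hc0]), Finset.card_erase_of_mem (Finset.mem_univ _),
      Finset.card_univ]
    rfl
  rw [h5, smul_eq_mul] at h4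
  exact h4

/-- the norm form of a non-split torus is universal. -/
theorem exists_nrm_eq [Fintype F] (p : ℕ) [Fact p.Prime] [CharP F p] (x : SL2)
    (hx : x ∉ Subgroup.center SL2) (ht : tr x ^ 2 ≠ 4)
    (hns : ∀ ρ : F, ρ ^ 2 + tr x * ρ + 1 ≠ 0) (c0 : F) (hc0 : c0 ≠ 0) :
    ∃ α β : F, nrm (tr x) α β = c0 := by
  classical
  by_contra hcon
  push_neg at hcon
  have hq : 2 ≤ Fintype.card F := Fintype.one_lt_card
  have h1 := card_nonzero_le' x hx c0 hc0 hcon
  rw [card_cen_nonsplit p x hx ht hns] at h1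
  have h2 : (Finset.univ.filter (fun ab : F × F => nrm (tr x) ab.1 ab.2 = 0)).card ≤ 1 := by
    have hsub : Finset.univ.filter (fun ab : F × F => nrm (tr x) ab.1 ab.2 = 0) ⊆ {(0, 0)} := by
      rintro ⟨α, β⟩ hab
      have hab' : nrm (tr x) α β = 0 := by simpa using hab
      unfold nrm at hab'
      rw [Finset.mem_singleton]
      have hβ : β = 0 := by
        by_contra hβ
        apply hns (α / β)
        field_simp
        linear_combination hab'
      rw [hβ] at hab'
      have h0 : α = 0 := by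
        have h00 : α ^ 2 = 0 := by linear_combination hab'
        exact pow_eq_zero_iff two_ne_zero |>.mp h00
      rw [h0, hβ]
    exact (Finset.card_le_card hsub).trans (by simp)
  have h3 : (Finset.univ.filter (fun ab : F × F => nrm (tr x) ab.1 ab.2 = 0)).card +
      (Finset.univ.filter (fun ab : F × F => nrm (tr x) ab.1 ab.2 ≠ 0)).card =
      Fintype.card F * Fintype.card F := by
    have h3' := Finset.card_filter_add_card_filter_not (s := (Finset.univ : Finset (F × F)))
      (fun ab : F × F => nrm (tr x) ab.1 ab.2 = 0)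
    rw [Finset.card_univ, Fintype.card_prod] at h3'
    exact h3'
  obtain ⟨m, hm⟩ : ∃ m, Fintype.card F = m + 2 := ⟨Fintype.card F - 2, by omega⟩
  rw [hm] at h1 h3
  simp only [Nat.add_sub_cancel] at h1
  have h6 : (m + 2) * (m + 2) = m * (m + 2 + 1) + (m + 4) := by ring
  omega

/-- an element inverting a non-split torus. -/
theorem exists_inv_nonsplit [Fintype F] (p : ℕ) [Fact p.Prime] [CharP F p] (x : SL2)
    (hx : x ∉ Subgroup.center SL2) (ht : tr x ^ 2 ≠ 4)
    (hns : ∀ ρ : F, ρ ^ 2 + tr x * ρ + 1 ≠ 0) : ∃ w : SL2, w * x * w⁻¹ = x⁻¹ := by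
  have hd := sl2_det x
  have hb : x.1 0 1 ≠ 0 := by
    intro h0
    apply hns (- x.1 0 0)
    rw [tr_eq]
    rw [h0] at hd
    linear_combination (-1 : F) * hd
  have hc : x.1 1 0 ≠ 0 := by
    intro h0
    apply hns (- x.1 0 0)
    rw [tr_eq]
    rw [h0] at hd
    linear_combination (-1 : F) * hd
  obtain ⟨α, β, hn⟩ := exists_nrm_eq p x hx ht hns (1 / (x.1 0 1 * x.1 1 0))
    (one_div_ne_zero (mul_ne_zero hb hc))
  have hdet : (β * x.1 0 1 * x.1 1 0) * (-β * x.1 0 1 * x.1 1 0) -
      (x.1 0 1 * (α + β * x.1 1 1)) * (-x.1 1 0 * (α + β * x.1 0 0)) = 1 := by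
    unfold nrm at hn
    rw [tr_eq] at hn
    have hn' : (α ^ 2 + α * β * (x.1 0 0 + x.1 1 1) + β ^ 2) * (x.1 0 1 * x.1 1 0) = 1 := by
      rw [hn]; field_simp
    linear_combination hn' + β ^ 2 * x.1 0 1 * x.1 1 0 * hd
  obtain ⟨w, w00, w01, w10, w11⟩ : ∃ w : SL2, w.1 0 0 = β * x.1 0 1 * x.1 1 0 ∧
      w.1 0 1 = x.1 0 1 * (α + β * x.1 1 1) ∧ w.1 1 0 = -x.1 1 0 * (α + β * x.1 0 0) ∧
      w.1 1 1 = -β * x.1 0 1 * x.1 1 0 :=
    ⟨mkSL _ _ _ _ hdet, by rw [mk_e00], by rw [mk_e01], by rw [mk_e10], by rw [mk_e11]⟩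
  refine ⟨w, ?_⟩
  have key : w * x = x⁻¹ * w := by
    apply sl_ext
    · rw [mul_e00, mul_e00, inv_e00, inv_e01, w00, w01, w10]; ring
    · rw [mul_e01, mul_e01, inv_e00, inv_e01, w00, w01, w11]; ring
    · rw [mul_e10, mul_e10, inv_e10, inv_e11, w00, w10, w11]; ring
    · rw [mul_e11, mul_e11, inv_e10, inv_e11, w01, w10, w11]; ring
  rw [key]; group

/-- an element inverting `x` inverts the whole torus of `x`. -/
theorem inv_of_comm (x t w : SL2) (hx : x ∉ Subgroup.center SL2) (ht : Commute t x)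
    (hw : w * x * w⁻¹ = x⁻¹) : w * t * w⁻¹ = t⁻¹ := by
  obtain ⟨α, β, t00, t01, t10, t11⟩ := comm_coords x t hx ht
  have hwx : w * x = x⁻¹ * w := by
    calc w * x = w * x * w⁻¹ * w := by group
      _ = x⁻¹ * w := by rw [hw]
  have e00 := congrArg (fun g : SL2 => g.1 0 0) hwx
  have e01 := congrArg (fun g : SL2 => g.1 0 1) hwx
  have e10 := congrArg (fun g : SL2 => g.1 1 0) hwx
  have e11 := congrArg (fun g : SL2 => g.1 1 1) hwx
  simp only [mul_e00, mul_e01, mul_e10, mul_e11, inv_e00, inv_e01, inv_e10, inv_e11]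
    at e00 e01 e10 e11
  have key : w * t = t⁻¹ * w := by
    apply sl_ext
    · rw [mul_e00, mul_e00, inv_e00, inv_e01]; simp only [t00, t01, t10, t11]
      linear_combination β * e00
    · rw [mul_e01, mul_e01, inv_e00, inv_e01]; simp only [t00, t01, t10, t11]
      linear_combination β * e01
    · rw [mul_e10, mul_e10, inv_e10, inv_e11]; simp only [t00, t01, t10, t11]
      linear_combination β * e10
    · rw [mul_e11, mul_e11, inv_e10, inv_e11]; simp only [t00, t01, t10, t11]
      linear_combination β * e11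
  rw [key]; group

end Cfsg.Agent.Helper41.Dk
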