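import Cfsg.Agent.Helper41.DkTorus2

set_option autoImplicit false

/-!
# Dickson, part 14: dihedral subgroups of `PSL₂(q)` and element orders in subfield subgroups
-/

namespace Cfsg.Agent.Helper41.Dk

open Cfsg.Agent.Helper41 Matrix

variable {F : Type*} [Field F]

local notation "SL2" => Matrix.SpecialLinearGroup (Fin 2) F

/-- the image in `PSL₂(q)` of the normalizer of a torus is dihedral. -/
theorem NT_dihedral [Fintype F] (p : ℕ) [Fact p.Prime] [CharP F p] (x w : SL2)
    (hx : x ∉ Subgroup.center SL2) (ht : tr x ^ 2 ≠ 4) (hw : w * x * w⁻¹ = x⁻¹) :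
    Nonempty (↥((NT x).map (QuotientGroup.mk' (Subgroup.center SL2))) ≃*
      DihedralGroup (Nat.card (cen x) / Nat.card (Subgroup.center SL2))) := by
  classical
  have hx2 : x * x ≠ 1 := fun h => ht (tr_sq_of_mul_self x h)
  have hcardN := card_NT_of_inv x w hw hx2
  have hq : 2 ≤ Fintype.card F := Fintype.one_lt_card
  have hcc := card_cen_cases p x hx ht
  have hZle : Subgroup.center SL2 ≤ cen x := sl2_CA.le_cen x
  have hZpos : 0 < Nat.card (Subgroup.center SL2) := Nat.card_pos
  have hZdvd : Nat.card (Subgroup.center SL2) ∣ Nat.card (cen x) :=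
    Subgroup.card_dvd_of_le hZle
  have hZlt : Nat.card (Subgroup.center SL2) < Nat.card (cen x) := by
    apply lt_of_le_of_ne (Nat.le_of_dvd Nat.card_pos hZdvd)
    intro h
    apply hx
    have h1 : Subgroup.center SL2 = cen x := Subgroup.eq_of_le_of_card_ge hZle h.ge
    rw [h1]; exact mem_cen.mpr (Commute.refl x)
  have key : ∀ S : Subgroup SL2, S = NT x →
      Nonempty ((↥S ⧸ (Subgroup.center SL2).subgroupOf S) ≃*
        DihedralGroup (Nat.card (cen x) / Nat.card (Subgroup.center SL2))) := by
    intro S hS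
    subst hS
    obtain ⟨k, hk, hk2⟩ := torus_concl (NT x).subtype p Subtype.val_injective
      ((Subgroup.center SL2).subgroupOf (NT x)) (fun g => Subgroup.mem_subgroupOf)
      ⟨x, self_mem_NT x⟩ (fun h => hx (Subgroup.mem_subgroupOf.mp h)) ht
      (fun g => by
        rcases g.2 with h | h
        · left; exact Subtype.ext h
        · right; exact Subtype.ext h)
    have hcard := Subgroup.card_eq_card_quotient_mul_card_subgroup
      ((Subgroup.center SL2).subgroupOf (NT x))
    rw [hcardN, Nat.card_congr (Subgroup.subgroupOfEquivOfLe (center_le_NT x)).toEquiv]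
      at hcard
    rw [Nat.card_congr (Subgroup.subgroupOfEquivOfLe (center_le_NT x)).toEquiv] at hk
    rcases hk2 with ⟨-, h⟩ | ⟨⟨e⟩⟩
    · exfalso
      rw [h] at hcard
      have hkz : 2 * Nat.card (cen x) ∣ Fintype.card F + 1 ∨
          2 * Nat.card (cen x) ∣ Fintype.card F - 1 := by rw [hcard]; exact hk
      rcases hcc with h1 | h1
      · rw [h1] at hkz
        rcases hkz with h' | h'
        · have h5 := Nat.le_of_dvd (by omega) h'
          have h6 : Fintype.card F = 2 ∨ Fintype.card F = 3 := by omega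
          rcases h6 with h6 | h6
          · rw [h6] at h'; norm_num at h'
          · have h7 := card_center_gcd (F := F) p
            rw [h6] at h7 h1
            have h8 : Nat.gcd 2 (3 - 1) = 2 := by decide
            rw [h8] at h7
            omega
        · have h5 := Nat.le_of_dvd (by omega) h'
          omega
      · rw [h1] at hkz
        rcases hkz with h' | h'
        · have h5 := Nat.le_of_dvd (by omega) h'; omega
        · have h5 := Nat.le_of_dvd (by omega) h'; omega
    · have h2 : Nat.card (↥(NT x) ⧸ (Subgroup.center SL2).subgroupOf (NT x)) = 2 * k := by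
        rw [Nat.card_congr e.toEquiv, DihedralGroup.nat_card]
      rw [h2] at hcard
      have h3 : Nat.card (cen x) = k * Nat.card (Subgroup.center SL2) := by
        have h3' : 2 * Nat.card (cen x) = 2 * (k * Nat.card (Subgroup.center SL2)) := by
          rw [hcard]; ring
        exact Nat.eq_of_mul_eq_mul_left (by norm_num) h3'
      have h4 : Nat.card (cen x) / Nat.card (Subgroup.center SL2) = k := by
        rw [h3]; exact Nat.mul_div_cancel k hZpos
      rw [h4]; exact ⟨e⟩
  obtain ⟨e1⟩ := psl_bridge ((NT x).map (QuotientGroup.mk' (Subgroup.center SL2)))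
  obtain ⟨e2⟩ := key _ (pre_map (NT x) (center_le_NT x))
  exact ⟨e1.symm.trans e2⟩

/-- the order of a split torus. -/
theorem card_cen_split [Fintype F] (x : SL2) (h01 : x.1 0 1 = 0) (h10 : x.1 1 0 = 0)
    (hne : x.1 0 0 ≠ x.1 1 1) : Nat.card (cen x) = Fintype.card F - 1 := by
  classical
  have hx : x ∉ Subgroup.center SL2 := (not_center_iff x).mpr (Or.inr (Or.inr hne))
  apply le_antisymm _ (card_cen_ge x hx)
  have key : ∀ g : cen x, g.1.1 0 1 = 0 ∧ g.1.1 1 0 = 0 ∧ g.1.1 0 0 * g.1.1 1 1 = 1 := by
    intro g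
    have hc : g.1 * x = x * g.1 := (mem_cen.mp g.2).eq
    have e01 := congrArg (fun g : SL2 => g.1 0 1) hc
    have e10 := congrArg (fun g : SL2 => g.1 1 0) hc
    simp only [mul_e01, mul_e10, h01, h10, mul_zero, zero_mul, zero_add, add_zero] at e01 e10
    have hne' : x.1 1 1 - x.1 0 0 ≠ 0 := sub_ne_zero.mpr (Ne.symm hne)
    have g01 : g.1.1 0 1 = 0 := by
      have h3 : g.1.1 0 1 * (x.1 1 1 - x.1 0 0) = 0 := by linear_combination e01
      exact (mul_eq_zero.mp h3).resolve_right hne'
    have g10 : g.1.1 1 0 = 0 := by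
      have h3 : g.1.1 1 0 * (x.1 1 1 - x.1 0 0) = 0 := by linear_combination (-1 : F) * e10
      exact (mul_eq_zero.mp h3).resolve_right hne'
    refine ⟨g01, g10, ?_⟩
    have hd := sl2_det g.1
    rw [g01, g10] at hd
    linear_combination hd
  have hne0 : ∀ g : cen x, g.1.1 0 0 ≠ 0 := by
    intro g h0
    have := (key g).2.2
    rw [h0, zero_mul] at this
    exact zero_ne_one this
  rw [← Fintype.card_units, ← Nat.card_eq_fintype_card]
  apply Nat.card_le_card_of_injective (fun g : cen x => Units.mk0 (g.1.1 0 0) (hne0 g))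
  intro g g' h
  have h00 : g.1.1 0 0 = g'.1.1 0 0 := congrArg Units.val h
  obtain ⟨a01, a10, a11⟩ := key g
  obtain ⟨b01, b10, b11⟩ := key g'
  apply Subtype.ext
  apply sl_ext h00 (by rw [a01, b01]) (by rw [a10, b10])
  have h3 : g.1.1 0 0 * (g.1.1 1 1 - g'.1.1 1 1) = 0 := by
    rw [h00] at a11
    rw [mul_sub, ← h00] at *
    rw [h00, a11, b11, sub_self]
  exact sub_eq_zero.mp ((mul_eq_zero.mp h3).resolve_left (hne0 g))

/-- element orders in a subfield subgroup. -/
theorem order_dvd_of_mem_SK [Fintype F] (p : ℕ) [Fact p.Prime] [CharP F p] (K1 : Subfield F)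
    (y : SL2) (hy : y ∈ SK K1) (hyc : y ∉ Subgroup.center SL2) (ht : tr y ^ 2 ≠ 4) :
    orderOf y ∣ Nat.card K1 - 1 ∨ orderOf y ∣ Nat.card K1 + 1 := by
  classical
  haveI : Fintype K1 := Fintype.ofFinite _
  haveI : CharP K1 p := RingHom.charP K1.subtype K1.subtype.injective p
  have hφ : ∀ c : F, c ∈ K1 ↔ ∃ k : K1, K1.subtype k = c := by
    intro c
    constructor
    · intro hc; exact ⟨⟨c, hc⟩, rfl⟩
    · rintro ⟨k, rfl⟩; exact k.2
  obtain ⟨M', hM'⟩ := exists_lift K1.subtype K1 hφ _ hy
  have hdet : M'.det = 1 := by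
    apply K1.subtype.injective
    rw [det_lift K1.subtype _ M' hM', map_one]; exact y.2
  obtain ⟨y', hy'⟩ : ∃ y' : Matrix.SpecialLinearGroup (Fin 2) K1, y'.1 = M' := ⟨⟨M', hdet⟩, rfl⟩
  have hent : ∀ i j, K1.subtype (y'.1 i j) = y.1 i j := by
    intro i j; rw [hy']; exact hM' i j
  have hmap : Matrix.SpecialLinearGroup.map K1.subtype y' = y := by
    apply Subtype.ext
    ext i j
    exact hent i j
  have hinj : Function.Injective (Matrix.SpecialLinearGroup.map (n := Fin 2) K1.subtype) := by
    intro a b hab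
    apply Subtype.ext
    ext i j
    have h2 := congrFun (congrFun (congrArg Subtype.val hab) i) j
    exact h2
  have hyc' : y' ∉ Subgroup.center (Matrix.SpecialLinearGroup (Fin 2) K1) := by
    rw [not_center_iff] at hyc ⊢
    rw [← hent 1 0, ← hent 0 1, ← hent 0 0, ← hent 1 1] at hyc
    rcases hyc with h | h | h
    · left; intro h0; apply h; rw [h0, map_zero]
    · right; left; intro h0; apply h; rw [h0, map_zero]
    · right; right; intro h0; apply h; rw [h0]
  have ht' : tr y' ^ 2 ≠ 4 := by
    intro h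
    apply ht
    rw [tr_eq] at h ⊢
    rw [← hent 0 0, ← hent 1 1]
    have h2 := congrArg K1.subtype h
    rw [map_pow, map_add] at h2
    rw [h2]
    rfl
  obtain ⟨-, hdvd⟩ := torus_cyclic p hyc' ht'
  have hord : orderOf y = orderOf y' := by
    rw [← hmap]
    exact orderOf_injective (Matrix.SpecialLinearGroup.map (n := Fin 2) K1.subtype) hinj y'
  have h1 : orderOf y' ∣ Nat.card (cen y') :=
    Subgroup.orderOf_dvd_natCard _ (mem_cen.mpr (Commute.refl y'))
  rw [Nat.card_eq_fintype_card (α := K1), hord]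
  rcases hdvd with h | h
  · left; exact h1.trans h
  · right; exact h1.trans h

end Cfsg.Agent.Helper41.Dk
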