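import Cfsg.Agent.Helper41.SL2d

set_option autoImplicit false

namespace Cfsg.Agent.Helper41

open Matrix

variable {F : Type*} [Field F]

/-- conjugation by an invertible matrix as an endomorphism of `SL₂(F)`: `g ↦ Q⁻¹ g Q`. -/
noncomputable def conjGL (Q : Matrix (Fin 2) (Fin 2) F) (hQ : Q.det ≠ 0) :
    Matrix.SpecialLinearGroup (Fin 2) F →* Matrix.SpecialLinearGroup (Fin 2) F where
  toFun g := ⟨Q⁻¹ * g.1 * Q, by
    rw [Matrix.det_mul, Matrix.det_mul, g.2, Matrix.det_nonsing_inv, Ring.inverse_eq_inv', mul_one,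
      inv_mul_cancel₀ hQ]⟩
  map_one' := by
    apply Subtype.ext
    simp [Matrix.nonsing_inv_mul Q (isUnit_iff_ne_zero.mpr hQ)]
  map_mul' g h := by
    apply Subtype.ext
    simp only [Matrix.SpecialLinearGroup.coe_mul]
    have h1 : Q * Q⁻¹ = 1 := Matrix.mul_nonsing_inv Q (isUnit_iff_ne_zero.mpr hQ)
    calc Q⁻¹ * (g.1 * h.1) * Q = Q⁻¹ * g.1 * (1 : Matrix (Fin 2) (Fin 2) F) * h.1 * Q := by
          simp [Matrix.mul_assoc]
      _ = Q⁻¹ * g.1 * Q * (Q⁻¹ * h.1 * Q) := by rw [← h1]; simp only [Matrix.mul_assoc]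

theorem conjGL_coe (Q : Matrix (Fin 2) (Fin 2) F) (hQ : Q.det ≠ 0)
    (g : Matrix.SpecialLinearGroup (Fin 2) F) : (conjGL Q hQ g).1 = Q⁻¹ * g.1 * Q := rfl

theorem conjGL_eq_of_mul_eq (Q : Matrix (Fin 2) (Fin 2) F) (hQ : Q.det ≠ 0)
    (g : Matrix.SpecialLinearGroup (Fin 2) F) (X : Matrix (Fin 2) (Fin 2) F)
    (h : Q * X = g.1 * Q) : (conjGL Q hQ g).1 = X := by
  rw [conjGL_coe, Matrix.mul_assoc, ← h, ← Matrix.mul_assoc,
    Matrix.nonsing_inv_mul Q (isUnit_iff_ne_zero.mpr hQ), Matrix.one_mul]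

theorem conjGL_injective (Q : Matrix (Fin 2) (Fin 2) F) (hQ : Q.det ≠ 0) :
    Function.Injective (conjGL Q hQ) := by
  intro g h hgh
  have h2 : Q⁻¹ * g.1 * Q = Q⁻¹ * h.1 * Q := congrArg Subtype.val hgh
  apply Subtype.ext
  have h1 : Q * Q⁻¹ = 1 := Matrix.mul_nonsing_inv Q (isUnit_iff_ne_zero.mpr hQ)
  calc g.1 = (Q * Q⁻¹) * g.1 * (Q * Q⁻¹) := by rw [h1]; simp
    _ = Q * (Q⁻¹ * g.1 * Q) * Q⁻¹ := by simp only [Matrix.mul_assoc]
    _ = Q * (Q⁻¹ * h.1 * Q) * Q⁻¹ := by rw [h2]
    _ = (Q * Q⁻¹) * h.1 * (Q * Q⁻¹) := by simp only [Matrix.mul_assoc]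
    _ = h.1 := by rw [h1]; simp

/-- an element of `p`-power order of `SL₂(F)`, `char F = p`, has trace `2`. -/
theorem trace_eq_two_of_pow_eq_one (p : ℕ) [Fact p.Prime] [CharP F p]
    (a : Matrix.SpecialLinearGroup (Fin 2) F) (k : ℕ) (h : a ^ (p ^ k) = 1) :
    (a : Matrix (Fin 2) (Fin 2) F).trace = 2 := by
  set t := (a : Matrix (Fin 2) (Fin 2) F).trace with ht
  have hN : (a.1 - 1) * (a.1 - 1) = (t - 2) • a.1 := by
    have h1 := sl2_sq a
    rw [sub_mul, mul_sub, mul_one, one_mul, h1, sub_smul, ofNat_smul_eq_nsmul, two_nsmul]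
    abel
  have h1 : (a.1 - 1) ^ (p ^ k) = 0 := by
    rw [sub_pow_char_pow_of_commute _ _ (Commute.one_right _), one_pow,
      ← Matrix.SpecialLinearGroup.coe_pow, h]
    simp
  have h2 : ((a.1 - 1) * (a.1 - 1)) ^ (p ^ k) = 0 := by
    rw [(Commute.refl (a.1 - 1)).mul_pow, h1, zero_mul]
  rw [hN, smul_pow, ← Matrix.SpecialLinearGroup.coe_pow, h] at h2
  have h3 := congrFun (congrFun h2 0) 0
  simp only [Matrix.SpecialLinearGroup.coe_one, Matrix.smul_apply, Matrix.one_apply_eq,
    smul_eq_mul, mul_one, Matrix.zero_apply] at h3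
  have h4 : t - 2 = 0 := pow_eq_zero_iff (pow_ne_zero _ (Fact.out : p.Prime).ne_zero) |>.mp h3
  exact sub_eq_zero.mp h4

/-- normal form of an element of trace `2`. -/
theorem unip_form (a : Matrix.SpecialLinearGroup (Fin 2) F)
    (ha : (a : Matrix (Fin 2) (Fin 2) F).trace = 2) :
    ∃ n u v : F, n * n + u * v = 0 ∧ (a : Matrix (Fin 2) (Fin 2) F) = !![1 + n, u; v, 1 - n] := by
  have hdet := sl2_det a
  rw [Matrix.trace_fin_two] at ha
  refine ⟨a.1 0 0 - 1, a.1 0 1, a.1 1 0, ?_, ?_⟩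
  · linear_combination (-1 : F) * hdet + (a.1 0 0) * ha
  · ext i j
    fin_cases i <;> fin_cases j <;> simp
    linear_combination ha

/-- commutation criterion for two elements of trace `2`. -/
theorem unip_comm_of {a b : Matrix.SpecialLinearGroup (Fin 2) F} {n u v d e f : F}
    (ha : (a : Matrix (Fin 2) (Fin 2) F) = !![1 + n, u; v, 1 - n])
    (hb : (b : Matrix (Fin 2) (Fin 2) F) = !![1 + d, e; f, 1 - d])
    (hX : u * f - v * e = 0) (hY : 2 * (n * e - u * d) = 0) (hW : 2 * (v * d - n * f) = 0) :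
    a * b = b * a := by
  apply Subtype.ext
  rw [Matrix.SpecialLinearGroup.coe_mul, Matrix.SpecialLinearGroup.coe_mul, ha, hb]
  ext i j
  fin_cases i <;> fin_cases j <;> simp [Matrix.mul_apply, Fin.sum_univ_two]
  · linear_combination hX
  · linear_combination hY
  · linear_combination hW
  · linear_combination (-1 : F) * hX

/-- two non-commuting elements of trace `2` of `SL₂(F)` are simultaneously conjugate (under
`GL₂(F)`) to `[[1,1],[0,1]]` and `[[1,0],[lam,1]]` with `lam ≠ 0`. -/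
theorem exists_conjGL_unip_pair (a b : Matrix.SpecialLinearGroup (Fin 2) F)
    (ha : (a : Matrix (Fin 2) (Fin 2) F).trace = 2)
    (hb : (b : Matrix (Fin 2) (Fin 2) F).trace = 2) (hab : a * b ≠ b * a) :
    ∃ (Q : Matrix (Fin 2) (Fin 2) F) (hQ : Q.det ≠ 0) (lam : F), lam ≠ 0 ∧
      (conjGL Q hQ a).1 = !![1, 1; 0, 1] ∧ (conjGL Q hQ b).1 = !![1, 0; lam, 1] := by
  obtain ⟨n, u, v, hn, haf⟩ := unip_form a ha
  obtain ⟨d, e, f, hd, hbf⟩ := unip_form b hb
  set τ := 2 * n * d + u * f + v * e with hτ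
  have hτ0 : τ ≠ 0 := by
    intro h0
    apply hab
    have hX : (u * f - v * e) ^ 2 = 0 := by
      linear_combination (τ - 4 * n * d) * h0 + 4 * n ^ 2 * hd - 4 * e * f * hn
    have hY : (2 * (n * e - u * d)) ^ 2 = 0 := by
      linear_combination (-4 * u * e) * h0 + 4 * e ^ 2 * hn + 4 * u ^ 2 * hd
    have hW : (2 * (v * d - n * f)) ^ 2 = 0 := by
      linear_combination (-4 * v * f) * h0 + 4 * f ^ 2 * hn + 4 * v ^ 2 * hd
    exact unip_comm_of haf hbf (pow_eq_zero_iff two_ne_zero |>.mp hX)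
      (pow_eq_zero_iff two_ne_zero |>.mp hY) (pow_eq_zero_iff two_ne_zero |>.mp hW)
  by_cases hf : f = 0
  · by_cases he : e = 0
    · exfalso
      apply hab
      have hd0 : d = 0 := by
        have : d * d = 0 := by rw [hf] at hd; linear_combination hd
        exact mul_self_eq_zero.mp this
      exact unip_comm_of haf hbf (by rw [hf, he]; ring) (by rw [he, hd0]; ring)
        (by rw [hf, hd0]; ring)
    · have hdet : (!![n * e - u * d, e; v * e + n * d, -d] : Matrix (Fin 2) (Fin 2) F).det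
          = -e * τ + u * (d * d + e * f) := by
        rw [Matrix.det_fin_two_of]; ring
      have hQ : (!![n * e - u * d, e; v * e + n * d, -d] : Matrix (Fin 2) (Fin 2) F).det ≠ 0 := by
        rw [hdet, hd, mul_zero, add_zero]
        exact mul_ne_zero (neg_ne_zero.mpr he) hτ0
      refine ⟨_, hQ, τ, hτ0, ?_, ?_⟩
      · apply conjGL_eq_of_mul_eq
        rw [haf]
        ext i j
        fin_cases i <;> fin_cases j <;> simp [Matrix.mul_apply, Fin.sum_univ_two]
        · linear_combination (-e) * hn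
        · ring
        · linear_combination (d) * hn
        · ring
      · apply conjGL_eq_of_mul_eq
        rw [hbf]
        ext i j
        fin_cases i <;> fin_cases j <;> simp [Matrix.mul_apply, Fin.sum_univ_two]
        · linear_combination (u) * hd
        · ring
        · linear_combination (-n) * hd
        · linear_combination (-1 : F) * hd
  · have hdet : (!![n * d + u * f, d; v * d - n * f, f] : Matrix (Fin 2) (Fin 2) F).det
        = f * τ + (-v) * (d * d + e * f) := by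
      rw [Matrix.det_fin_two_of]; ring
    have hQ : (!![n * d + u * f, d; v * d - n * f, f] : Matrix (Fin 2) (Fin 2) F).det ≠ 0 := by
      rw [hdet, hd, mul_zero, add_zero]
      exact mul_ne_zero hf hτ0
    refine ⟨_, hQ, τ, hτ0, ?_, ?_⟩
    · apply conjGL_eq_of_mul_eq
      rw [haf]
      ext i j
      fin_cases i <;> fin_cases j <;> simp [Matrix.mul_apply, Fin.sum_univ_two]
      · linear_combination (-d) * hn
      · ring
      · linear_combination (-f) * hn
      · ring
    · apply conjGL_eq_of_mul_eq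
      rw [hbf]
      ext i j
      fin_cases i <;> fin_cases j <;> simp [Matrix.mul_apply, Fin.sum_univ_two]
      · linear_combination (n) * hd
      · linear_combination (-1 : F) * hd
      · linear_combination (v) * hd
      · ring

end Cfsg.Agent.Helper41
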