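import Mathlib

set_option autoImplicit false

namespace Cfsg.Agent.Helper41

open Finset

/-- Powers indexed by `ZMod s` values: successor. -/
theorem pow_val_add_one {G : Type*} [Monoid G] (s : ℕ) [Fact s.Prime] (e : G) (he : e ^ s = 1)
    (i : ZMod s) : e ^ (i + 1).val = e ^ (i.val + 1) := by
  have hs : Fact (1 < s) := ⟨(Fact.out : s.Prime).one_lt⟩
  rw [ZMod.val_add, ZMod.val_one, ← pow_eq_pow_mod _ he]

/-- Powers indexed by `ZMod s` values: product. -/
theorem pow_val_mul {G : Type*} [Monoid G] (s : ℕ) [Fact s.Prime] (e : G) (he : e ^ s = 1)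
    (i j : ZMod s) : e ^ (i * j).val = e ^ (i.val * j.val) := by
  rw [ZMod.val_mul, ← pow_eq_pow_mod _ he]

/-- The norm of `v` under a cyclic group `⟨e⟩` of order dividing `s` is fixed by `e`. -/
theorem norm_fixed {G V : Type*} [Group G] [CommGroup V] (φ : G →* MulAut V) (s : ℕ)
    [Fact s.Prime] (e : G) (he : e ^ s = 1) (v : V) :
    φ e (∏ i : ZMod s, φ (e ^ i.val) v) = ∏ i : ZMod s, φ (e ^ i.val) v := by
  rw [map_prod]
  have h1 : ∀ i : ZMod s, φ e (φ (e ^ i.val) v) = φ (e ^ (i + 1).val) v := by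
    intro i
    rw [pow_val_add_one s e he, pow_succ', map_mul, MulAut.mul_apply]
  simp_rw [h1]
  exact Fintype.prod_equiv (Equiv.addRight (1 : ZMod s)) _ _ (fun i => rfl)

/-- Key computation: if two commuting elements `c, d` of exponent `s` act on the abelian group
`V` so that every `c ^ i * d ^ j` with `(i, j) ≠ (0, 0)` is fixed-point-free, then `V` has
exponent dividing `s`. -/
theorem fpf_key {G V : Type*} [Group G] [CommGroup V] (φ : G →* MulAut V) (s : ℕ)
    [Fact s.Prime] (c d : G) (hcd : Commute c d) (hc : c ^ s = 1) (hd : d ^ s = 1)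
    (h : ∀ i j : ZMod s, (i ≠ 0 ∨ j ≠ 0) → ∀ v : V, φ (c ^ i.val * d ^ j.val) v = v → v = 1)
    (v : V) : v ^ s = 1 := by
  have hs : Fact (1 < s) := ⟨(Fact.out : s.Prime).one_lt⟩
  have hsprime : s.Prime := Fact.out
  -- every nontrivial `e = c^i d^j` has trivial norm
  have hpow : ∀ i j : ZMod s, (c ^ i.val * d ^ j.val) ^ s = 1 := by
    intro i j
    rw [(hcd.pow_pow _ _).mul_pow, ← pow_mul, ← pow_mul, mul_comm i.val, mul_comm j.val,
      pow_mul, pow_mul, hc, hd, one_pow, one_pow, one_mul]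
  have hnorm : ∀ i j : ZMod s, (i ≠ 0 ∨ j ≠ 0) → ∀ w : V,
      ∏ k : ZMod s, φ ((c ^ i.val * d ^ j.val) ^ k.val) w = 1 := by
    intro i j hij w
    exact h i j hij _ (norm_fixed φ s _ (hpow i j) w)
  -- the function F
  let F : ZMod s → ZMod s → V := fun i j => φ (c ^ i.val * d ^ j.val) v
  -- norm of d
  have hD : ∀ w : V, ∏ j : ZMod s, φ (d ^ j.val) w = 1 := by
    intro w
    have := hnorm 0 1 (Or.inr one_ne_zero) w
    simpa [ZMod.val_one] using this
  have hG2 : ∀ i : ZMod s, ∏ j : ZMod s, F i j = 1 := by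
    intro i
    have h1 : ∀ j : ZMod s, F i j = φ (c ^ i.val) (φ (d ^ j.val) v) := by
      intro j
      simp only [F, map_mul, MulAut.mul_apply]
    simp_rw [h1]
    rw [← map_prod, hD, map_one]
  have hG1 : ∀ k : ZMod s, ∏ i : ZMod s, F i (k * i) = 1 := by
    intro k
    have h1 : ∀ i : ZMod s, F i (k * i) = φ ((c ^ (1 : ZMod s).val * d ^ k.val) ^ i.val) v := by
      intro i
      simp only [F]
      congr 2
      rw [ZMod.val_one, pow_one, (hcd.pow_right _).mul_pow, ← pow_mul, pow_val_mul s d hd]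
    simp_rw [h1]
    exact hnorm 1 k (Or.inl one_ne_zero) v
  have hswap : ∏ i : ZMod s, ∏ k : ZMod s, F i (k * i) = 1 := by
    rw [Finset.prod_comm]
    exact Finset.prod_eq_one (fun k _ => hG1 k)
  have hne : ∀ i : ZMod s, i ≠ 0 → ∏ k : ZMod s, F i (k * i) = ∏ j : ZMod s, F i j := by
    intro i hi
    exact Fintype.prod_equiv (Equiv.mulRight₀ i hi) _ _ (fun k => rfl)
  have h0 : ∏ k : ZMod s, F 0 (k * 0) = v ^ s := by
    have : ∀ k : ZMod s, F 0 (k * 0) = v := by
      intro k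
      simp [F]
    simp_rw [this]
    rw [Finset.prod_const, Finset.card_univ, ZMod.card]
  rw [Fintype.prod_eq_mul_prod_compl (0 : ZMod s), h0] at hswap
  have hrest : ∏ i ∈ ({0} : Finset (ZMod s))ᶜ, ∏ k : ZMod s, F i (k * i) = 1 := by
    apply Finset.prod_eq_one
    intro i hi
    rw [hne i (by simpa using hi)]
    exact hG2 i
  rw [hrest, mul_one] at hswap
  exact hswap

/-- A noncyclic abelian group of prime exponent `s` cannot act fixed-point-freely on a nontrivial
abelian normal subgroup with no `s`-torsion. -/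
theorem eq_bot_of_fpf_rank_two {G : Type*} [Group G] (V : Subgroup G) [V.Normal]
    (hVc : ∀ a ∈ V, ∀ b ∈ V, a * b = b * a) (s : ℕ) [Fact s.Prime]
    (hVs : ∀ v ∈ V, v ^ s = 1 → v = 1)
    (c d : G) (hcd : Commute c d) (hc : c ^ s = 1) (hd : d ^ s = 1) (hc1 : c ≠ 1)
    (hdc : d ∉ Subgroup.zpowers c)
    (hfpf : ∀ i j : ℕ, c ^ i * d ^ j ≠ 1 → ∀ v ∈ V, (c ^ i * d ^ j) * v = v * (c ^ i * d ^ j) →
      v = 1) : V = ⊥ := by
  have hs : Fact (1 < s) := ⟨(Fact.out : s.Prime).one_lt⟩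
  let _ : CommGroup V :=
    { (inferInstance : Group V) with mul_comm := fun a b => Subtype.ext (hVc a a.2 b b.2) }
  -- nontriviality of `c ^ i * d ^ j`
  have hne : ∀ i j : ZMod s, (i ≠ 0 ∨ j ≠ 0) → c ^ i.val * d ^ j.val ≠ 1 := by
    intro i j hij h1
    by_cases hj : j = 0
    · have hi : i ≠ 0 := by tauto
      rw [hj, ZMod.val_zero, pow_zero, mul_one] at h1
      apply hc1
      have h2 : c ^ (i * i⁻¹).val = 1 := by
        rw [pow_val_mul s c hc, pow_mul, h1, one_pow]
      rwa [mul_inv_cancel₀ hi, ZMod.val_one, pow_one] at h2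
    · apply hdc
      have h2 : d ^ j.val = (c ^ i.val)⁻¹ := eq_inv_of_mul_eq_one_right h1
      have h3 : d ^ (j * j⁻¹).val = ((c ^ i.val)⁻¹) ^ (j⁻¹).val := by
        rw [pow_val_mul s d hd, pow_mul, h2]
      rw [mul_inv_cancel₀ hj, ZMod.val_one, pow_one] at h3
      rw [h3]
      exact Subgroup.pow_mem _ (Subgroup.inv_mem _ (Subgroup.pow_mem _
        (Subgroup.mem_zpowers c) _)) _
  rw [Subgroup.eq_bot_iff_forall]
  intro v hv
  apply hVs v hv
  have key := fpf_key (MulAut.conjNormal (H := V)) s c d hcd hc hd (by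
    intro i j hij w hw
    have hw' := congrArg Subtype.val hw
    rw [MulAut.conjNormal_apply] at hw'
    have h2 := hfpf i.val j.val (hne i j hij) w w.2 (mul_inv_eq_iff_eq_mul.mp hw')
    exact Subtype.ext h2) ⟨v, hv⟩
  exact congrArg Subtype.val key

end Cfsg.Agent.Helper41
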