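import Mathlib
import Cfsg.Prelude.Def_FusionSystem
import Cfsg.Agent.Helper29.R2X
import Cfsg.Agent.Helper84.FusionAlperin

/-!
# Piece N1 of CALL S5289 batch 3 (helper87): `extend_of_chain`

An `F`-automorphism of a normal subgroup `Q` of `S` preserving an `S`-central chain
`1 ≤ Z₁ ≤ Z₂ ≤ Q` extends to a map of the system defined on `S`.
-/

set_option autoImplicit false

namespace Cfsg.Agent.Helper41

open Cfsg Cfsg.FusionSystem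
open scoped commutatorElement

section FusChain

variable {Ω : Type*} [Group Ω]

/-- Iterating an automorphism that moves `a` by a fixed element `c`. -/
theorem aut_pow_apply_of_fix {Q : Type*} [Group Q] (φ : MulAut Q) (a c : Q) (h1 : φ a = c * a)
    (h2 : φ c = c) (n : ℕ) : (φ ^ n) a = c ^ n * a := by
  induction n with
  | zero => simp
  | succ n ih =>
    rw [pow_succ' φ n, MulAut.mul_apply, ih, map_mul, map_pow, h2, h1, ← mul_assoc, ← pow_succ]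

theorem aut_pow_mem_of_mem {Q : Type*} [Group Q] (θ : MulAut Q) (Z : Set Q)
    (h : ∀ q ∈ Z, θ q ∈ Z) (n : ℕ) : ∀ q ∈ Z, (θ ^ n) q ∈ Z := by
  induction n with
  | zero => intro q hq; simpa using hq
  | succ n ih =>
    intro q hq
    rw [pow_succ' θ n, MulAut.mul_apply]
    exact h _ (ih q hq)

theorem aut_inv_mem_of_mem {Q : Type*} [Group Q] [Finite Q] (θ : MulAut Q) (Z : Set Q)
    (h : ∀ q ∈ Z, θ q ∈ Z) : ∀ q ∈ Z, θ⁻¹ q ∈ Z := by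
  have hn : 0 < orderOf θ := orderOf_pos θ
  have h1 : θ⁻¹ = θ ^ (orderOf θ - 1) := by
    apply inv_eq_of_mul_eq_one_left
    rw [← pow_succ, Nat.sub_add_cancel hn, pow_orderOf_eq_one]
  rw [h1]
  exact aut_pow_mem_of_mem θ Z h _

/-- If `[S, Q] ≤ Z₂ ≤ Q` then `S` normalizes `Q`. -/
theorem fus_normal_of_comm {S Z₂ Q : Subgroup Ω} (h2Q : Z₂ ≤ Q)
    (hc3 : ∀ u ∈ S, ∀ q ∈ Q, ⁅u, q⁆ ∈ Z₂) : S ≤ Subgroup.normalizer (Q : Set Ω) := by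
  intro u hu
  rw [Subgroup.mem_normalizer_iff]
  intro q
  constructor
  · intro hq
    have h := h2Q (hc3 u hu q hq)
    have e : u * q * u⁻¹ = ⁅u, q⁆ * q := by rw [commutatorElement_def]; group
    rw [e]
    exact Q.mul_mem h hq
  · intro hq
    have h := h2Q (hc3 u⁻¹ (S.inv_mem hu) _ hq)
    have e : q = ⁅u⁻¹, u * q * u⁻¹⁆ * (u * q * u⁻¹) := by rw [commutatorElement_def]; group
    rw [e]
    exact Q.mul_mem h hq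

/-- A subgroup of `S` normalized by `S` is fully normalized. -/
theorem fus_fullyNormalized_of_normal {S : Subgroup Ω} [Finite S] (F : FusionSystem S)
    {Q : Subgroup Ω} (hQS : Q ≤ S) (hn : S ≤ Subgroup.normalizer (Q : Set Ω)) :
    F.IsFullyNormalized Q := by
  refine ⟨hQS, fun Q' _ => ?_⟩
  have e : normalizerIn S Q = S := inf_eq_left.mpr hn
  rw [e]
  exact Subgroup.card_le_of_le (Helper84.normalizerIn_le_S S Q')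

/-- The automorphisms of `Q` acting trivially on the factors of the chain `1 ≤ Z₁ ≤ Z₂ ≤ Q`. -/
def chainStab (Z₁ Z₂ Q : Subgroup Ω) (h12 : Z₁ ≤ Z₂) : Subgroup (MulAut Q) where
  carrier := {φ | (∀ q : Q, (q : Ω) ∈ Z₁ → φ q = q) ∧
    (∀ q : Q, (q : Ω) ∈ Z₂ → ((φ q : Q) : Ω) * (q : Ω)⁻¹ ∈ Z₁) ∧
    (∀ q : Q, ((φ q : Q) : Ω) * (q : Ω)⁻¹ ∈ Z₂)}
  mul_mem' := by
    intro φ ψ hφ hψ
    refine ⟨fun q hq => ?_, fun q hq => ?_, fun q => ?_⟩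
    · show φ (ψ q) = q
      rw [hψ.1 q hq, hφ.1 q hq]
    · show ((φ (ψ q) : Q) : Ω) * (q : Ω)⁻¹ ∈ Z₁
      have h1 := hψ.2.1 q hq
      have hψq : ((ψ q : Q) : Ω) ∈ Z₂ := by
        have := Z₂.mul_mem (h12 h1) hq
        simpa using this
      have h2 := hφ.2.1 (ψ q) hψq
      have := Z₁.mul_mem h2 h1
      simpa [mul_assoc] using this
    · show ((φ (ψ q) : Q) : Ω) * (q : Ω)⁻¹ ∈ Z₂
      have h1 := hψ.2.2 q
      have h2 := hφ.2.2 (ψ q)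
      have := Z₂.mul_mem h2 h1
      simpa [mul_assoc] using this
  one_mem' := by
    refine ⟨fun q _ => rfl, fun q _ => ?_, fun q => ?_⟩
    · show (q : Ω) * (q : Ω)⁻¹ ∈ Z₁
      rw [mul_inv_cancel]; exact Z₁.one_mem
    · show (q : Ω) * (q : Ω)⁻¹ ∈ Z₂
      rw [mul_inv_cancel]; exact Z₂.one_mem
  inv_mem' := by
    intro φ hφ
    have key : ∀ q : Q, φ (φ⁻¹ q) = q := fun q => by simp
    refine ⟨fun q hq => ?_, fun q hq => ?_, fun q => ?_⟩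
    · have h := hφ.1 q hq
      calc φ⁻¹ q = φ⁻¹ (φ q) := by rw [h]
        _ = q := by simp
    · have h3 := hφ.2.2 (φ⁻¹ q)
      rw [key q] at h3
      have hr : ((φ⁻¹ q : Q) : Ω) ∈ Z₂ := by
        have e : ((φ⁻¹ q : Q) : Ω) = ((q : Ω) * ((φ⁻¹ q : Q) : Ω)⁻¹)⁻¹ * (q : Ω) := by group
        rw [e]
        exact Z₂.mul_mem (Z₂.inv_mem h3) hq
      have h1 := hφ.2.1 (φ⁻¹ q) hr
      rw [key q] at h1
      have := Z₁.inv_mem h1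
      simpa using this
    · have h3 := hφ.2.2 (φ⁻¹ q)
      rw [key q] at h3
      have := Z₂.inv_mem h3
      simpa using this

theorem mem_chainStab_iff (Z₁ Z₂ Q : Subgroup Ω) (h12 : Z₁ ≤ Z₂) (φ : MulAut Q) :
    φ ∈ chainStab Z₁ Z₂ Q h12 ↔ (∀ q : Q, (q : Ω) ∈ Z₁ → φ q = q) ∧
    (∀ q : Q, (q : Ω) ∈ Z₂ → ((φ q : Q) : Ω) * (q : Ω)⁻¹ ∈ Z₁) ∧
    (∀ q : Q, ((φ q : Q) : Ω) * (q : Ω)⁻¹ ∈ Z₂) := Iff.rfl

theorem chainStab_pow_eq_one {Z₁ Z₂ Q : Subgroup Ω} (h12 : Z₁ ≤ Z₂) [Finite Q] (φ : MulAut Q)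
    (hφ : φ ∈ chainStab Z₁ Z₂ Q h12) : (φ ^ Nat.card Q) ^ Nat.card Q = 1 := by
  have step1 : ∀ a : Q, (a : Ω) ∈ Z₂ → (φ ^ Nat.card Q) a = a := by
    intro a ha
    have hc : ((φ a * a⁻¹ : Q) : Ω) ∈ Z₁ := ((mem_chainStab_iff Z₁ Z₂ Q h12 φ).mp hφ).2.1 a ha
    have h1 := aut_pow_apply_of_fix φ a (φ a * a⁻¹) (by simp)
      (((mem_chainStab_iff Z₁ Z₂ Q h12 φ).mp hφ).1 _ hc) (Nat.card Q)
    rw [h1, pow_card_eq_one', one_mul]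
  have hψ : φ ^ Nat.card Q ∈ chainStab Z₁ Z₂ Q h12 := Subgroup.pow_mem _ hφ _
  apply MulEquiv.ext
  intro q
  have hc : (((φ ^ Nat.card Q) q * q⁻¹ : Q) : Ω) ∈ Z₂ :=
    ((mem_chainStab_iff Z₁ Z₂ Q h12 _).mp hψ).2.2 q
  have h1 := aut_pow_apply_of_fix (φ ^ Nat.card Q) q ((φ ^ Nat.card Q) q * q⁻¹) (by simp)
    (step1 _ hc) (Nat.card Q)
  rw [h1, pow_card_eq_one', one_mul]
  rfl

theorem chainStab_isPGroup {Z₁ Z₂ Q : Subgroup Ω} (h12 : Z₁ ≤ Z₂) [Finite Q] (p : ℕ)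
    [Fact p.Prime] (hQ : IsPGroup p Q) (K : Subgroup (MulAut Q)) (hK : K ≤ chainStab Z₁ Z₂ Q h12) :
    IsPGroup p K := by
  obtain ⟨j, hj⟩ := IsPGroup.iff_card.mp hQ
  intro g
  refine ⟨j + j, ?_⟩
  apply Subtype.ext
  have h := chainStab_pow_eq_one h12 g.1 (hK g.2)
  rw [hj, ← pow_mul, ← pow_add] at h
  simpa using h

theorem autInducedBy_le_chainStab {S Z₁ Z₂ Q : Subgroup Ω} (h12 : Z₁ ≤ Z₂)
    (hc1 : ∀ u ∈ S, ∀ c ∈ Z₁, u * c = c * u)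
    (hc2 : ∀ u ∈ S, ∀ a ∈ Z₂, ⁅u, a⁆ ∈ Z₁)
    (hc3 : ∀ u ∈ S, ∀ q ∈ Q, ⁅u, q⁆ ∈ Z₂) : autInducedBy S Q ≤ chainStab Z₁ Z₂ Q h12 := by
  intro α hα
  obtain ⟨g, hg, hα'⟩ := (Helper84.mem_autInducedBy_iff S Q α).mp hα
  refine ⟨fun q hq => ?_, fun q hq => ?_, fun q => ?_⟩
  · apply Subtype.ext
    rw [hα' q, hc1 g hg q hq, mul_inv_cancel_right]
  · rw [hα' q]
    have := hc2 g hg q hq
    rwa [commutatorElement_def] at this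
  · rw [hα' q]
    have := hc3 g hg q q.2
    rwa [commutatorElement_def] at this

theorem conj_mem_chainStab {Z₁ Z₂ Q : Subgroup Ω} (h12 : Z₁ ≤ Z₂) [Finite Q] (θ : MulAut Q)
    (hθ1 : ∀ q : Q, (q : Ω) ∈ Z₁ → ((θ q : Q) : Ω) ∈ Z₁)
    (hθ2 : ∀ q : Q, (q : Ω) ∈ Z₂ → ((θ q : Q) : Ω) ∈ Z₂) (κ : MulAut Q)
    (hκ : κ ∈ chainStab Z₁ Z₂ Q h12) : θ * κ * θ⁻¹ ∈ chainStab Z₁ Z₂ Q h12 := by
  have hi1 : ∀ q : Q, (q : Ω) ∈ Z₁ → ((θ⁻¹ q : Q) : Ω) ∈ Z₁ :=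
    aut_inv_mem_of_mem θ {q : Q | (q : Ω) ∈ Z₁} hθ1
  have hi2 : ∀ q : Q, (q : Ω) ∈ Z₂ → ((θ⁻¹ q : Q) : Ω) ∈ Z₂ :=
    aut_inv_mem_of_mem θ {q : Q | (q : Ω) ∈ Z₂} hθ2
  have key : ∀ q : Q, θ (κ (θ⁻¹ q) * (θ⁻¹ q)⁻¹) = θ (κ (θ⁻¹ q)) * q⁻¹ := fun q => by simp
  refine ⟨fun q hq => ?_, fun q hq => ?_, fun q => ?_⟩
  · show θ (κ (θ⁻¹ q)) = q
    rw [hκ.1 _ (hi1 q hq)]
    simp
  · show ((θ (κ (θ⁻¹ q)) : Q) : Ω) * (q : Ω)⁻¹ ∈ Z₁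
    have h1 : ((κ (θ⁻¹ q) * (θ⁻¹ q)⁻¹ : Q) : Ω) ∈ Z₁ := hκ.2.1 _ (hi2 q hq)
    have h2 := hθ1 _ h1
    rw [key q] at h2
    exact h2
  · show ((θ (κ (θ⁻¹ q)) : Q) : Ω) * (q : Ω)⁻¹ ∈ Z₂
    have h1 : ((κ (θ⁻¹ q) * (θ⁻¹ q)⁻¹ : Q) : Ω) ∈ Z₂ := hκ.2.2 _
    have h2 := hθ2 _ h1
    rw [key q] at h2
    exact h2

end FusChain

theorem extend_of_chain {Ω : Type*} [Group Ω] {S : Subgroup Ω} [Finite S] (p : ℕ) [Fact p.Prime]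
    (hS : IsPGroup p S) (F : Cfsg.FusionSystem S) (hF : F.IsSaturated p)
    (Z₁ Z₂ Q : Subgroup Ω) (h12 : Z₁ ≤ Z₂) (h2Q : Z₂ ≤ Q) (hQS : Q ≤ S)
    (hc1 : ∀ u ∈ S, ∀ c ∈ Z₁, u * c = c * u)
    (hc2 : ∀ u ∈ S, ∀ a ∈ Z₂, ⁅u, a⁆ ∈ Z₁)
    (hc3 : ∀ u ∈ S, ∀ q ∈ Q, ⁅u, q⁆ ∈ Z₂)
    (θ : MulAut Q) (hθ : θ ∈ F.autGroup Q)
    (hθ1 : ∀ q : Q, (q : Ω) ∈ Z₁ → ((θ q : Q) : Ω) ∈ Z₁)
    (hθ2 : ∀ q : Q, (q : Ω) ∈ Z₂ → ((θ q : Q) : Ω) ∈ Z₂) :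
    ∃ ψ : S →* Ω, ψ ∈ F.Hom S ∧ ∀ q : Q, ψ ⟨q, hQS q.2⟩ = ((θ q : Q) : Ω) := by
  haveI : Finite Q := Helper84.finite_of_le hQS
  have hn : S ≤ Subgroup.normalizer (Q : Set Ω) := fus_normal_of_comm h2Q hc3
  have hfn : F.IsFullyNormalized Q := fus_fullyNormalized_of_normal F hQS hn
  obtain ⟨hfa, hrec⟩ := Helper84.saturated_fullyNormalized hS F hF hfn
  obtain ⟨K, hKdef⟩ : ∃ K : Subgroup (MulAut Q), K = chainStab Z₁ Z₂ Q h12 ⊓ F.autGroup Q :=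
    ⟨_, rfl⟩
  have hK1 : K ≤ chainStab Z₁ Z₂ Q h12 := by rw [hKdef]; exact inf_le_left
  have hK2 : K ≤ F.autGroup Q := by rw [hKdef]; exact inf_le_right
  have hKp : IsPGroup p K := chainStab_isPGroup h12 p (hS.to_le hQS) K hK1
  have hSK : autInducedBy S Q ≤ K := by
    rw [hKdef]
    exact le_inf (autInducedBy_le_chainStab h12 hc1 hc2 hc3)
      (Helper84.autInducedBy_le_autGroup F hQS)
  have hcard := (Helper84.fullyAutomized_iff hS F hQS).mp hfa K hK2 hKp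
  have hKeq : autInducedBy S Q = K := Subgroup.eq_of_le_of_card_ge hSK hcard
  refine Helper29.exists_extension_of_conj p hS F hF Q hfn θ hθ S hQS le_rfl hn ?_
  intro g hg
  have hc : Q.normalizerMonoidHom ⟨g, hn hg⟩ ∈ autInducedBy S Q :=
    Helper84.conjAut_mem_autInducedBy hg (hn hg)
  have hmem : θ * Q.normalizerMonoidHom ⟨g, hn hg⟩ * θ⁻¹ ∈ autInducedBy S Q := by
    rw [hKeq, hKdef]
    refine Subgroup.mem_inf.mpr ⟨conj_mem_chainStab h12 θ hθ1 hθ2 _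
      (autInducedBy_le_chainStab h12 hc1 hc2 hc3 hc), ?_⟩
    exact (F.autGroup Q).mul_mem ((F.autGroup Q).mul_mem hθ
      (Helper84.autInducedBy_le_autGroup F hQS hc)) ((F.autGroup Q).inv_mem hθ)
  obtain ⟨g', hg'S, hg'N, heq⟩ := (Helper84.mem_autInducedBy_iff_conjAut S Q _).mp hmem
  exact ⟨g', hg'S, hg'N, heq⟩

end Cfsg.Agent.Helper41
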