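import Mathlib
import Cfsg.Prelude.Def_FusionSystem
import Cfsg.Agent.Helper41.FusChainA

/-!
# Piece N2 of CALL S5289 batch 3 (helper87): `radical_of_moved_axis`

If an `F`-automorphism of the normal subgroup `Q` of `S` moves the axis `Z₂`, then `Q` is
centric, fully normalized and radical.
-/

set_option autoImplicit false

namespace Cfsg.Agent.Helper41

open Cfsg Cfsg.FusionSystem
open scoped commutatorElement

theorem radical_of_moved_axis {Ω : Type*} [Group Ω] {S : Subgroup Ω} [Finite S] (p : ℕ) [Fact p.Prime]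
    (hS : IsPGroup p S) (F : Cfsg.FusionSystem S) (hF : F.IsSaturated p)
    (Z₁ Z₂ Q : Subgroup Ω) (h12 : Z₁ ≤ Z₂) (h2Q : Z₂ ≤ Q) (hQS : Q ≤ S)
    (hc1 : ∀ u ∈ S, ∀ c ∈ Z₁, u * c = c * u)
    (hc2 : ∀ u ∈ S, ∀ a ∈ Z₂, ⁅u, a⁆ ∈ Z₁)
    (hc3 : ∀ u ∈ S, ∀ q ∈ Q, ⁅u, q⁆ ∈ Z₂)
    (hfix : ∀ u ∈ S, u ∉ Q → ∀ q ∈ Q, ⁅u, q⁆ ∈ Z₁ → q ∈ Z₂)
    (hcen : ∀ u ∈ S, (∀ q ∈ Q, u * q = q * u) → u ∈ Q)
    (θ : MulAut Q) (hθ : θ ∈ F.autGroup Q)
    (hθ1 : ∀ q : Q, (q : Ω) ∈ Z₁ → ((θ q : Q) : Ω) ∈ Z₁)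
    (hθ2 : ∃ q : Q, (q : Ω) ∈ Z₂ ∧ ((θ q : Q) : Ω) ∉ Z₂) :
    F.IsCentric Q ∧ F.IsFullyNormalized Q ∧ F.IsRadical p Q := by
  haveI : Finite Q := Helper84.finite_of_le hQS
  have hQp : IsPGroup p Q := hS.to_le hQS
  have hn : S ≤ Subgroup.normalizer (Q : Set Ω) := fus_normal_of_comm h2Q hc3
  have hfn : F.IsFullyNormalized Q := fus_fullyNormalized_of_normal F hQS hn
  obtain ⟨hfa, hrec⟩ := Helper84.saturated_fullyNormalized hS F hF hfn
  have hfc := Helper84.receptive_fullyCentralized F Q hrec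
  have hcent : centralizerIn S Q ≤ Q := by
    intro u hu
    have hu' : u ∈ S ∧ u ∈ Subgroup.centralizer (Q : Set Ω) := Subgroup.mem_inf.mp hu
    exact hcen u hu'.1 (fun q hq => (Subgroup.mem_centralizer_iff.mp hu'.2 q hq).symm)
  refine ⟨Helper84.centric_of_centralizerIn_le F hfc hcent, hfn, hQS, ?_⟩
  obtain ⟨R, hR⟩ := hfa.2
  have hcoreN : (pCore p (F.autGroup Q)).Normal := by
    unfold pCore
    constructor
    intro x hx g
    have hle : sSup {N : Subgroup (F.autGroup Q) | N.Normal ∧ IsPGroup p N} ≤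
        (sSup {N : Subgroup (F.autGroup Q) | N.Normal ∧ IsPGroup p N}).comap
          (MulAut.conj g).toMonoidHom := by
      apply sSup_le
      intro N hN y hy
      rw [Subgroup.mem_comap]
      exact le_sSup hN (hN.1.conj_mem y hy g)
    exact hle hx
  have hcore : pCore p (F.autGroup Q) ≤ (R : Subgroup (F.autGroup Q)) := by
    unfold pCore
    refine sSup_le ?_
    rintro N ⟨hN, hNp⟩
    haveI := hN
    exact hNp.le_sylow_of_normal R
  have hind : ∀ k : F.autGroup Q, k ∈ pCore p (F.autGroup Q) →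
      ∃ u ∈ S, ∀ x : Q, (((k : MulAut Q) x : Q) : Ω) = u * (x : Ω) * u⁻¹ := by
    intro k hk
    have h1 : k ∈ (R : Subgroup (F.autGroup Q)) := hcore hk
    rw [hR, Subgroup.mem_subgroupOf] at h1
    exact (Helper84.mem_autInducedBy_iff S Q _).mp h1
  apply le_antisymm
  · rintro _ ⟨k, hk, rfl⟩
    obtain ⟨u, huS, hu⟩ := hind k hk
    have hk' : (⟨θ, hθ⟩ : F.autGroup Q)⁻¹ * k * ⟨θ, hθ⟩ ∈ pCore p (F.autGroup Q) := by
      have := hcoreN.conj_mem k hk (⟨θ, hθ⟩ : F.autGroup Q)⁻¹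
      rwa [inv_inv] at this
    obtain ⟨u', hu'S, hu'⟩ := hind _ hk'
    have huQ : u ∈ Q := by
      by_contra huQ
      obtain ⟨a, haZ, hθa⟩ := hθ2
      apply hθa
      apply hfix u huS huQ _ (θ a).2
      -- `⁅u, θ a⁆ = θ (k' a * a⁻¹)` and `k' a * a⁻¹ = ⁅u', a⁆ ∈ Z₁`
      have h1 : (((θ⁻¹ * (k : MulAut Q) * θ) a * a⁻¹ : Q) : Ω) ∈ Z₁ := by
        have h2 := hc2 u' hu'S a haZ
        rw [commutatorElement_def] at h2
        have h3 := hu' a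
        have h4 : (((θ⁻¹ * (k : MulAut Q) * θ) a : Q) : Ω) = u' * (a : Ω) * u'⁻¹ := h3
        show (((θ⁻¹ * (k : MulAut Q) * θ) a : Q) : Ω) * (a : Ω)⁻¹ ∈ Z₁
        rw [h4]
        exact h2
      have h5 := hθ1 _ h1
      have h6 : θ ((θ⁻¹ * (k : MulAut Q) * θ) a * a⁻¹) = (k : MulAut Q) (θ a) * (θ a)⁻¹ := by
        simp [MulAut.mul_apply]
      rw [h6] at h5
      rw [commutatorElement_def]
      have h7 : ((((k : MulAut Q) (θ a) * (θ a)⁻¹ : Q)) : Ω) =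
          u * ((θ a : Q) : Ω) * u⁻¹ * ((θ a : Q) : Ω)⁻¹ := by
        show ((((k : MulAut Q) (θ a) : Q)) : Ω) * ((θ a : Q) : Ω)⁻¹ = _
        rw [hu (θ a)]
      rw [h7] at h5
      exact h5
    refine ⟨⟨u, huQ⟩, ?_⟩
    apply MulEquiv.ext
    intro x
    apply Subtype.ext
    show u * (x : Ω) * u⁻¹ = _
    exact (hu x).symm
  · intro x hx
    have hxF : x ∈ F.autGroup Q := Helper84.inn_le_autGroup F hQS hx
    refine ⟨⟨x, hxF⟩, ?_, rfl⟩
    have hI : IsPGroup p ((Inn Q).subgroupOf (F.autGroup Q)) :=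
      (Helper84.isPGroup_inn hQp).comap_subtype
    have hle : (Inn Q).subgroupOf (F.autGroup Q) ≤ pCore p (F.autGroup Q) := by
      unfold pCore
      exact le_sSup ⟨inferInstance, hI⟩
    exact hle (Subgroup.mem_subgroupOf.mpr hx)

end Cfsg.Agent.Helper41
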