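import Mathlib

set_option autoImplicit false

namespace Cfsg.Agent.Helper41

open Polynomial

section Additive

variable {p q : ℕ} [Fact p.Prime] [Fact q.Prime]
variable {V : Type*} [AddCommGroup V] [Module (ZMod p) V]

/-- An additive map semiconjugating `T` to `T ^ j` semiconjugates polynomials in `T`. -/
theorem semiconj_aeval (T : Module.End (ZMod p) V) (S : V →+ V) (j : ℕ)
    (hS : ∀ v, S (T v) = (T ^ j) (S v)) (f : (ZMod p)[X]) (v : V) :
    S (aeval T f v) = aeval (T ^ j) f (S v) := by
  have hpow : ∀ n : ℕ, ∀ v, S ((T ^ n) v) = ((T ^ j) ^ n) (S v) := by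
    intro n
    induction n with
    | zero => intro v; simp
    | succ n ih =>
      intro v
      rw [pow_succ, Module.End.mul_apply, ih, hS, pow_succ, Module.End.mul_apply]
  induction f using Polynomial.induction_on' with
  | add f g hf hg => simp only [map_add, LinearMap.add_apply, hf, hg]
  | monomial n a =>
    rw [aeval_monomial, aeval_monomial, Module.End.mul_apply, Module.End.mul_apply,
      Module.algebraMap_end_apply, Module.algebraMap_end_apply, ZMod.map_smul, hpow]

theorem aeval_pow_eq_comp (T : Module.End (ZMod p) V) (j : ℕ) (f : (ZMod p)[X]) :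
    aeval (T ^ j) f = aeval T (f.comp (X ^ j)) := by
  rw [aeval_comp, aeval_X_pow]

variable [Finite V]

/-- Under the twisted transitivity hypothesis, every polynomial in `T` is zero or injective. -/
theorem aeval_zero_or_injective (T : Module.End (ZMod p) V)
    (htrans : ∀ y y' : V, y ≠ 0 → y' ≠ 0 → ∃ (S : V →+ V) (j : ℕ), Function.Injective S ∧
      S y = y' ∧ ∀ v, S (T v) = (T ^ j) (S v))
    (f : (ZMod p)[X]) : aeval T f = 0 ∨ Function.Injective (aeval T f) := by
  by_contra hcon
  push Not at hcon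
  obtain ⟨h0, hninj⟩ := hcon
  -- the cyclic submodules
  let W : V → Set V := fun y => Set.range (fun g : (ZMod p)[X] => aeval T g y)
  have hself : ∀ y, y ∈ W y := fun y => ⟨1, by simp⟩
  have hsub : ∀ y z, z ∈ W y → W z ⊆ W y := by
    rintro y z ⟨g, rfl⟩ _ ⟨h, rfl⟩
    exact ⟨h * g, by simp⟩
  have hle : ∀ y y', y ≠ 0 → y' ≠ 0 → (W y).ncard ≤ (W y').ncard := by
    intro y y' hy hy'
    obtain ⟨S, j, hSinj, hSy, hS⟩ := htrans y y' hy hy'
    have himg : S '' (W y) ⊆ W y' := by
      rintro _ ⟨_, ⟨g, rfl⟩, rfl⟩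
      refine ⟨g.comp (X ^ j), ?_⟩
      simp only
      rw [semiconj_aeval T S j hS, hSy, aeval_pow_eq_comp]
    calc (W y).ncard = (S '' (W y)).ncard := (Set.ncard_image_of_injective _ hSinj).symm
      _ ≤ (W y').ncard := Set.ncard_le_ncard himg (Set.toFinite _)
  have heq : ∀ y z, y ≠ 0 → z ≠ 0 → z ∈ W y → W z = W y := by
    intro y z hy hz hzy
    exact Set.eq_of_subset_of_ncard_le (hsub y z hzy) (hle y z hy hz) (Set.toFinite _)
  -- witnesses
  obtain ⟨y2, hy2⟩ : ∃ y2, aeval T f y2 ≠ 0 := by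
    by_contra h
    push Not at h
    exact h0 (LinearMap.ext h)
  obtain ⟨y1, hy1, hy10⟩ : ∃ y1, aeval T f y1 = 0 ∧ y1 ≠ 0 := by
    by_contra h
    push Not at h
    apply hninj
    rw [injective_iff_map_eq_zero]
    exact h
  have hy20 : y2 ≠ 0 := by
    rintro rfl
    simp at hy2
  set y := y1 + y2 with hy
  have hAy : aeval T f y = aeval T f y2 := by rw [hy, map_add, hy1, zero_add]
  have hy0 : y ≠ 0 := by
    intro h
    rw [h, map_zero] at hAy
    exact hy2 hAy.symm
  have hz1 : aeval T f y2 ∈ W y := ⟨f, hAy⟩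
  have hz2 : aeval T f y2 ∈ W y2 := ⟨f, rfl⟩
  have hW : W y = W y2 := (heq y _ hy0 hy2 hz1).symm.trans (heq y2 _ hy20 hy2 hz2)
  have hyW : y ∈ W y2 := hW ▸ hself y
  obtain ⟨b, hb⟩ := hyW
  have hy1W : y1 ∈ W y2 := by
    refine ⟨b - 1, ?_⟩
    simp only at hb
    simp only [map_sub, map_one, LinearMap.sub_apply, Module.End.one_apply, hb, hy]
    abel
  have hW1 : W y1 = W y2 := heq y2 y1 hy20 hy10 hy1W
  have hy2W : y2 ∈ W y1 := hW1 ▸ hself y2
  obtain ⟨c, hc⟩ := hy2W
  simp only at hc
  apply hy2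
  rw [← hc, ← Module.End.mul_apply, ← map_mul, mul_comm, map_mul, Module.End.mul_apply, hy1,
    map_zero]

variable [Nontrivial V]

/-- The minimal polynomial of `T` is irreducible when every polynomial in `T` is zero or
injective. -/
theorem minpoly_irreducible_of_zero_or_injective (T : Module.End (ZMod p) V)
    (h01 : ∀ f : (ZMod p)[X], aeval T f = 0 ∨ Function.Injective (aeval T f)) :
    Irreducible (minpoly (ZMod p) T) := by
  have hint : IsIntegral (ZMod p) T := IsIntegral.of_finite (ZMod p) T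
  have hm0 : minpoly (ZMod p) T ≠ 0 := minpoly.ne_zero hint
  rw [irreducible_iff]
  refine ⟨minpoly.not_isUnit (ZMod p) T, ?_⟩
  intro a b hab
  have hprod : aeval T a * aeval T b = 0 := by
    rw [← map_mul, ← hab, minpoly.aeval]
  rcases h01 a with ha | ha
  · right
    obtain ⟨c, hc⟩ := minpoly.dvd (ZMod p) T ha
    have h1 : minpoly (ZMod p) T * (c * b) = minpoly (ZMod p) T * 1 := by
      rw [mul_one, ← mul_assoc, ← hc, ← hab]
    exact IsUnit.of_mul_eq_one_right c (mul_left_cancel₀ hm0 h1)
  · left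
    have hb : aeval T b = 0 := by
      apply LinearMap.ext
      intro v
      apply ha
      rw [← Module.End.mul_apply, hprod]
      simp
    obtain ⟨c, hc⟩ := minpoly.dvd (ZMod p) T hb
    have h1 : minpoly (ZMod p) T * (a * c) = minpoly (ZMod p) T * 1 := by
      rw [mul_one, mul_left_comm, ← hc, ← hab]
    exact IsUnit.of_mul_eq_one c (mul_left_cancel₀ hm0 h1)

/-- Main linear-algebra statement: `p` is a primitive root modulo `q`. -/
theorem prim_root_add (hpq : p ≠ q) (T : Module.End (ZMod p) V) (hTq : T ^ q = 1)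
    (hfix : ∀ v, T v = v → v = 0)
    (hconj : ∀ j, 0 < j → j < q → ∃ S : V →+ V, Function.Injective S ∧
      ∀ v, S (T v) = (T ^ j) (S v))
    (htrans : ∀ y y' : V, y ≠ 0 → y' ≠ 0 → ∃ (S : V →+ V) (j : ℕ), Function.Injective S ∧
      S y = y' ∧ ∀ v, S (T v) = (T ^ j) (S v)) :
    orderOf (p : ZMod q) = q - 1 := by
  have hp : p.Prime := Fact.out
  have hq : q.Prime := Fact.out
  have h01 := aeval_zero_or_injective T htrans
  have hirr := minpoly_irreducible_of_zero_or_injective T h01
  set m := minpoly (ZMod p) T with hm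
  have hm0 : m ≠ 0 := hirr.ne_zero
  -- `T - 1` is not zero
  have hX1 : ¬ m ∣ (X - 1) := by
    rintro ⟨c, hc⟩
    have h1 : aeval T (X - 1 : (ZMod p)[X]) = 0 := by
      rw [hc, map_mul, hm, minpoly.aeval, zero_mul]
    obtain ⟨v, hv⟩ := exists_ne (0 : V)
    apply hv
    apply hfix
    have h2 := LinearMap.congr_fun h1 v
    simp only [map_sub, aeval_X, map_one, LinearMap.sub_apply, Module.End.one_apply,
      LinearMap.zero_apply] at h2
    exact sub_eq_zero.mp h2
  have hXq : m ∣ (X ^ q - 1) := by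
    apply minpoly.dvd
    simp [hTq]
  have hcyc : m ∣ cyclotomic q (ZMod p) := by
    have h1 : m ∣ cyclotomic q (ZMod p) * (X - 1) := by
      rw [cyclotomic_prime_mul_X_sub_one]
      exact hXq
    rcases hirr.prime.dvd_or_dvd h1 with h | h
    · exact h
    · exact absurd h hX1
  -- the degree of `m`
  have hcop : p.Coprime q := (Nat.coprime_primes hp hq).mpr hpq
  have hdeg := natDegree_of_dvd_cyclotomic_of_irreducible (K := ZMod p) (p := p) (f := 1)
    (n := q) (by simp [ZMod.card]) hcop hcyc hirr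
  rw [← orderOf_units, ZMod.coe_unitOfCoprime, pow_one] at hdeg
  -- roots in the field `AdjoinRoot m`
  have : Fact (Irreducible m) := ⟨hirr⟩
  set ρ := AdjoinRoot.root m with hρ
  have hρm : aeval ρ m = 0 := by
    rw [AdjoinRoot.aeval_eq, AdjoinRoot.mk_self]
  have hρq : ρ ^ q = 1 := by
    obtain ⟨c, hc⟩ := hXq
    have h1 : aeval ρ (X ^ q - 1 : (ZMod p)[X]) = 0 := by
      rw [hc, map_mul, hρm, zero_mul]
    simpa [sub_eq_zero] using h1
  have hρ1 : ρ ≠ 1 := by
    intro h1
    apply hX1
    rw [← AdjoinRoot.mk_eq_zero]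
    simp only [map_sub, AdjoinRoot.mk_X, map_one]
    rw [← hρ, h1, sub_self]
  have hordρ : orderOf ρ = q := orderOf_eq_prime hρq hρ1
  have hroots : ∀ j, 0 < j → j < q → ρ ^ j ∈ m.aroots (AdjoinRoot m) := by
    intro j hj0 hjq
    rw [mem_aroots]
    refine ⟨hm0, ?_⟩
    obtain ⟨S, hSinj, hS⟩ := hconj j hj0 hjq
    have hSsurj : Function.Surjective S := Finite.injective_iff_surjective.mp hSinj
    have h1 : aeval (T ^ j) m = 0 := by
      apply LinearMap.ext
      intro w
      obtain ⟨v, rfl⟩ := hSsurj w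
      rw [← semiconj_aeval T S j hS, hm, minpoly.aeval]
      simp
    rw [aeval_pow_eq_comp] at h1
    obtain ⟨c, hc⟩ := minpoly.dvd (ZMod p) T h1
    have h2 : aeval ρ (m.comp (X ^ j)) = 0 := by
      rw [hc, map_mul, hρm, zero_mul]
    rwa [aeval_comp, aeval_X_pow] at h2
  have hcard : q - 1 ≤ m.natDegree := by
    classical
    have h1 : ((Finset.Ioo 0 q).image (fun j => ρ ^ j)).card = q - 1 := by
      rw [Finset.card_image_of_injOn, Nat.card_Ioo]
      · omega
      · intro a ha b hb hab
        simp only [Finset.coe_Ioo, Set.mem_Ioo] at ha hb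
        exact pow_injOn_Iio_orderOf (x := ρ) (by rw [hordρ]; exact ha.2) (by rw [hordρ]; exact hb.2)
          hab
    have h2 : (Finset.Ioo 0 q).image (fun j => ρ ^ j) ⊆ (m.aroots (AdjoinRoot m)).toFinset := by
      intro z hz
      obtain ⟨j, hj, rfl⟩ := Finset.mem_image.mp hz
      rw [Multiset.mem_toFinset]
      rw [Finset.mem_Ioo] at hj
      exact hroots j hj.1 hj.2
    calc q - 1 = ((Finset.Ioo 0 q).image (fun j => ρ ^ j)).card := h1.symm
      _ ≤ (m.aroots (AdjoinRoot m)).toFinset.card := Finset.card_le_card h2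
      _ ≤ Multiset.card (m.aroots (AdjoinRoot m)) := Multiset.toFinset_card_le _
      _ ≤ (m.map (algebraMap (ZMod p) (AdjoinRoot m))).natDegree := Polynomial.card_roots' _
      _ = m.natDegree := natDegree_map _
  -- the order divides `q - 1`
  have hne0 : ((p : ℕ) : ZMod q) ≠ 0 := by
    rw [Ne, ZMod.natCast_eq_zero_iff]
    intro hdvd
    exact hpq ((Nat.prime_dvd_prime_iff_eq hq hp).mp hdvd).symm
  have hdvd : orderOf ((p : ℕ) : ZMod q) ∣ q - 1 :=
    orderOf_dvd_of_pow_eq_one (ZMod.pow_card_sub_one_eq_one hne0)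
  have hle : orderOf ((p : ℕ) : ZMod q) ≤ q - 1 :=
    Nat.le_of_dvd (by have := hq.two_le; omega) hdvd
  omega

end Additive

section Multiplicative

variable {p q : ℕ} [Fact p.Prime] [Fact q.Prime]

/-- The `ZMod p`-module structure on an abelian group of exponent `p`, written additively. -/
@[reducible] noncomputable def zmodModuleOfExp {A : Type*} [CommGroup A] (p : ℕ)
    (hAp : ∀ a : A, a ^ p = 1) : Module (ZMod p) (Additive A) :=
  AddCommGroup.zmodModule (n := p) (fun x => by
    have h := hAp (Additive.toMul x)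
    have h2 : Additive.ofMul (Additive.toMul x ^ p) = 0 := by rw [h]; rfl
    rwa [ofMul_pow] at h2)

/-- The linear map on `Additive A` induced by an endomorphism of `A`. -/
noncomputable def linOfHom {A : Type*} [CommGroup A] (p : ℕ) (hAp : ∀ a : A, a ^ p = 1)
    (t : A →* A) :
    @Module.End (ZMod p) (Additive A) _ _ (zmodModuleOfExp p hAp) :=
  letI := zmodModuleOfExp p hAp
  (MonoidHom.toAdditive t).toZModLinearMap p

theorem linOfHom_pow_apply {A : Type*} [CommGroup A] (p : ℕ) (hAp : ∀ a : A, a ^ p = 1)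
    (t : A →* A) (j : ℕ) (v : Additive A) :
    letI := zmodModuleOfExp p hAp
    (linOfHom p hAp t ^ j) v = Additive.ofMul (t^[j] (Additive.toMul v)) := by
  letI := zmodModuleOfExp p hAp
  induction j with
  | zero => simp
  | succ j ih =>
    rw [pow_succ', Module.End.mul_apply, ih, Function.iterate_succ_apply']
    rfl

/-- Multiplicative form of `prim_root_add`. -/
theorem prim_root_mul (hpq : p ≠ q)
    {A : Type*} [CommGroup A] [Finite A] [Nontrivial A] (hAp : ∀ a : A, a ^ p = 1)
    (t : A →* A) (htq : ∀ a, t^[q] a = a) (hfix : ∀ a, t a = a → a = 1)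
    (hconj : ∀ j, 0 < j → j < q → ∃ S : A →* A, Function.Injective S ∧
      ∀ a, S (t a) = t^[j] (S a))
    (htrans : ∀ y y' : A, y ≠ 1 → y' ≠ 1 → ∃ (S : A →* A) (j : ℕ), Function.Injective S ∧
      S y = y' ∧ ∀ a, S (t a) = t^[j] (S a)) :
    orderOf (p : ZMod q) = q - 1 := by
  letI := zmodModuleOfExp p hAp
  have hT := linOfHom_pow_apply p hAp t
  have hT1 : ∀ v : Additive A, linOfHom p hAp t v = Additive.ofMul (t (Additive.toMul v)) :=
    fun v => rfl
  refine prim_root_add hpq (linOfHom p hAp t) ?_ ?_ ?_ ?_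
  · apply LinearMap.ext
    intro v
    rw [hT, htq]
    rfl
  · intro v hv
    rw [hT1] at hv
    have h1 := hfix (Additive.toMul v) (congrArg Additive.toMul hv)
    exact congrArg Additive.ofMul h1
  · intro j hj0 hjq
    obtain ⟨S, hSinj, hS⟩ := hconj j hj0 hjq
    refine ⟨MonoidHom.toAdditive S, ?_, ?_⟩
    · intro a b hab
      exact congrArg Additive.ofMul (hSinj (congrArg Additive.toMul hab))
    · intro v
      rw [hT, hT1]
      exact congrArg Additive.ofMul (hS (Additive.toMul v))
  · intro y y' hy hy'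
    obtain ⟨S, j, hSinj, hSy, hS⟩ := htrans (Additive.toMul y) (Additive.toMul y')
      (fun h => hy (congrArg Additive.ofMul h)) (fun h => hy' (congrArg Additive.ofMul h))
    refine ⟨MonoidHom.toAdditive S, j, ?_, ?_, ?_⟩
    · intro a b hab
      exact congrArg Additive.ofMul (hSinj (congrArg Additive.toMul hab))
    · exact congrArg Additive.ofMul hSy
    · intro v
      rw [hT, hT1]
      exact congrArg Additive.ofMul (hS (Additive.toMul v))

end Multiplicative

end Cfsg.Agent.Helper41
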