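import Mathlib
import Cfsg.Agent.Helper41.LMPrim

set_option autoImplicit false

namespace Cfsg.Agent.Helper41

open Polynomial

section Structure

variable {p : ℕ} [Fact p.Prime] {V : Type*} [AddCommGroup V] [Module (ZMod p) V]

/-- The ring hom `AdjoinRoot f → End V` sending the root to `T`, when `f(T) = 0`. -/
noncomputable def adjoinRootToEnd (f : (ZMod p)[X]) (T : Module.End (ZMod p) V)
    (h : aeval T f = 0) : AdjoinRoot f →+* Module.End (ZMod p) V :=
  Ideal.Quotient.lift (Ideal.span {f}) (aeval T).toRingHom (by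
    intro a ha
    obtain ⟨c, rfl⟩ := Ideal.mem_span_singleton.mp ha
    simp [h])

theorem adjoinRootToEnd_root (f : (ZMod p)[X]) (T : Module.End (ZMod p) V)
    (h : aeval T f = 0) : adjoinRootToEnd f T h (AdjoinRoot.root f) = T := by
  have h1 : adjoinRootToEnd f T h (AdjoinRoot.root f) = aeval T (X : (ZMod p)[X]) := rfl
  rw [h1, aeval_X]

end Structure

/-- Two finite vector spaces over a finite field with the same cardinality are isomorphic. -/
theorem nonempty_linearEquiv_of_card_eq (K : Type*) [Field K] [Finite K] (V W : Type*)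
    [AddCommGroup V] [Module K V] [Finite V] [AddCommGroup W] [Module K W] [Finite W]
    (h : Nat.card V = Nat.card W) : Nonempty (V ≃ₗ[K] W) := by
  have h1 := Module.natCard_eq_pow_finrank (K := K) (V := V)
  have h2 := Module.natCard_eq_pow_finrank (K := K) (V := W)
  have hK : 2 ≤ Nat.card K := Finite.one_lt_card
  have hfr : Module.finrank K V = Module.finrank K W :=
    Nat.pow_right_injective hK (h1.symm.trans (h.trans h2))
  exact ⟨LinearEquiv.ofFinrankEq V W hfr⟩

/-- A copy of a type, used to carry a second module structure. -/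
def TwistCopy (V : Type*) := V

instance (V : Type*) [AddCommGroup V] : AddCommGroup (TwistCopy V) :=
  inferInstanceAs (AddCommGroup V)

instance (V : Type*) [Finite V] : Finite (TwistCopy V) := inferInstanceAs (Finite V)

theorem exists_addEquiv_twistCopy (K : Type*) [Field K] [Finite K] (V : Type*)
    [AddCommGroup V] [Finite V] [Module K V] [Module K (TwistCopy V)] :
    ∃ S : V ≃+ TwistCopy V, ∀ (k : K) (v : V), S (k • v) = k • S v := by
  obtain ⟨e⟩ := nonempty_linearEquiv_of_card_eq K V (TwistCopy V) rfl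
  exact ⟨e.toAddEquiv, fun k v => e.map_smul k v⟩

/-- Two module structures over a finite field on the same finite abelian group are related by
an additive automorphism. -/
theorem exists_addEquiv_of_modules (K : Type*) [Field K] [Finite K] (V : Type*)
    [AddCommGroup V] [Finite V] (m1 m2 : Module K V) :
    ∃ S : V ≃+ V, ∀ (k : K) (v : V), S (m1.smul k v) = m2.smul k (S v) :=
  @exists_addEquiv_twistCopy K _ _ V _ _ m1 m2

/-- The general linear group is transitive on nonzero vectors. -/
theorem exists_linearEquiv_apply_eq (K : Type*) [Field K] (V : Type*) [AddCommGroup V]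
    [Module K V] (y y' : V) (hy : y ≠ 0) (hy' : y' ≠ 0) : ∃ S : V ≃ₗ[K] V, S y = y' := by
  let f : (K ∙ y) ≃ₗ[K] (K ∙ y') :=
    (LinearEquiv.toSpanNonzeroSingleton K V y hy).symm ≪≫ₗ
      LinearEquiv.toSpanNonzeroSingleton K V y' hy'
  obtain ⟨g, hg⟩ := Submodule.exists_linearEquiv_restrict_eq f
  refine ⟨g, ?_⟩
  have h1 := hg ⟨y, Submodule.mem_span_singleton_self y⟩
  rw [← h1]
  have h2 : (LinearEquiv.toSpanNonzeroSingleton K V y hy).symm
      ⟨y, Submodule.mem_span_singleton_self y⟩ = 1 := by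
    rw [LinearEquiv.symm_apply_eq]
    exact (LinearEquiv.toSpanNonzeroSingleton_one K V y hy).symm
  simp only [f, LinearEquiv.trans_apply, h2, LinearEquiv.toSpanNonzeroSingleton_one]

section Additive

variable {p q : ℕ} [Fact p.Prime] [Fact q.Prime]
variable {V : Type*} [AddCommGroup V] [Module (ZMod p) V] [Finite V]

/-- Linear-algebra core of the backward direction. -/
theorem lm_back_add (hpq : p ≠ q) (hprim : orderOf (p : ZMod q) = q - 1)
    (T : Module.End (ZMod p) V) (hTq : T ^ q = 1)
    (hfix : ∀ j, 0 < j → j < q → ∀ v, (T ^ j) v = v → v = 0) :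
    (∀ y y' : V, y ≠ 0 → y' ≠ 0 → ∃ S : V ≃+ V, S y = y' ∧ ∀ v, S (T v) = T (S v)) ∧
    (∀ j, 0 < j → j < q → ∃ S : V ≃+ V, ∀ v, S (T v) = (T ^ j) (S v)) := by
  have hp : p.Prime := Fact.out
  have hq : q.Prime := Fact.out
  have hndvd : ¬ p ∣ q := fun h => hpq ((Nat.prime_dvd_prime_iff_eq hp hq).mp h)
  have hirr : Irreducible (cyclotomic q (ZMod p)) := by
    apply ZMod.irreducible_of_dvd_cyclotomic_of_natDegree hndvd dvd_rfl
    rw [natDegree_cyclotomic, Nat.totient_prime hq, ← orderOf_units, ZMod.coe_unitOfCoprime,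
      hprim]
  have : Fact (Irreducible (cyclotomic q (ZMod p))) := ⟨hirr⟩
  have : Module.Finite (ZMod p) (AdjoinRoot (cyclotomic q (ZMod p))) :=
    (cyclotomic.monic q (ZMod p)).finite_adjoinRoot
  have : Finite (AdjoinRoot (cyclotomic q (ZMod p))) := Module.finite_of_finite (ZMod p)
  have hΦ : ∀ j, 0 < j → j < q → aeval (T ^ j) (cyclotomic q (ZMod p)) = 0 := by
    intro j hj0 hjq
    have h1 : aeval (T ^ j) ((X - 1) * cyclotomic q (ZMod p)) = 0 := by
      rw [mul_comm, cyclotomic_prime_mul_X_sub_one]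
      simp only [map_sub, map_pow, aeval_X, map_one]
      rw [← pow_mul, mul_comm, pow_mul, hTq, one_pow, sub_self]
    apply LinearMap.ext
    intro v
    rw [map_mul] at h1
    have h2 := LinearMap.congr_fun h1 v
    simp only [map_sub, aeval_X, map_one, Module.End.mul_apply, LinearMap.sub_apply,
      Module.End.one_apply, LinearMap.zero_apply] at h2
    exact hfix j hj0 hjq _ (sub_eq_zero.mp h2)
  have hq1 : 1 < q := hq.one_lt
  have hΦ1 : aeval T (cyclotomic q (ZMod p)) = 0 := by
    have := hΦ 1 Nat.one_pos hq1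
    rwa [pow_one] at this
  let m1 : Module (AdjoinRoot (cyclotomic q (ZMod p))) V :=
    Module.compHom V (adjoinRootToEnd _ T hΦ1)
  have hm1 : ∀ v, m1.smul (AdjoinRoot.root _) v = T v := by
    intro v
    show (adjoinRootToEnd _ T hΦ1 (AdjoinRoot.root _)) v = T v
    rw [adjoinRootToEnd_root]
  constructor
  · intro y y' hy hy'
    obtain ⟨S, hS⟩ := @exists_linearEquiv_apply_eq (AdjoinRoot (cyclotomic q (ZMod p))) _ V _ m1
      y y' hy hy'
    refine ⟨S.toAddEquiv, hS, ?_⟩
    intro v
    have := S.map_smul (AdjoinRoot.root (cyclotomic q (ZMod p))) v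
    rw [← hm1, ← hm1]
    exact this
  · intro j hj0 hjq
    let m2 : Module (AdjoinRoot (cyclotomic q (ZMod p))) V :=
      Module.compHom V (adjoinRootToEnd _ (T ^ j) (hΦ j hj0 hjq))
    have hm2 : ∀ v, m2.smul (AdjoinRoot.root _) v = (T ^ j) v := by
      intro v
      show (adjoinRootToEnd _ (T ^ j) (hΦ j hj0 hjq) (AdjoinRoot.root _)) v = (T ^ j) v
      rw [adjoinRootToEnd_root]
    obtain ⟨S, hS⟩ := exists_addEquiv_of_modules (AdjoinRoot (cyclotomic q (ZMod p))) V m1 m2
    refine ⟨S, ?_⟩
    intro v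
    rw [← hm1, ← hm2]
    exact hS _ v

end Additive

section Multiplicative

variable {p q : ℕ} [Fact p.Prime] [Fact q.Prime]

/-- Multiplicative form of `lm_back_add`. -/
theorem lm_back_mul (hpq : p ≠ q) (hprim : orderOf (p : ZMod q) = q - 1)
    {A : Type*} [CommGroup A] [Finite A] (hAp : ∀ a : A, a ^ p = 1)
    (t : A →* A) (htq : ∀ a, t^[q] a = a)
    (hfix : ∀ j, 0 < j → j < q → ∀ a, t^[j] a = a → a = 1) :
    (∀ y y' : A, y ≠ 1 → y' ≠ 1 → ∃ S : A ≃* A, S y = y' ∧ ∀ a, S (t a) = t (S a)) ∧
    (∀ j, 0 < j → j < q → ∃ S : A ≃* A, ∀ a, S (t a) = t^[j] (S a)) := by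
  let _ := zmodModuleOfExp p hAp
  have hT := linOfHom_pow_apply p hAp t
  have hT1 : ∀ v : Additive A, linOfHom p hAp t v = Additive.ofMul (t (Additive.toMul v)) :=
    fun v => rfl
  obtain ⟨hA, hB⟩ := lm_back_add hpq hprim (linOfHom p hAp t) (by
    apply LinearMap.ext
    intro v
    rw [hT, htq]
    rfl) (by
    intro j hj0 hjq v hv
    rw [hT] at hv
    have h1 := hfix j hj0 hjq (Additive.toMul v) (congrArg Additive.toMul hv)
    exact congrArg Additive.ofMul h1)
  constructor
  · intro y y' hy hy'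
    obtain ⟨S, hSy, hS⟩ := hA (Additive.ofMul y) (Additive.ofMul y')
      (fun h => hy (congrArg Additive.toMul h)) (fun h => hy' (congrArg Additive.toMul h))
    refine ⟨MulEquiv.toAdditive.symm S, congrArg Additive.toMul hSy, ?_⟩
    intro a
    have := hS (Additive.ofMul a)
    rw [hT1, hT1] at this
    exact congrArg Additive.toMul this
  · intro j hj0 hjq
    obtain ⟨S, hS⟩ := hB j hj0 hjq
    refine ⟨MulEquiv.toAdditive.symm S, ?_⟩
    intro a
    have := hS (Additive.ofMul a)
    rw [hT1, hT] at this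
    exact congrArg Additive.toMul this

end Multiplicative

end Cfsg.Agent.Helper41
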