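import Mathlib
import Cfsg.Agent.Helper41.FpfNorm
import Cfsg.Agent.Helper41.LMPrim
import Cfsg.Agent.Helper3.Burnside2

set_option autoImplicit false

namespace Cfsg.Agent.Helper41

open scoped commutatorElement

/-- Core of the forward direction of the Laffey–MacHale theorem, for a fixed ordered pair of
primes `p, q` where the characteristic abelian subgroup contains an element of order `p`. -/
theorem lm_forward_core {G : Type*} [Group G] [Finite G] {p q : ℕ} [Fact p.Prime] [Fact q.Prime]
    (hpq : p ≠ q) (a b : G) (ha : orderOf a = p) (hb : orderOf b = q)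
    (H1 : ∀ g : G, g = 1 ∨ orderOf g = p ∨ orderOf g = q)
    (H2 : ∀ g : G, orderOf g = p → ∃ σ : MulAut G, σ a = g)
    (H3 : ∀ g : G, orderOf g = q → ∃ σ : MulAut G, σ b = g)
    (A : Subgroup G) [hAchar : A.Characteristic] (hAc : ∀ x ∈ A, ∀ y ∈ A, x * y = y * x)
    (haA : a ∈ A) :
    ∃ n : ℕ, 1 ≤ n ∧ Nat.card G = p ^ n * q ∧
      (∀ P : Sylow p G, (P : Subgroup G).Normal ∧ IsMulCommutative (P : Subgroup G) ∧
        ∀ x ∈ (P : Subgroup G), x ^ p = 1) ∧
      orderOf (p : ZMod q) = q - 1 ∧
      ∀ x y : G, orderOf x = q → orderOf y = p → x * y * x⁻¹ ≠ y := by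
  classical
  have hp : p.Prime := Fact.out
  have hq : q.Prime := Fact.out
  have ha1 : a ≠ 1 := by
    rintro rfl
    rw [orderOf_one] at ha
    exact hp.one_lt.ne ha
  have hb1 : b ≠ 1 := by
    rintro rfl
    rw [orderOf_one] at hb
    exact hq.one_lt.ne hb
  have hcop : Nat.Coprime q p := (Nat.coprime_primes hq hp).mpr hpq.symm
  -- no element of order `p * q`
  have hnopq : ∀ x y : G, orderOf x = q → orderOf y = p → Commute x y → False := by
    intro x y hx hy hxy
    have h := hxy.orderOf_mul_eq_mul_orderOf_of_coprime (by rw [hx, hy]; exact hcop)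
    rw [hx, hy] at h
    have h2p := hp.two_le
    have h2q := hq.two_le
    rcases H1 (x * y) with h1 | h1 | h1
    · rw [h1, orderOf_one] at h
      nlinarith
    · rw [h1] at h
      nlinarith
    · rw [h1] at h
      nlinarith
  have hchar : ∀ (σ : MulAut G) (g : G), σ g ∈ A ↔ g ∈ A := by
    intro σ g
    have h := hAchar.fixed σ
    constructor
    · intro hg
      rw [← h]
      exact hg
    · intro hg
      rw [← h] at hg
      exact hg
  have hpA : ∀ g, orderOf g = p → g ∈ A := by
    intro g hg
    obtain ⟨σ, rfl⟩ := H2 g hg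
    exact (hchar σ a).mpr haA
  have hqA : ∀ g ∈ A, orderOf g ≠ q := by
    intro g hgA hgq
    have hbA : b ∈ A := by
      obtain ⟨σ, hσ⟩ := H3 g hgq
      rw [← hσ] at hgA
      exact (hchar σ b).mp hgA
    have hall : ∀ x : G, x ∈ A := by
      intro x
      rcases H1 x with h | h | h
      · rw [h]
        exact A.one_mem
      · exact hpA x h
      · obtain ⟨σ, rfl⟩ := H3 x h
        exact (hchar σ b).mpr hbA
    exact hnopq b a hb ha (hAc b (hall b) a (hall a))
  have hAexp : ∀ g ∈ A, g ^ p = 1 := by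
    intro g hg
    rcases H1 g with h | h | h
    · rw [h, one_pow]
    · rw [← h, pow_orderOf_eq_one]
    · exact absurd h (hqA g hg)
  have hAp : IsPGroup p A := fun g => ⟨1, by
    rw [pow_one]
    exact Subtype.ext (by simpa using hAexp g g.2)⟩
  have hAnormal : A.Normal := Subgroup.normal_of_characteristic A
  have hSyl : ∀ P : Sylow p G, (P : Subgroup G) = A := by
    intro P
    have hPA : (P : Subgroup G) ≤ A := by
      intro g hg
      obtain ⟨k, hk⟩ := P.isPGroup' ⟨g, hg⟩
      have hk' : g ^ p ^ k = 1 := by simpa using congrArg Subtype.val hk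
      rcases H1 g with h | h | h
      · rw [h]
        exact A.one_mem
      · exact hpA g h
      · exfalso
        have hdvd : q ∣ p ^ k := h ▸ orderOf_dvd_of_pow_eq_one hk'
        exact hpq ((Nat.prime_dvd_prime_iff_eq hq hp).mp (hq.dvd_of_dvd_pow hdvd)).symm
    exact (P.is_maximal' hAp hPA).symm
  obtain ⟨n, hn⟩ := IsPGroup.iff_card.mp hAp
  have hAbot : A ≠ ⊥ := by
    intro h
    rw [h, Subgroup.mem_bot] at haA
    exact ha1 haA
  have hn1 : 1 ≤ n := by
    by_contra h
    have h0 : n = 0 := by omega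
    rw [h0, pow_zero] at hn
    exact hAbot (Subgroup.card_eq_one.mp hn)
  have hidx : ∃ β, A.index = q ^ β := by
    refine ⟨A.index.primeFactorsList.length,
      Nat.eq_prime_pow_of_unique_prime_dvd Subgroup.index_ne_zero_of_finite ?_⟩
    intro r hr hrd
    have hrG : r ∣ Nat.card G := hrd.trans (Subgroup.index_dvd_card A)
    have := Fact.mk hr
    obtain ⟨g, hg⟩ := exists_prime_orderOf_dvd_card' r hrG
    rcases H1 g with h | h | h
    · rw [h, orderOf_one] at hg
      exact absurd hg.symm hr.one_lt.ne'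
    · exfalso
      have hnd : ¬ p ∣ A.index := by
        have P : Sylow p G := default
        rw [← hSyl P]
        exact P.not_dvd_index
      rw [hg] at h
      rw [h] at hrd
      exact hnd hrd
    · rw [hg] at h
      exact h
  obtain ⟨β, hβ⟩ := hidx
  have hcardG : Nat.card G = p ^ n * q ^ β := by
    rw [← hn, ← hβ]
    exact (Subgroup.card_mul_index A).symm
  have hqG : q ∣ Nat.card G := by
    rw [← hb]
    exact orderOf_dvd_natCard b
  have hβ1 : 1 ≤ β := by
    by_contra h
    have h0 : β = 0 := by omega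
    rw [h0, pow_zero, mul_one] at hcardG
    rw [hcardG] at hqG
    exact hpq ((Nat.prime_dvd_prime_iff_eq hq hp).mp (hq.dvd_of_dvd_pow hqG)).symm
  have hβeq : β = 1 := by
    by_contra hne
    have h2 : 2 ≤ β := by omega
    have hq2 : q ^ 2 ∣ Nat.card G := by
      rw [hcardG]
      exact Dvd.dvd.mul_left (pow_dvd_pow q h2) _
    obtain ⟨B, hB⟩ := Sylow.exists_subgroup_card_pow_prime q hq2
    have hBq : IsPGroup q B := IsPGroup.of_card hB
    have hBcomm : IsMulCommutative B := IsPGroup.isMulCommutative_of_card_eq_prime_sq hB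
    have hBord : ∀ g ∈ B, g ≠ 1 → orderOf g = q := by
      intro g hg hg1
      obtain ⟨k, hk⟩ := hBq ⟨g, hg⟩
      have hk' : g ^ q ^ k = 1 := by simpa using congrArg Subtype.val hk
      rcases H1 g with h | h | h
      · exact absurd h hg1
      · exfalso
        have hdvd : p ∣ q ^ k := h ▸ orderOf_dvd_of_pow_eq_one hk'
        exact hpq ((Nat.prime_dvd_prime_iff_eq hp hq).mp (hp.dvd_of_dvd_pow hdvd))
      · exact h
    have hBpow : ∀ g ∈ B, g ^ q = 1 := by
      intro g hg
      by_cases hg1 : g = 1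
      · rw [hg1, one_pow]
      · rw [← hBord g hg hg1, pow_orderOf_eq_one]
    obtain ⟨c, hcB, hc1⟩ : ∃ c ∈ B, c ≠ 1 := by
      by_contra h
      push Not at h
      have hbot : B = ⊥ := (Subgroup.eq_bot_iff_forall B).mpr h
      rw [hbot, Subgroup.card_bot] at hB
      have := hq.two_le
      nlinarith
    have hcq : orderOf c = q := hBord c hcB hc1
    obtain ⟨d, hdB, hdc⟩ : ∃ d ∈ B, d ∉ Subgroup.zpowers c := by
      by_contra h
      push Not at h
      have hle : B ≤ Subgroup.zpowers c := h
      have h1 := Subgroup.card_le_of_le hle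
      rw [hB, Nat.card_zpowers, hcq] at h1
      have := hq.two_le
      nlinarith
    have hcd : Commute c d := by
      have := mul_comm' (⟨c, hcB⟩ : B) ⟨d, hdB⟩
      exact congrArg Subtype.val this
    have hbot : A = ⊥ := by
      refine eq_bot_of_fpf_rank_two A hAc q ?_ c d hcd (hBpow c hcB) (hBpow d hdB) hc1 hdc ?_
      · intro v hv hvq
        have h1 : orderOf v ∣ p := orderOf_dvd_of_pow_eq_one (hAexp v hv)
        have h2 : orderOf v ∣ q := orderOf_dvd_of_pow_eq_one hvq
        have h3 : orderOf v ∣ 1 := by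
          have := Nat.dvd_gcd h2 h1
          rwa [hcop.gcd_eq_one] at this
        exact orderOf_eq_one_iff.mp (Nat.dvd_one.mp h3)
      · intro i j he v hv hcomm
        by_contra hv1
        have hvp : orderOf v = p := orderOf_eq_prime (hAexp v hv) hv1
        have heB : c ^ i * d ^ j ∈ B := B.mul_mem (B.pow_mem hcB i) (B.pow_mem hdB j)
        exact hnopq _ v (hBord _ heB he) hvp hcomm
    exact hAbot hbot
  subst hβeq
  rw [pow_one] at hcardG
  refine ⟨n, hn1, hcardG, ?_, ?_, ?_⟩
  · intro P
    rw [hSyl P]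
    exact ⟨hAnormal, ⟨⟨fun x y => Subtype.ext (hAc x x.2 y y.2)⟩⟩, hAexp⟩
  · -- primitive root
    let instA : CommGroup A :=
      { (inferInstance : Group A) with mul_comm := fun x y => Subtype.ext (hAc x x.2 y y.2) }
    have : Nontrivial A := ⟨⟨⟨a, haA⟩, 1, fun h => ha1 (congrArg Subtype.val h)⟩⟩
    let t : A →* A := (MulAut.conjNormal b : MulAut A).toMonoidHom
    have ht : ∀ (j : ℕ) (v : A), t^[j] v = MulAut.conjNormal (b ^ j) v := by
      intro j
      induction j with
      | zero => intro v; simp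
      | succ j ih =>
        intro v
        rw [Function.iterate_succ_apply', ih, pow_succ', map_mul, MulAut.mul_apply]
        rfl
    have htv : ∀ (j : ℕ) (v : A), ((t^[j] v : A) : G) = b ^ j * v * (b ^ j)⁻¹ := by
      intro j v
      rw [ht, MulAut.conjNormal_apply]
    have htv1 : ∀ (v : A), ((t v : A) : G) = b * v * b⁻¹ := fun v => MulAut.conjNormal_apply b v
    -- decomposition
    have hsup : A ⊔ Subgroup.zpowers b = ⊤ := by
      apply Subgroup.eq_top_of_card_eq
      apply Nat.dvd_antisymm (Subgroup.card_subgroup_dvd_card _)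
      rw [hcardG]
      apply Nat.Coprime.mul_dvd_of_dvd_of_dvd (Nat.Coprime.pow_left n hcop.symm)
      · rw [← hn]
        exact Subgroup.card_dvd_of_le le_sup_left
      · have hz : Nat.card (Subgroup.zpowers b) = q := by rw [Nat.card_zpowers, hb]
        rw [← hz]
        exact Subgroup.card_dvd_of_le le_sup_right
    have hmem : ∀ g : G, ∃ a' ∈ A, ∃ j : ℕ, g = a' * b ^ j := by
      intro g
      have hg : g ∈ A ⊔ Subgroup.zpowers b := by rw [hsup]; trivial
      rw [← SetLike.mem_coe, Subgroup.normal_mul] at hg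
      obtain ⟨a', ha', k, hk, rfl⟩ := Set.mem_mul.mp hg
      obtain ⟨j, rfl⟩ := (Submonoid.mem_powers_iff _ _).mp (mem_powers_iff_mem_zpowers.mpr hk)
      exact ⟨a', ha', j, rfl⟩
    -- restriction of automorphisms to `A`
    let res : MulAut G → (A →* A) := fun σ =>
      { toFun := fun v => ⟨σ (v : G), (hchar σ v).mpr v.2⟩
        map_one' := Subtype.ext (map_one σ)
        map_mul' := fun u v => Subtype.ext (map_mul σ (u : G) (v : G)) }
    have hresinj : ∀ σ : MulAut G, Function.Injective (res σ) := by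
      intro σ u v huv
      exact Subtype.ext (σ.injective (congrArg Subtype.val huv))
    refine prim_root_mul hpq (A := A) (fun v => Subtype.ext (hAexp v v.2)) t ?_ ?_ ?_ ?_
    · intro v
      apply Subtype.ext
      rw [htv, ← hb, pow_orderOf_eq_one]
      simp
    · intro v hv
      by_contra hv1
      have hvp : orderOf (v : G) = p :=
        orderOf_eq_prime (hAexp v v.2) (fun h => hv1 (Subtype.ext h))
      have h1 : b * v * b⁻¹ = v := by
        rw [← htv1, hv]
      exact hnopq b v hb hvp (mul_inv_eq_iff_eq_mul.mp h1)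
    · intro j hj0 hjq
      have hbj : orderOf (b ^ j) = q := by
        rw [orderOf_pow' b (by omega), hb]
        have : Nat.gcd q j = 1 := Nat.Coprime.gcd_eq_one ((Nat.Prime.coprime_iff_not_dvd hq).mpr
            (Nat.not_dvd_of_pos_of_lt hj0 hjq))
        rw [this, Nat.div_one]
      obtain ⟨σ, hσ⟩ := H3 (b ^ j) hbj
      refine ⟨res σ, hresinj σ, ?_⟩
      intro v
      apply Subtype.ext
      rw [htv]
      show σ ((t v : A) : G) = b ^ j * σ v * (b ^ j)⁻¹
      rw [htv1, map_mul, map_mul, map_inv, hσ]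
    · intro y y' hy hy'
      have hyp : orderOf (y : G) = p :=
        orderOf_eq_prime (hAexp y y.2) (fun h => hy (Subtype.ext h))
      have hy'p : orderOf (y' : G) = p :=
        orderOf_eq_prime (hAexp y' y'.2) (fun h => hy' (Subtype.ext h))
      obtain ⟨σ1, h1⟩ := H2 y hyp
      obtain ⟨σ2, h2⟩ := H2 y' hy'p
      have hσy : (σ2 * σ1⁻¹) (y : G) = y' := by
        rw [MulAut.mul_apply, ← h1, MulAut.inv_apply_self, h2]
      obtain ⟨a', ha', j, hj⟩ := hmem ((σ2 * σ1⁻¹) b)
      refine ⟨res (σ2 * σ1⁻¹), j, hresinj _, Subtype.ext hσy, ?_⟩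
      intro v
      apply Subtype.ext
      rw [htv]
      show (σ2 * σ1⁻¹) ((t v : A) : G) = b ^ j * (σ2 * σ1⁻¹) v * (b ^ j)⁻¹
      rw [htv1, map_mul, map_mul, map_inv, hj]
      have hw : b ^ j * (σ2 * σ1⁻¹) (v : G) * (b ^ j)⁻¹ ∈ A :=
        hAnormal.conj_mem _ ((hchar _ v).mpr v.2) _
      have hcomm := hAc a' ha' _ hw
      calc a' * b ^ j * (σ2 * σ1⁻¹) (v : G) * (a' * b ^ j)⁻¹
          = a' * (b ^ j * (σ2 * σ1⁻¹) (v : G) * (b ^ j)⁻¹) * a'⁻¹ := by group
        _ = (b ^ j * (σ2 * σ1⁻¹) (v : G) * (b ^ j)⁻¹) * a' * a'⁻¹ := by rw [hcomm]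
        _ = b ^ j * (σ2 * σ1⁻¹) (v : G) * (b ^ j)⁻¹ := by group
  · intro x y hx hy hxy
    exact hnopq x y hx hy (mul_inv_eq_iff_eq_mul.mp hxy)

/-- Two elements lie in the same automorphism orbit iff some automorphism maps one to the
other. -/
theorem autOrbit_mk_eq_iff {G : Type*} [Group G] (g h : G) :
    (Quotient.mk (MulAction.orbitRel (MulAut G) G) g = Quotient.mk _ h) ↔
      ∃ σ : MulAut G, σ h = g := by
  rw [Quotient.eq]
  change g ∈ MulAction.orbit (MulAut G) h ↔ _
  rw [MulAction.mem_orbit_iff]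
  rfl

/-- Forward direction of the Laffey–MacHale theorem. -/
theorem lm_forward {G : Type*} [Group G] [Finite G] (hnpp : ¬ IsPrimePow (Nat.card G))
    (hnt : Nat.card G ≠ 1)
    (h3 : Nat.card (MulAction.orbitRel.Quotient (MulAut G) G) = 3) :
    ∃ (p q n : ℕ) (_ : Fact p.Prime) (_ : Fact q.Prime), p ≠ q ∧ 1 ≤ n ∧
      Nat.card G = p ^ n * q ∧
      (∀ P : Sylow p G, (P : Subgroup G).Normal ∧ IsMulCommutative (P : Subgroup G) ∧
        ∀ x ∈ (P : Subgroup G), x ^ p = 1) ∧
      orderOf (p : ZMod q) = q - 1 ∧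
      ∀ x y : G, orderOf x = q → orderOf y = p → x * y * x⁻¹ ≠ y := by
  classical
  have hpos : Nat.card G ≠ 0 := Nat.card_pos.ne'
  -- two distinct primes
  obtain ⟨p, hp, hpd⟩ := Nat.exists_prime_and_dvd hnt
  obtain ⟨q, hq, hqd, hqp⟩ : ∃ q, q.Prime ∧ q ∣ Nat.card G ∧ q ≠ p := by
    by_contra hcon
    push Not at hcon
    have h1 := Nat.eq_prime_pow_of_unique_prime_dvd hpos (fun {d} hd hdd => hcon d hd hdd)
    apply hnpp
    rw [h1]
    refine hp.isPrimePow.pow ?_
    intro h0
    rw [h0, pow_zero] at h1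
    exact hnt h1
  have hpq : p ≠ q := hqp.symm
  have := Fact.mk hp
  have := Fact.mk hq
  obtain ⟨a, ha⟩ := exists_prime_orderOf_dvd_card' p hpd
  obtain ⟨b, hb⟩ := exists_prime_orderOf_dvd_card' q hqd
  -- orbit analysis
  let π : G → MulAction.orbitRel.Quotient (MulAut G) G :=
    Quotient.mk (MulAction.orbitRel (MulAut G) G)
  have hord : ∀ g h : G, π g = π h → orderOf g = orderOf h := by
    intro g h hgh
    obtain ⟨σ, rfl⟩ := (autOrbit_mk_eq_iff g h).mp hgh
    exact MulEquiv.orderOf_eq σ h
  have h1a : π 1 ≠ π a := by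
    intro h
    have := hord _ _ h
    rw [orderOf_one, ha] at this
    exact hp.one_lt.ne this
  have h1b : π 1 ≠ π b := by
    intro h
    have := hord _ _ h
    rw [orderOf_one, hb] at this
    exact hq.one_lt.ne this
  have hab : π a ≠ π b := by
    intro h
    have := hord _ _ h
    rw [ha, hb] at this
    exact hpq this
  have : Fintype (MulAction.orbitRel.Quotient (MulAut G) G) := Fintype.ofFinite _
  have hall : ∀ c : MulAction.orbitRel.Quotient (MulAut G) G, c = π 1 ∨ c = π a ∨ c = π b := by
    intro c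
    have hs : ({π 1, π a, π b} : Finset _).card = 3 := by
      rw [Finset.card_insert_of_notMem, Finset.card_insert_of_notMem, Finset.card_singleton]
      · simpa using hab
      · simp only [Finset.mem_insert, Finset.mem_singleton, not_or]
        exact ⟨h1a, h1b⟩
    have hu : ({π 1, π a, π b} : Finset _) = Finset.univ := by
      apply Finset.eq_univ_of_card
      rw [hs, ← Nat.card_eq_fintype_card, h3]
    have hc : c ∈ ({π 1, π a, π b} : Finset _) := by rw [hu]; exact Finset.mem_univ c
    simpa using hc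
  have H1 : ∀ g : G, g = 1 ∨ orderOf g = p ∨ orderOf g = q := by
    intro g
    rcases hall (π g) with h | h | h
    · left
      have := hord _ _ h
      rw [orderOf_one] at this
      exact orderOf_eq_one_iff.mp this
    · right; left
      rw [hord _ _ h, ha]
    · right; right
      rw [hord _ _ h, hb]
  have H2 : ∀ g : G, orderOf g = p → ∃ σ : MulAut G, σ a = g := by
    intro g hg
    rcases hall (π g) with h | h | h
    · exfalso
      have := hord _ _ h
      rw [orderOf_one, hg] at this
      exact hp.one_lt.ne' this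
    · exact (autOrbit_mk_eq_iff g a).mp h
    · exfalso
      have := hord _ _ h
      rw [hg, hb] at this
      exact hpq this
  have H3 : ∀ g : G, orderOf g = q → ∃ σ : MulAut G, σ b = g := by
    intro g hg
    rcases hall (π g) with h | h | h
    · exfalso
      have := hord _ _ h
      rw [orderOf_one, hg] at this
      exact hq.one_lt.ne' this
    · exfalso
      have := hord _ _ h
      rw [hg, ha] at this
      exact hpq this.symm
    · exact (autOrbit_mk_eq_iff g b).mp h
  -- solvability
  have hsolv : Group.IsSolvable G := by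
    obtain ⟨α, m, hm, hcard⟩ := Nat.exists_eq_pow_mul_and_not_dvd hpos p hp.ne_one
    have hm0 : m ≠ 0 := by
      rintro rfl
      rw [mul_zero] at hcard
      exact hpos hcard
    have hmq := Nat.eq_prime_pow_of_unique_prime_dvd (p := q) hm0 (by
      intro r hr hrd
      have hrG : r ∣ Nat.card G := by
        rw [hcard]
        exact Dvd.dvd.mul_left hrd _
      have := Fact.mk hr
      obtain ⟨g, hg⟩ := exists_prime_orderOf_dvd_card' r hrG
      rcases H1 g with h | h | h
      · rw [h, orderOf_one] at hg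
        exact absurd hg.symm hr.one_lt.ne'
      · exfalso
        rw [hg] at h
        rw [h] at hrd
        exact hm hrd
      · rw [hg] at h
        exact h)
    rw [hmq] at hcard
    exact Cfsg.Agent.Helper3.isSolvable_of_card_eq p q α _ hp hq hcard
  -- a nontrivial characteristic abelian subgroup
  obtain ⟨k, hk⟩ := hsolv.solvable
  have hGnt : (⊤ : Subgroup G) ≠ ⊥ := by
    intro h
    have h2 := Subgroup.card_top (G := G)
    rw [h, Subgroup.card_bot] at h2
    exact hnt h2.symm
  have hex : ∃ k, derivedSeries G k = ⊥ := ⟨k, hk⟩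
  have hfind := Nat.find_spec hex
  have hfind0 : Nat.find hex ≠ 0 := by
    intro h0
    rw [h0, derivedSeries_zero] at hfind
    exact hGnt hfind
  obtain ⟨k', hk'⟩ := Nat.exists_eq_succ_of_ne_zero hfind0
  have hAne : derivedSeries G k' ≠ ⊥ := Nat.find_min hex (by rw [hk']; exact Nat.lt_succ_self k')
  have hAc : ∀ x ∈ derivedSeries G k', ∀ y ∈ derivedSeries G k', x * y = y * x := by
    intro x hx y hy
    have h1 : ⁅x, y⁆ ∈ derivedSeries G (k' + 1) := by
      rw [derivedSeries_succ]
      exact Subgroup.commutator_mem_commutator hx hy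
    rw [← Nat.succ_eq_add_one, ← hk', hfind, Subgroup.mem_bot] at h1
    exact commutatorElement_eq_one_iff_mul_comm.mp h1
  have hchar : ∀ (σ : MulAut G) (g : G), σ g ∈ derivedSeries G k' ↔ g ∈ derivedSeries G k' := by
    intro σ g
    have h := (derivedSeries_characteristic G k').fixed σ
    constructor
    · intro hg
      rw [← h]
      exact hg
    · intro hg
      rw [← h] at hg
      exact hg
  obtain ⟨g, hgA, hg1⟩ : ∃ g ∈ derivedSeries G k', g ≠ 1 := by
    by_contra h
    push Not at h
    exact hAne ((Subgroup.eq_bot_iff_forall _).mpr h)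
  rcases H1 g with h | h | h
  · exact absurd h hg1
  · -- `a ∈ A`
    have haA : a ∈ derivedSeries G k' := by
      obtain ⟨σ, hσ⟩ := H2 g h
      rw [← hσ] at hgA
      exact (hchar σ a).mp hgA
    obtain ⟨n, hn1, hcard, hS, hprim, hfpf⟩ :=
      lm_forward_core hpq a b ha hb H1 H2 H3 (derivedSeries G k') hAc haA
    exact ⟨p, q, n, inferInstance, inferInstance, hpq, hn1, hcard, hS, hprim, hfpf⟩
  · have hbA : b ∈ derivedSeries G k' := by
      obtain ⟨σ, hσ⟩ := H3 g h
      rw [← hσ] at hgA
      exact (hchar σ b).mp hgA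
    obtain ⟨n, hn1, hcard, hS, hprim, hfpf⟩ :=
      lm_forward_core hpq.symm b a hb ha (fun g => by
        rcases H1 g with h | h | h
        · exact Or.inl h
        · exact Or.inr (Or.inr h)
        · exact Or.inr (Or.inl h)) H3 H2 (derivedSeries G k') hAc hbA
    exact ⟨q, p, n, inferInstance, inferInstance, hpq.symm, hn1, hcard, hS, hprim, hfpf⟩

end Cfsg.Agent.Helper41
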