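import Mathlib
import Cfsg.Agent.Helper41.LMBack
import Cfsg.Agent.Helper41.LMForward

set_option autoImplicit false

namespace Cfsg.Agent.Helper41

/-- Extension of a compatible pair (automorphism of the normal complement, power map on the
cyclic complement) to an automorphism of the whole group. -/
theorem exists_mulAut_extend {G : Type*} [Group G] [Finite G] (P : Subgroup G) [P.Normal] (x : G)
    (hc : P.IsComplement' (Subgroup.zpowers x))
    (φ : P ≃* P) (j : ℕ) (hxj : x ∈ Subgroup.zpowers (x ^ j))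
    (hφ : ∀ v : P, (φ (MulAut.conjNormal x v) : G) = x ^ j * (φ v : G) * (x ^ j)⁻¹) :
    ∃ σ : MulAut G, (∀ v : P, σ (v : G) = (φ v : G)) ∧ σ x = x ^ j := by
  classical
  have hpow : ∀ (m : ℕ) (v : P), (φ (MulAut.conjNormal (x ^ m) v) : G) =
      (x ^ m) ^ j * (φ v : G) * ((x ^ m) ^ j)⁻¹ := by
    intro m
    induction m with
    | zero => intro v; simp
    | succ m ih =>
      intro v
      rw [pow_succ', map_mul, MulAut.mul_apply, hφ, ih]
      have h1 : (x * x ^ m) ^ j = x ^ j * (x ^ m) ^ j := by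
        rw [← pow_succ', ← pow_mul, ← pow_mul, ← pow_add]
        congr 1
        ring
      rw [h1]
      group
  let fg : Subgroup.zpowers x →* G :=
    { toFun := fun k => (k : G) ^ j
      map_one' := by simp
      map_mul' := fun a b => by
        have hab : Commute (a : G) (b : G) := by
          obtain ⟨m, hm⟩ := Subgroup.mem_zpowers_iff.mp a.2
          obtain ⟨n, hn⟩ := Subgroup.mem_zpowers_iff.mp b.2
          rw [← hm, ← hn]
          exact (Commute.refl x).zpow_zpow m n
        simpa using hab.mul_pow j }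
  let fn : P →* G := P.subtype.comp φ.toMonoidHom
  let θ := SemidirectProduct.lift (φ := (P.normalizerMonoidHom).comp
      (Subgroup.inclusion (P.normalizer_eq_top ▸ le_top))) fn fg (by
    intro k
    ext v
    obtain ⟨m, hm⟩ := (Submonoid.mem_powers_iff _ _).mp (mem_powers_iff_mem_zpowers.mpr k.2)
    have h1 : ((P.normalizerMonoidHom).comp
        (Subgroup.inclusion (P.normalizer_eq_top ▸ le_top)) k) v =
        MulAut.conjNormal (x ^ m) v := by
      apply Subtype.ext
      simp [hm]
    have h2 := hpow m v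
    simp only [MonoidHom.coe_comp, Function.comp_apply] at h1
    simp only [MonoidHom.coe_comp, Function.comp_apply, MulEquiv.coe_toMonoidHom, fn, fg,
      Subgroup.coe_subtype, MonoidHom.coe_mk, OneHom.coe_mk, MulAut.conj_apply]
    rw [h1, h2, hm])
  let e := SemidirectProduct.mulEquivSubgroup hc
  let θ' : G →* G := θ.comp e.symm.toMonoidHom
  have hθP : ∀ v : P, θ' (v : G) = (φ v : G) := by
    intro v
    have h1 : e.symm (v : G) = SemidirectProduct.inl v := by
      rw [MulEquiv.symm_apply_eq]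
      simp [e]
    show θ (e.symm (v : G)) = _
    rw [h1, SemidirectProduct.lift_inl]
    rfl
  have hθx : θ' x = x ^ j := by
    have h1 : e.symm x = SemidirectProduct.inr ⟨x, Subgroup.mem_zpowers x⟩ := by
      rw [MulEquiv.symm_apply_eq]
      simp [e]
    show θ (e.symm x) = _
    rw [h1, SemidirectProduct.lift_inr]
    rfl
  have hsurj : Function.Surjective θ' := by
    rw [← MonoidHom.range_eq_top, eq_top_iff, ← hc.sup_eq_top]
    apply sup_le
    · intro w hw
      exact ⟨(φ.symm ⟨w, hw⟩ : G), by rw [hθP]; simp⟩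
    · rw [Subgroup.zpowers_le]
      have h1 : Subgroup.zpowers (x ^ j) ≤ θ'.range := by
        rw [Subgroup.zpowers_le]
        exact ⟨x, hθx⟩
      exact h1 hxj
  have hinj : Function.Injective θ' := Finite.injective_iff_surjective.mpr hsurj
  exact ⟨MulEquiv.ofBijective θ' ⟨hinj, hsurj⟩, hθP, hθx⟩

/-- Backward direction of the Laffey–MacHale theorem. -/
theorem lm_backward {G : Type*} [Group G] [Finite G] (p q n : ℕ) [Fact p.Prime] [Fact q.Prime]
    (hpq : p ≠ q) (hn : 1 ≤ n) (hcard : Nat.card G = p ^ n * q)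
    (hS : ∀ P : Sylow p G, (P : Subgroup G).Normal ∧ IsMulCommutative (P : Subgroup G) ∧
      ∀ x ∈ (P : Subgroup G), x ^ p = 1)
    (hprim : orderOf (p : ZMod q) = q - 1)
    (hfpf : ∀ x y : G, orderOf x = q → orderOf y = p → x * y * x⁻¹ ≠ y) :
    Nat.card (MulAction.orbitRel.Quotient (MulAut G) G) = 3 := by
  classical
  have hp : p.Prime := Fact.out
  have hq : q.Prime := Fact.out
  have hcop : Nat.Coprime p q := (Nat.coprime_primes hp hq).mpr hpq
  obtain ⟨P0⟩ : Nonempty (Sylow p G) := inferInstance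
  obtain ⟨hPn, hPc, hPexp⟩ := hS P0
  obtain ⟨P, hPdef⟩ : ∃ P : Subgroup G, P = (P0 : Subgroup G) := ⟨_, rfl⟩
  rw [← hPdef] at hPn hPc hPexp
  have hPcard : Nat.card P = p ^ n := by
    rw [hPdef, Sylow.card_eq_multiplicity, hcard]
    congr 1
    rw [Nat.factorization_def _ hp, padicValNat.mul (pow_ne_zero n hp.ne_zero) hq.ne_zero,
      padicValNat.prime_pow, padicValNat_primes hpq, add_zero]
  have hqd : q ∣ Nat.card G := by
    rw [hcard]
    exact dvd_mul_left q _
  obtain ⟨x, hx⟩ := exists_prime_orderOf_dvd_card' q hqd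
  have hKcard : Nat.card (Subgroup.zpowers x) = q := by rw [Nat.card_zpowers, hx]
  have hcompl : P.IsComplement' (Subgroup.zpowers x) :=
    Subgroup.isComplement'_of_coprime (by rw [hPcard, hKcard, hcard])
      (by rw [hPcard, hKcard]; exact Nat.Coprime.pow_left n hcop)
  have hPord : ∀ v ∈ P, v ≠ 1 → orderOf v = p :=
    fun v hv hv1 => orderOf_eq_prime (hPexp v hv) hv1
  have hPc' : ∀ u ∈ P, ∀ v ∈ P, u * v = v * u := by
    intro u hu v hv
    have := mul_comm' (⟨u, hu⟩ : P) ⟨v, hv⟩
    exact congrArg Subtype.val this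
  have hxord : ∀ j, 0 < j → j < q → orderOf (x ^ j) = q := by
    intro j hj0 hjq
    rw [orderOf_pow' x (by omega), hx]
    have : Nat.gcd q j = 1 := Nat.Coprime.gcd_eq_one ((Nat.Prime.coprime_iff_not_dvd hq).mpr
      (Nat.not_dvd_of_pos_of_lt hj0 hjq))
    rw [this, Nat.div_one]
  have hxzp : ∀ j, 0 < j → j < q → x ∈ Subgroup.zpowers (x ^ j) := by
    intro j hj0 hjq
    have hle : Subgroup.zpowers (x ^ j) ≤ Subgroup.zpowers x :=
      Subgroup.zpowers_le.mpr (Subgroup.pow_mem _ (Subgroup.mem_zpowers x) j)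
    have heq : Subgroup.zpowers (x ^ j) = Subgroup.zpowers x :=
      Subgroup.eq_of_le_of_card_ge hle (by rw [Nat.card_zpowers, Nat.card_zpowers, hx,
        hxord j hj0 hjq])
    rw [heq]
    exact Subgroup.mem_zpowers x
  -- the conjugation action on `P`
  let instP : CommGroup P :=
    { (inferInstance : Group P) with mul_comm := fun u v => Subtype.ext (hPc' u u.2 v v.2) }
  let t : P →* P := (MulAut.conjNormal x : MulAut P).toMonoidHom
  have ht : ∀ (j : ℕ) (v : P), t^[j] v = MulAut.conjNormal (x ^ j) v := by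
    intro j
    induction j with
    | zero => intro v; simp
    | succ j ih =>
      intro v
      rw [Function.iterate_succ_apply', ih, pow_succ', map_mul, MulAut.mul_apply]
      rfl
  have htv : ∀ (j : ℕ) (v : P), ((t^[j] v : P) : G) = x ^ j * v * (x ^ j)⁻¹ := by
    intro j v
    rw [ht, MulAut.conjNormal_apply]
  have htv1 : ∀ (v : P), ((t v : P) : G) = x * v * x⁻¹ := fun v => MulAut.conjNormal_apply x v
  obtain ⟨hA, hB⟩ := lm_back_mul hpq hprim (A := P) (fun v => Subtype.ext (hPexp v v.2)) t (by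
    intro v
    apply Subtype.ext
    rw [htv, ← hx, pow_orderOf_eq_one]
    simp) (by
    intro j hj0 hjq v hv
    by_contra hv1
    have hvp : orderOf (v : G) = p := hPord v v.2 (fun h => hv1 (Subtype.ext h))
    have h1 : x ^ j * v * (x ^ j)⁻¹ = v := by rw [← htv, hv]
    exact hfpf (x ^ j) v (hxord j hj0 hjq) hvp h1)
  -- automorphisms of `G`
  have autA : ∀ y y' : G, y ∈ P → y' ∈ P → y ≠ 1 → y' ≠ 1 → ∃ σ : MulAut G, σ y = y' := by
    intro y y' hy hy' hy1 hy'1
    obtain ⟨S, hSy, hS⟩ := hA ⟨y, hy⟩ ⟨y', hy'⟩ (fun h => hy1 (congrArg Subtype.val h))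
      (fun h => hy'1 (congrArg Subtype.val h))
    obtain ⟨σ, hσ, -⟩ := exists_mulAut_extend P x hcompl S 1 (by
      rw [pow_one]; exact Subgroup.mem_zpowers x) (by
      intro v
      have h1 := congrArg Subtype.val (hS v)
      rw [htv1] at h1
      rw [pow_one]
      exact h1)
    exact ⟨σ, by rw [hσ ⟨y, hy⟩, hSy]⟩
  have autB : ∀ j, 0 < j → j < q → ∃ σ : MulAut G, σ x = x ^ j := by
    intro j hj0 hjq
    obtain ⟨S, hS⟩ := hB j hj0 hjq
    obtain ⟨σ, -, hσ⟩ := exists_mulAut_extend P x hcompl S j (hxzp j hj0 hjq) (by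
      intro v
      have h1 := congrArg Subtype.val (hS v)
      rw [htv] at h1
      exact h1)
    exact ⟨σ, hσ⟩
  -- a nonidentity element of `P`
  obtain ⟨y0, hy0P, hy01⟩ : ∃ y0 ∈ P, y0 ≠ 1 := by
    by_contra h
    push Not at h
    have hbot : P = ⊥ := (Subgroup.eq_bot_iff_forall P).mpr h
    rw [hbot, Subgroup.card_bot] at hPcard
    have h2 : 2 ≤ p ^ n := le_trans hp.two_le (Nat.le_self_pow (by omega) p)
    omega
  -- elements outside `P` are conjugate to powers of `x`
  have hout : ∀ g : G, g ∉ P → ∃ (v : G) (j : ℕ), 0 < j ∧ j < q ∧ g = v * x ^ j * v⁻¹ := by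
    intro g hg
    have hgm : g ∈ P ⊔ Subgroup.zpowers x := by rw [hcompl.sup_eq_top]; trivial
    rw [← SetLike.mem_coe, Subgroup.normal_mul] at hgm
    obtain ⟨a, ha, k, hk, rfl⟩ := Set.mem_mul.mp hgm
    obtain ⟨i, rfl⟩ := (Submonoid.mem_powers_iff _ _).mp (mem_powers_iff_mem_zpowers.mpr hk)
    have hi : x ^ i = x ^ (i % q) := by rw [← hx, pow_mod_orderOf]
    have hiq : i % q < q := Nat.mod_lt _ hq.pos
    have hi0 : 0 < i % q := by
      rcases Nat.eq_zero_or_pos (i % q) with h0 | h0
      · exfalso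
        apply hg
        rw [hi, h0, pow_zero, mul_one]
        exact ha
      · exact h0
    have hz : orderOf (x ^ (i % q)) = q := hxord _ hi0 hiq
    -- the map `v ↦ v z v⁻¹ z⁻¹` on `P` is injective
    let f : P → P := fun v => ⟨v * x ^ (i % q) * (v : G)⁻¹ * (x ^ (i % q))⁻¹, by
      have h1 : x ^ (i % q) * (v : G)⁻¹ * (x ^ (i % q))⁻¹ ∈ P :=
        hPn.conj_mem _ (P.inv_mem v.2) _
      have h2 := P.mul_mem v.2 h1
      have h3 : (v : G) * (x ^ (i % q) * (v : G)⁻¹ * (x ^ (i % q))⁻¹) =
          v * x ^ (i % q) * (v : G)⁻¹ * (x ^ (i % q))⁻¹ := by group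
      rwa [h3] at h2⟩
    have hfinj : Function.Injective f := by
      intro v w hvw
      have h1 : (v : G) * x ^ (i % q) * (v : G)⁻¹ * (x ^ (i % q))⁻¹ =
          w * x ^ (i % q) * (w : G)⁻¹ * (x ^ (i % q))⁻¹ := congrArg Subtype.val hvw
      have h2 : (v : G) * x ^ (i % q) * (v : G)⁻¹ = w * x ^ (i % q) * (w : G)⁻¹ :=
        mul_right_cancel h1
      by_contra hne
      have hu : (w : G)⁻¹ * v ∈ P := P.mul_mem (P.inv_mem w.2) v.2
      have hu1 : (w : G)⁻¹ * v ≠ 1 := by
        intro h
        apply hne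
        apply Subtype.ext
        have := inv_mul_eq_one.mp h
        exact this.symm
      have hup := hPord _ hu hu1
      apply hfpf (x ^ (i % q)) ((w : G)⁻¹ * v) hz hup
      have h3 : x ^ (i % q) = (w : G)⁻¹ * (v * x ^ (i % q) * (v : G)⁻¹) * w := by
        rw [h2]; group
      calc x ^ (i % q) * ((w : G)⁻¹ * v) * (x ^ (i % q))⁻¹
          = ((w : G)⁻¹ * (v * x ^ (i % q) * (v : G)⁻¹) * w) * ((w : G)⁻¹ * v) *
              (x ^ (i % q))⁻¹ := by rw [← h3]
        _ = (w : G)⁻¹ * v := by group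
    have hfsurj : Function.Surjective f := Finite.injective_iff_surjective.mp hfinj
    obtain ⟨v, hv⟩ := hfsurj ⟨a, ha⟩
    have hv' : (v : G) * x ^ (i % q) * (v : G)⁻¹ * (x ^ (i % q))⁻¹ = a := congrArg Subtype.val hv
    refine ⟨v, i % q, hi0, hiq, ?_⟩
    rw [hi, ← hv']
    group
  -- the three orbits
  let π : G → MulAction.orbitRel.Quotient (MulAut G) G :=
    Quotient.mk (MulAction.orbitRel (MulAut G) G)
  have hord : ∀ g h : G, π g = π h → orderOf g = orderOf h := by
    intro g h hgh
    obtain ⟨σ, rfl⟩ := (autOrbit_mk_eq_iff g h).mp hgh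
    exact MulEquiv.orderOf_eq σ h
  have hy0p : orderOf y0 = p := hPord y0 hy0P hy01
  have h1a : π 1 ≠ π y0 := by
    intro h
    have := hord _ _ h
    rw [orderOf_one, hy0p] at this
    exact hp.one_lt.ne this
  have h1b : π 1 ≠ π x := by
    intro h
    have := hord _ _ h
    rw [orderOf_one, hx] at this
    exact hq.one_lt.ne this
  have hab : π y0 ≠ π x := by
    intro h
    have := hord _ _ h
    rw [hy0p, hx] at this
    exact hpq this
  have hall : ∀ g : G, π g = π 1 ∨ π g = π y0 ∨ π g = π x := by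
    intro g
    by_cases hg1 : g = 1
    · left
      rw [hg1]
    · by_cases hgP : g ∈ P
      · right; left
        obtain ⟨σ, hσ⟩ := autA y0 g hy0P hgP hy01 hg1
        exact (autOrbit_mk_eq_iff g y0).mpr ⟨σ, hσ⟩
      · right; right
        obtain ⟨v, j, hj0, hjq, rfl⟩ := hout g hgP
        obtain ⟨σ, hσ⟩ := autB j hj0 hjq
        refine (autOrbit_mk_eq_iff _ x).mpr ⟨MulAut.conj v * σ, ?_⟩
        rw [MulAut.mul_apply, hσ, MulAut.conj_apply]
  have : Fintype (MulAction.orbitRel.Quotient (MulAut G) G) := Fintype.ofFinite _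
  have hs : ({π 1, π y0, π x} : Finset _).card = 3 := by
    rw [Finset.card_insert_of_notMem, Finset.card_insert_of_notMem, Finset.card_singleton]
    · simpa using hab
    · simp only [Finset.mem_insert, Finset.mem_singleton, not_or]
      exact ⟨h1a, h1b⟩
  have hu : ({π 1, π y0, π x} : Finset _) = Finset.univ := by
    apply Finset.eq_univ_of_forall
    intro c
    obtain ⟨g, rfl⟩ := Quotient.exists_rep c
    have := hall g
    simp only [Finset.mem_insert, Finset.mem_singleton]
    exact this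
  rw [Nat.card_eq_fintype_card, ← Finset.card_univ, ← hu, hs]

end Cfsg.Agent.Helper41
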