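import Mathlib
import Cfsg.Agent.Helper48.M11UGeo
import Cfsg.Agent.Helper48.M11UTri

set_option autoImplicit false
open scoped Pointwise

namespace Cfsg.Agent.Helper41
open Cfsg.Agent.Helper48.M11U

universe u
variable {G : Type u} [Group G] [Finite G]

theorem m11u_n0inv (h : M11L1 G)
    (hJ4 : ∀ z : G, orderOf z = 2 → ∀ J : Finset G,
      (∀ j ∈ J, j ∈ n0 z ∧ orderOf j = 2 ∧ j ≠ z) → J.card ≤ 4)
    (hJ3 : ∀ z : G, orderOf z = 2 → ∀ J : Finset G,
      (∀ j, j ∈ J ↔ (j ∈ n0 z ∧ orderOf j = 2 ∧ j ≠ z)) → 3 ∣ J.card)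
    (hJ2 : ∀ z : G, orderOf z = 2 → ∀ J : Finset G,
      (∀ j, j ∈ J ↔ (j ∈ n0 z ∧ orderOf j = 2 ∧ j ≠ z)) → 2 ∣ J.card)
    (z t : G) (R S : Sylow 3 G) (hz : orderOf z = 2) (ht : orderOf t = 2) (hne : R ≠ S)
    (h1 : Inv z R) (h2 : Inv z S) (h3 : t • R = R) (h4 : t • S = S) : t = z := by
  classical
  haveI : Fintype G := Fintype.ofFinite G
  -- `t` commutes with `z`
  have hw : orderOf (t * z * t⁻¹) = 2 := by
    have h5 := MulEquiv.orderOf_eq (MulAut.conj t) z
    rw [MulAut.conj_apply] at h5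
    rw [h5, hz]
  have hw1 : Inv (t * z * t⁻¹) R := by
    have := inv_conj h1 t
    rwa [h3] at this
  have hw2 : Inv (t * z * t⁻¹) S := by
    have := inv_conj h2 t
    rwa [h4] at this
  have hzw : z = t * z * t⁻¹ := h.uniq z (t * z * t⁻¹) R S hz hw hne h1 h2 hw1 hw2
  have hcomm : t * z = z * t := by
    calc t * z = t * z * t⁻¹ * t := by group
      _ = z * t := by rw [← hzw]
  -- `t ∈ n0 z`
  obtain ⟨T, hT, hRT, hST, hall⟩ := tri_third (h.tri z hz) h1 h2 hne
  have htT : t • T = T := by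
    have h6 : Inv z (t • T) := by
      have := inv_conj hT t
      rwa [← hzw] at this
    rcases hall _ h6 with h7 | h7 | h7
    · exfalso
      rw [← h3] at h7
      exact hRT (smul_left_cancel t h7).symm
    · exfalso
      rw [← h4] at h7
      exact hST (smul_left_cancel t h7).symm
    · exact h7
  have htn : t ∈ n0 z := by
    rw [mem_n0]
    refine ⟨hcomm, ?_⟩
    intro P hP
    rcases hall P hP with h7 | h7 | h7
    · rw [h7]; exact h3
    · rw [h7]; exact h4
    · rw [h7]; exact htT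
  -- the set `J`
  set J : Finset G := Finset.univ.filter (fun j => j ∈ n0 z ∧ orderOf j = 2 ∧ j ≠ z) with hJdef
  have hJ : ∀ j, j ∈ J ↔ (j ∈ n0 z ∧ orderOf j = 2 ∧ j ≠ z) := by
    intro j
    rw [hJdef, Finset.mem_filter]
    simp
  have hc4 := hJ4 z hz J (fun j hj => (hJ j).mp hj)
  have hc3 := hJ3 z hz J hJ
  have hc2 := hJ2 z hz J hJ
  have hc0 : J.card = 0 := by omega
  by_contra htz
  have : t ∈ J := (hJ t).mpr ⟨htn, ht, htz⟩
  rw [Finset.card_eq_zero] at hc0
  rw [hc0] at this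
  exact absurd this (Finset.notMem_empty t)

end Cfsg.Agent.Helper41
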