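import Cfsg.Prelude.Def_Transfer
import Cfsg.Prelude.Def_Solvable
import Cfsg.Agent.Helper63.N15Defs

/-!
# CALL S4415 (helper63), piece M12 (helper41).
-/

set_option autoImplicit false

namespace Cfsg.Agent.Helper41.N15

open Cfsg.Agent.Helper63.N15

variable {G : Type*} [Group G] [Finite G] {V : Type*} [AddCommGroup V] [Module (ZMod 3) V]
  [Finite V] {ρ : Representation (ZMod 3) G V} {R : Subgroup G} {b q₁ q₂ q₃ : G} {v₁ v₂ v₃ : V}

theorem m12_all3 : ∀ a b c : Fin 3, a ≠ b → b ≠ c → a ≠ c → ∀ i : Fin 3, i = a ∨ i = b ∨ i = c := by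
  decide

theorem m12_all4 : ∀ a b c d : Fin 4, a ≠ b → b ≠ c → a ≠ c → d ≠ a → d ≠ b → d ≠ c →
    ∀ i : Fin 4, i = a ∨ i = b ∨ i = c ∨ i = d := by
  decide

theorem m12_ex4 : ∀ a b c : Fin 4, ∃ d : Fin 4, d ≠ a ∧ d ≠ b ∧ d ≠ c := by
  decide

theorem m12_sum3 {M : Type*} [AddCommMonoid M] (a b c : Fin 3) (hab : a ≠ b) (hbc : b ≠ c)
    (hac : a ≠ c) (f : Fin 3 → M) : ∑ i, f i = f a + f b + f c := by
  classical
  have hS : (Finset.univ : Finset (Fin 3)) = {a, b, c} := by
    ext i
    simp only [Finset.mem_univ, Finset.mem_insert, Finset.mem_singleton, true_iff]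
    exact m12_all3 a b c hab hbc hac i
  rw [hS, Finset.sum_insert (by simp [hab, hac]), Finset.sum_insert (by simp [hbc]),
    Finset.sum_singleton, add_assoc]

theorem m12_sum4 {M : Type*} [AddCommMonoid M] (a b c d : Fin 4) (hab : a ≠ b) (hbc : b ≠ c)
    (hac : a ≠ c) (hda : d ≠ a) (hdb : d ≠ b) (hdc : d ≠ c) (f : Fin 4 → M) :
    ∑ i, f i = f a + f b + f c + f d := by
  classical
  have hS : (Finset.univ : Finset (Fin 4)) = {a, b, c, d} := by
    ext i
    simp only [Finset.mem_univ, Finset.mem_insert, Finset.mem_singleton, true_iff]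
    exact m12_all4 a b c d hab hbc hac hda hdb hdc i
  rw [hS, Finset.sum_insert (by simp [hab, hac, hda.symm]),
    Finset.sum_insert (by simp [hbc, hdb.symm]), Finset.sum_insert (by simp [hdc.symm]),
    Finset.sum_singleton, add_assoc, add_assoc]

/-- M12 (plumbing). -/
theorem m12 (ρ : Representation (ZMod 3) G V) (b : G) (n : ℕ)
    (e : Module.Basis (Fin n) (ZMod 3) V) (h : MonoN ρ b n e) (hn : n ≤ 4) :
    (∃ e₁ e₂ e₃ : V, Mono3 ρ b e₁ e₂ e₃) ∨ ∃ e₁ e₂ e₃ e₄ : V, Mono4 ρ b e₁ e₂ e₃ e₄ := by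
  classical
  obtain ⟨hperm, htrans, i₁, i₂, i₃, h12, h23, h13, hb1, hb2, hb3, hbfix⟩ := h
  have hn3 : 3 ≤ n := by
    have hc : ({i₁, i₂, i₃} : Finset (Fin n)).card = 3 := by
      rw [Finset.card_insert_of_notMem (by simp [h12, h13]),
        Finset.card_insert_of_notMem (by simp [h23]), Finset.card_singleton]
    have := Finset.card_le_univ ({i₁, i₂, i₃} : Finset (Fin n))
    rw [hc, Fintype.card_fin] at this
    exact this
  have hn34 : n = 3 ∨ n = 4 := by omega
  rcases hn34 with rfl | rfl
  · left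
    have hall := m12_all3 i₁ i₂ i₃ h12 h23 h13
    refine ⟨e i₁, e i₂, e i₃, ?_, ?_, ?_, hb1, hb2, hb3⟩
    · intro v
      refine ⟨e.repr v i₁, e.repr v i₂, e.repr v i₃, ?_⟩
      have := e.sum_repr v
      rw [m12_sum3 i₁ i₂ i₃ h12 h23 h13] at this
      exact this.symm
    · intro c₁ c₂ c₃ hsum
      have hr := congrArg (fun v => e.repr v) hsum
      simp only [map_add, map_smul, Module.Basis.repr_self, map_zero] at hr
      refine ⟨?_, ?_, ?_⟩
      · have := congrArg (fun f => f i₁) hr
        simpa [Finsupp.single_apply, h12, h13, h12.symm, h13.symm] using this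
      · have := congrArg (fun f => f i₂) hr
        simpa [Finsupp.single_apply, h12, h23, h12.symm, h23.symm] using this
      · have := congrArg (fun f => f i₃) hr
        simpa [Finsupp.single_apply, h13, h23, h13.symm, h23.symm] using this
    · intro g x hx
      have key : ∀ i : Fin 3, ∃ x' ∈ ({e i₁, e i₂, e i₃} : Set V),
          ρ g (e i) = x' ∨ ρ g (e i) = -x' := by
        intro i
        obtain ⟨j, hj⟩ := hperm g i
        refine ⟨e j, ?_, hj⟩
        rcases hall j with rfl | rfl | rfl <;> simp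
      simp only [Set.mem_insert_iff, Set.mem_singleton_iff] at hx
      rcases hx with rfl | rfl | rfl
      · exact key i₁
      · exact key i₂
      · exact key i₃
  · right
    obtain ⟨i₄, h41, h42, h43⟩ := m12_ex4 i₁ i₂ i₃
    have hall := m12_all4 i₁ i₂ i₃ i₄ h12 h23 h13 h41 h42 h43
    refine ⟨e i₁, e i₂, e i₃, e i₄, ?_, ?_, ?_, ?_, hb1, hb2, hb3, hbfix i₄ h41 h42 h43⟩
    · intro v
      refine ⟨e.repr v i₁, e.repr v i₂, e.repr v i₃, e.repr v i₄, ?_⟩
      have := e.sum_repr v
      rw [m12_sum4 i₁ i₂ i₃ i₄ h12 h23 h13 h41 h42 h43] at this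
      exact this.symm
    · intro c₁ c₂ c₃ c₄ hsum
      have hr := congrArg (fun v => e.repr v) hsum
      simp only [map_add, map_smul, Module.Basis.repr_self, map_zero] at hr
      refine ⟨?_, ?_, ?_, ?_⟩
      · have := congrArg (fun f => f i₁) hr
        simpa [Finsupp.single_apply, h12, h13, h41, h12.symm, h13.symm, h41.symm] using this
      · have := congrArg (fun f => f i₂) hr
        simpa [Finsupp.single_apply, h12, h23, h42, h12.symm, h23.symm, h42.symm] using this
      · have := congrArg (fun f => f i₃) hr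
        simpa [Finsupp.single_apply, h13, h23, h43, h13.symm, h23.symm, h43.symm] using this
      · have := congrArg (fun f => f i₄) hr
        simpa [Finsupp.single_apply, h41, h42, h43, h41.symm, h42.symm, h43.symm] using this
    · intro g x hx
      have key : ∀ i : Fin 4, ∃ x' ∈ ({e i₁, e i₂, e i₃, e i₄} : Set V),
          ρ g (e i) = x' ∨ ρ g (e i) = -x' := by
        intro i
        obtain ⟨j, hj⟩ := hperm g i
        refine ⟨e j, ?_, hj⟩
        rcases hall j with rfl | rfl | rfl | rfl <;> simp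
      simp only [Set.mem_insert_iff, Set.mem_singleton_iff] at hx
      rcases hx with rfl | rfl | rfl | rfl
      · exact key i₁
      · exact key i₂
      · exact key i₃
      · exact key i₄
    · intro x hx
      simp only [Set.mem_insert_iff, Set.mem_singleton_iff] at hx
      rcases hx with rfl | rfl | rfl | rfl
      · exact htrans i₄ i₁
      · exact htrans i₄ i₂
      · exact htrans i₄ i₃
      · exact htrans i₄ i₄

end Cfsg.Agent.Helper41.N15
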