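import Mathlib
import Cfsg.Agent.Helper9.OrdTools

/-! CALL S0496 (helper27), piece O720D1: in a simple group of order 720 with ten Sylow
3-subgroups meeting pairwise trivially, only the identity fixes three Sylow 3-subgroups. -/

set_option autoImplicit false

namespace Cfsg.Agent.Helper41

open Subgroup Cfsg.Agent.Helper9

/-- If a Sylow `p`-subgroup `P` meets another one `R` trivially and there are at most
`|P| + 1` Sylow `p`-subgroups, then `P` acts regularly on the Sylow subgroups other
than `P`. -/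
theorem o720d_regular {G : Type*} [Group G] [Finite G] {p : ℕ} [Fact p.Prime]
    (P R : Sylow p G) (hcard : Nat.card (Sylow p G) ≤ Nat.card (P : Subgroup G) + 1)
    (hPR : P ≠ R) (hbot : (P : Subgroup G) ⊓ (R : Subgroup G) = ⊥) :
    (∀ x ∈ (P : Subgroup G), x • R ≠ P) ∧
    (∀ x ∈ (P : Subgroup G), ∀ y ∈ (P : Subgroup G), x • R = y • R → x = y) ∧
    (∀ Q : Sylow p G, Q ≠ P → ∃ x ∈ (P : Subgroup G), x • R = Q) := by
  have hwd : ∀ x : G, x ∈ (P : Subgroup G) → x • R ≠ P := by
    intro x hxP hx
    apply hPR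
    have h1 : x⁻¹ • P = P := by
      rw [Sylow.smul_eq_iff_mem_normalizer]
      exact Subgroup.le_normalizer (inv_mem hxP)
    calc P = x⁻¹ • P := h1.symm
      _ = x⁻¹ • (x • R) := by rw [hx]
      _ = R := inv_smul_smul x R
  have hinj' : ∀ x ∈ (P : Subgroup G), ∀ y ∈ (P : Subgroup G), x • R = y • R → x = y := by
    intro x hx y hy h1
    have h2 : (y⁻¹ * x) • R = R := by
      rw [mul_smul, h1, inv_smul_smul]
    rw [Sylow.smul_eq_iff_mem_normalizer] at h2
    have h4 := IsPGroup.inf_normalizer_sylow P.2 R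
    have h3 : y⁻¹ * x ∈ (P : Subgroup G) ⊓ (R : Subgroup G) := by
      rw [← h4]
      exact Subgroup.mem_inf.mpr ⟨mul_mem (inv_mem hy) hx, h2⟩
    rw [hbot, Subgroup.mem_bot] at h3
    calc x = y * (y⁻¹ * x) := by group
      _ = y := by rw [h3, mul_one]
  refine ⟨hwd, hinj', ?_⟩
  let f : ↥(P : Subgroup G) → {Q : Sylow p G // Q ≠ P} := fun x => ⟨(x : G) • R, hwd x x.2⟩
  have hinj : Function.Injective f := by
    intro x y hxy
    exact Subtype.ext (hinj' x x.2 y y.2 (congrArg Subtype.val hxy))
  have hle : Nat.card {Q : Sylow p G // Q ≠ P} ≤ Nat.card (P : Subgroup G) := by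
    have := Finite.card_subtype_lt (p := fun Q : Sylow p G => Q ≠ P) (x := P) (by simp)
    omega
  have hbij := hinj.bijective_of_nat_card_le hle
  intro Q hQ
  obtain ⟨x, hx⟩ := hbij.2 ⟨Q, hQ⟩
  exact ⟨x, x.2, congrArg Subtype.val hx⟩

/-- An even involution moves a multiple of four points. -/
theorem o720d_even_invol {α : Type*} [Fintype α] [DecidableEq α] (σ : Equiv.Perm α)
    (h2 : σ ^ 2 = 1) (hs : Equiv.Perm.sign σ = 1) : 4 ∣ σ.support.card := by
  by_cases h1 : σ = 1
  · subst h1; simp
  · haveI : Fact (Nat.Prime 2) := ⟨Nat.prime_two⟩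
    have ho : orderOf σ = 2 := orderOf_eq_prime h2 h1
    obtain ⟨n, hn⟩ := Equiv.Perm.cycleType_prime_order (σ := σ) (by rw [ho]; exact Nat.prime_two)
    rw [ho] at hn
    have hsum := Equiv.Perm.sum_cycleType σ
    rw [hn, Multiset.sum_replicate, smul_eq_mul] at hsum
    have hsign := Equiv.Perm.sign_of_cycleType σ
    rw [hs, hn, Multiset.sum_replicate, Multiset.card_replicate, smul_eq_mul] at hsign
    have hev : Even ((n + 1) * 2 + (n + 1)) := by
      rw [← neg_one_pow_eq_one_iff_even (R := ℤˣ) (by decide)]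
      exact hsign.symm
    rw [← hsum]
    obtain ⟨k, hk⟩ := hev
    omega

/-- PIECE O720D1 (CALL S0496, helper27) -/
theorem o720_stab3 {G : Type*} [Group G] [Finite G] [IsSimpleGroup G]
    (hG : ¬ IsMulCommutative G) (h : Nat.card G = 720)
    (h10 : Nat.card (Sylow 3 G) = 10)
    (hti : ∀ P Q : Sylow 3 G, P ≠ Q → (P : Subgroup G) ⊓ (Q : Subgroup G) = ⊥) :
    ∀ a b c : Sylow 3 G, a ≠ b → a ≠ c → b ≠ c →
      ∀ g : G, g • a = a → g • b = b → g • c = c → g = 1 := by
  classical
  haveI : Fact (Nat.Prime 3) := ⟨by norm_num⟩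
  haveI : Fintype (Sylow 3 G) := Fintype.ofFinite _
  have hS : ∀ P : Sylow 3 G, Nat.card (P : Subgroup G) = 9 := by
    intro P
    have := OrdTools.sylow_card (p := 3) 2 80 (by rw [h]; norm_num) (by norm_num) P
    simpa using this
  have hna : ∃ x y : G, x * y ≠ y * x := by
    by_contra hcon
    push_neg at hcon
    exact hG ⟨⟨hcon⟩⟩
  have hcardΩ : Fintype.card (Sylow 3 G) = 10 := by rw [← Nat.card_eq_fintype_card, h10]
  -- the involution case
  have hinv : ∀ a b c : Sylow 3 G, a ≠ b → a ≠ c → b ≠ c → ∀ s : G, orderOf s = 2 →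
      s • a = a → s • b = b → s • c = c → False := by
    intro a b c hab hac hbc s hs2 hsa hsb hsc
    obtain ⟨hwd, hinj, hsurj⟩ := o720d_regular a b (by rw [h10, hS a]) hab (hti a b hab)
    have hsN : s ∈ normalizer ((a : Subgroup G) : Set G) := Sylow.smul_eq_iff_mem_normalizer.mp hsa
    have hs1 : s ≠ 1 := by
      intro h1
      rw [h1, orderOf_one] at hs2
      omega
    have hss : s * s = 1 := by
      have := pow_orderOf_eq_one s
      rwa [hs2, pow_two] at this
    -- the permutation
    set σ : Equiv.Perm (Sylow 3 G) := MulAction.toPerm s with hσ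
    have hσ2 : σ ^ 2 = 1 := by
      ext Q
      simp only [hσ, pow_two, Equiv.Perm.coe_mul, Function.comp_apply, MulAction.toPerm_apply,
        Equiv.Perm.coe_one, id_eq]
      rw [← mul_smul, hss, one_smul]
    have hsign : Equiv.Perm.sign σ = 1 :=
      OrdTools.hom_trivial hna (Equiv.Perm.sign.comp (MulAction.toPermHom G (Sylow 3 G))) s
    have h4 := o720d_even_invol σ hσ2 hsign
    -- fixed points
    set Fix : Finset (Sylow 3 G) := Finset.univ.filter (fun Q : Sylow 3 G => s • Q = Q) with hFix
    have hsupp : σ.support = Finset.univ.filter (fun Q : Sylow 3 G => ¬ s • Q = Q) := by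
      ext Q
      simp [hσ]
    have hsplit : Fix.card + σ.support.card = 10 := by
      rw [hsupp, hFix, Finset.card_filter_add_card_filter_not, Finset.card_univ, hcardΩ]
    have h3 : 3 ≤ Fix.card := by
      have hsub : ({a, b, c} : Finset (Sylow 3 G)) ⊆ Fix := by
        intro Q hQ
        simp only [Finset.mem_insert, Finset.mem_singleton] at hQ
        rw [hFix, Finset.mem_filter]
        rcases hQ with rfl | rfl | rfl
        · exact ⟨Finset.mem_univ _, hsa⟩
        · exact ⟨Finset.mem_univ _, hsb⟩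
        · exact ⟨Finset.mem_univ _, hsc⟩
      have hc3 : ({a, b, c} : Finset (Sylow 3 G)).card = 3 := by
        rw [Finset.card_insert_of_notMem, Finset.card_insert_of_notMem, Finset.card_singleton]
        · simpa using hbc
        · simp [hab, hac]
      have hle := Finset.card_le_card hsub
      rw [hc3] at hle
      exact hle
    -- not all points are fixed
    have hne10 : Fix.card ≠ 10 := by
      intro h10'
      apply hs1
      apply OrdTools.eq_one_of_smul_sylow (p := 3) (by rw [h10]; norm_num) s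
      intro Q
      have : Fix = Finset.univ := by
        apply Finset.eq_univ_of_card
        rw [h10', hcardΩ]
      have hQ : Q ∈ Fix := this ▸ Finset.mem_univ Q
      exact (Finset.mem_filter.mp hQ).2
    -- the fixed points other than `a` correspond to `C_a(s)`
    set Cs : Subgroup G := (a : Subgroup G) ⊓ centralizer ({s} : Set G) with hCs
    have hCsdvd : Nat.card Cs ∣ 9 := hS a ▸ Subgroup.card_dvd_of_le inf_le_left
    let f : ↥Cs → {Q : Sylow 3 G // Q ≠ a ∧ s • Q = Q} := fun x =>
      ⟨(x : G) • b, hwd x (Subgroup.mem_inf.mp x.2).1, by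
        have hx := (Subgroup.mem_inf.mp x.2).2
        rw [Subgroup.mem_centralizer_iff] at hx
        have hcomm : s * (x : G) = (x : G) * s := hx s rfl
        rw [← mul_smul, hcomm, mul_smul, hsb]⟩
    have hfinj : Function.Injective f := by
      intro x y hxy
      exact Subtype.ext (hinj x (Subgroup.mem_inf.mp x.2).1 y (Subgroup.mem_inf.mp y.2).1
        (congrArg Subtype.val hxy))
    have hfsurj : Function.Surjective f := by
      rintro ⟨Q, hQa, hQs⟩
      obtain ⟨x, hxa, hxQ⟩ := hsurj Q hQa
      have hconj : s * x * s⁻¹ ∈ (a : Subgroup G) := (Subgroup.mem_normalizer_iff.mp hsN x).mp hxa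
      have heq : (s * x * s⁻¹) • b = x • b := by
        calc (s * x * s⁻¹) • b = s • (x • (s⁻¹ • b)) := by rw [mul_smul, mul_smul]
          _ = s • (x • b) := by
            have : s⁻¹ • b = b := by rw [inv_smul_eq_iff, hsb]
            rw [this]
          _ = x • b := by rw [hxQ, hQs]
      have hfixx : s * x * s⁻¹ = x := hinj _ hconj _ hxa heq
      have hxC : x ∈ Cs := by
        rw [hCs]
        refine Subgroup.mem_inf.mpr ⟨hxa, ?_⟩
        rw [Subgroup.mem_centralizer_iff]
        intro t ht
        rw [Set.mem_singleton_iff] at ht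
        subst ht
        calc t * x = t * x * t⁻¹ * t := by group
          _ = x * t := by rw [hfixx]
      exact ⟨⟨x, hxC⟩, Subtype.ext hxQ⟩
    have hcardB : Nat.card {Q : Sylow 3 G // Q ≠ a ∧ s • Q = Q} = Nat.card Cs :=
      (Nat.card_congr (Equiv.ofBijective f ⟨hfinj, hfsurj⟩)).symm
    have herase : (Fix.erase a).card = Nat.card Cs := by
      rw [← hcardB, Nat.card_eq_fintype_card, Fintype.card_subtype]
      congr 1
      ext Q
      simp [hFix]
    have haFix : a ∈ Fix := by
      rw [hFix, Finset.mem_filter]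
      exact ⟨Finset.mem_univ _, hsa⟩
    rw [Finset.card_erase_of_mem haFix] at herase
    have hle9 : Nat.card Cs ≤ 9 := Nat.le_of_dvd (by norm_num) hCsdvd
    obtain ⟨k, hk⟩ := h4
    generalize Nat.card Cs = m at *
    generalize Fix.card = F at *
    interval_cases m <;> omega
  intro a b c hab hac hbc g hga hgb hgc
  by_contra hg1
  -- the order of `g` divides 8
  obtain ⟨-, -, -, hN⟩ := OrdTools.sylow_num a (by rw [hS a]; norm_num) (by rw [hS a, h]; norm_num)
  rw [h10, h] at hN
  have hN72 : Nat.card (normalizer ((a : Subgroup G) : Set G)) = 72 := by omega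
  set H : Subgroup G := normalizer ((a : Subgroup G) : Set G) ⊓
    normalizer ((b : Subgroup G) : Set G) with hH
  have hgH : g ∈ H := Subgroup.mem_inf.mpr
    ⟨Sylow.smul_eq_iff_mem_normalizer.mp hga, Sylow.smul_eq_iff_mem_normalizer.mp hgb⟩
  have hH72 : Nat.card H ∣ 72 := hN72 ▸ Subgroup.card_dvd_of_le inf_le_left
  have hH3 : ¬ 3 ∣ Nat.card H := by
    intro h3
    obtain ⟨y, hy⟩ := exists_prime_orderOf_dvd_card' (G := H) 3 h3
    have hyo : orderOf (y : G) = 3 := by rw [Subgroup.orderOf_coe]; exact hy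
    have hzp : IsPGroup 3 (zpowers (y : G)) :=
      IsPGroup.of_card (n := 1) (by rw [Nat.card_zpowers, hyo, pow_one])
    have hya : (y : G) ∈ (a : Subgroup G) := by
      have h1 := IsPGroup.inf_normalizer_sylow hzp a
      have h2 : (y : G) ∈ zpowers (y : G) ⊓ (a : Subgroup G) := by
        rw [← h1]
        exact Subgroup.mem_inf.mpr ⟨mem_zpowers _, (Subgroup.mem_inf.mp y.2).1⟩
      exact (Subgroup.mem_inf.mp h2).2
    have hyb : (y : G) ∈ (b : Subgroup G) := by
      have h1 := IsPGroup.inf_normalizer_sylow hzp b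
      have h2 : (y : G) ∈ zpowers (y : G) ⊓ (b : Subgroup G) := by
        rw [← h1]
        exact Subgroup.mem_inf.mpr ⟨mem_zpowers _, (Subgroup.mem_inf.mp y.2).2⟩
      exact (Subgroup.mem_inf.mp h2).2
    have hy1 : (y : G) ∈ (a : Subgroup G) ⊓ (b : Subgroup G) := Subgroup.mem_inf.mpr ⟨hya, hyb⟩
    rw [hti a b hab, Subgroup.mem_bot] at hy1
    rw [hy1, orderOf_one] at hyo
    omega
  have hgo : orderOf g ∣ Nat.card H := Subgroup.orderOf_dvd_natCard _ hgH
  have hgo1 : orderOf g ≠ 1 := fun h1 => hg1 (orderOf_eq_one_iff.mp h1)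
  have hcases : orderOf g = 2 ∨ orderOf g = 4 ∨ orderOf g = 8 := by
    have hHle : Nat.card H ≤ 72 := Nat.le_of_dvd (by norm_num) hH72
    have hH8 : Nat.card H = 1 ∨ Nat.card H = 2 ∨ Nat.card H = 4 ∨ Nat.card H = 8 := by
      generalize Nat.card H = m at *
      interval_cases m <;> omega
    have hgle : orderOf g ≤ 8 := by
      have : 0 < Nat.card H := Nat.card_pos
      have := Nat.le_of_dvd this hgo
      omega
    generalize orderOf g = o at *
    generalize Nat.card H = m at *
    rcases hH8 with rfl | rfl | rfl | rfl <;> interval_cases o <;> omega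
  have hpowfix : ∀ (Q : Sylow 3 G), g • Q = Q → ∀ n : ℕ, (g ^ n) • Q = Q := by
    intro Q hQ n
    have : g ^ n ∈ MulAction.stabilizer G Q := pow_mem (MulAction.mem_stabilizer_iff.mpr hQ) n
    exact MulAction.mem_stabilizer_iff.mp this
  have hexs : ∃ n : ℕ, orderOf (g ^ n) = 2 := by
    rcases hcases with h2 | h4 | h8
    · exact ⟨1, by rw [pow_one, h2]⟩
    · exact ⟨2, by rw [orderOf_pow_of_dvd (by norm_num) (by rw [h4]; norm_num), h4]⟩
    · exact ⟨4, by rw [orderOf_pow_of_dvd (by norm_num) (by rw [h8]; norm_num), h8]⟩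
  obtain ⟨n, hn⟩ := hexs
  exact hinv a b c hab hac hbc (g ^ n) hn (hpowfix a hga n) (hpowfix b hgb n) (hpowfix c hgc n)

end Cfsg.Agent.Helper41
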