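import Mathlib

/-!
# Piece D of CALL S5188 (helper84): an automorphism of order dividing `p` of `C_{p^2} × C_{p^2}`
(`p ≥ 5`) is trivial modulo `p`-th powers.
-/

set_option autoImplicit false

namespace Cfsg.Agent.Helper41.P4D

open Matrix

/-- Cayley–Hamilton for `2 × 2` matrices. -/
theorem cayley2 {K : Type*} [CommRing K] (M : Matrix (Fin 2) (Fin 2) K) :
    M * M = M.trace • M - M.det • (1 : Matrix (Fin 2) (Fin 2) K) := by
  ext i j
  fin_cases i <;> fin_cases j <;>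
    simp [Matrix.mul_apply, Fin.sum_univ_two, Matrix.det_fin_two, Matrix.trace_fin_two] <;> ring

/-- A nilpotent `2 × 2` matrix over a field has square zero. -/
theorem nilp2 {K : Type*} [Field K] (M : Matrix (Fin 2) (Fin 2) K) (n : ℕ) (h : M ^ n = 0) :
    M * M = 0 := by
  rcases Nat.eq_zero_or_pos n with rfl | hn
  · rw [pow_zero] at h
    calc M * M = M * M * 1 := (mul_one _).symm
      _ = 0 := by rw [h, mul_zero]
  have hd : M.det = 0 := by
    have h1 : M.det ^ n = 0 := by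
      rw [← Matrix.det_pow, h, Matrix.det_zero]
    exact pow_eq_zero_iff (Nat.pos_iff_ne_zero.mp hn) |>.mp h1
  have hsq : M * M = M.trace • M := by
    rw [cayley2, hd, zero_smul, sub_zero]
  have hpow : ∀ k : ℕ, M ^ (k + 1) = M.trace ^ k • M := by
    intro k
    induction k with
    | zero => simp
    | succ k ih =>
      rw [pow_succ, ih, smul_mul_assoc, hsq, smul_smul, ← pow_succ]
  obtain ⟨k, rfl⟩ : ∃ k, n = k + 1 := ⟨n - 1, by omega⟩
  rw [hpow] at h
  rcases smul_eq_zero.mp h with h0 | h0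
  · have ht : M.trace = 0 := by
      rcases Nat.eq_zero_or_pos k with rfl | hk
      · simp at h0
      · exact pow_eq_zero_iff (Nat.pos_iff_ne_zero.mp hk) |>.mp h0
    rw [hsq, ht, zero_smul]
  · rw [h0, mul_zero]

variable {p : ℕ} [hp : Fact p.Prime]

/-- The kernel of `ZMod (p^2) → ZMod p` is `p * ZMod (p^2)`. -/
theorem ker_cast (a : ZMod (p ^ 2))
    (h : (ZMod.castHom (dvd_pow_self p two_ne_zero) (ZMod p)) a = 0) :
    ∃ c : ZMod (p ^ 2), a = (p : ZMod (p ^ 2)) * c := by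
  haveI : NeZero (p ^ 2) := ⟨pow_ne_zero 2 hp.out.ne_zero⟩
  have ha : a = ((a.val : ℕ) : ZMod (p ^ 2)) := (ZMod.natCast_zmod_val a).symm
  rw [ha, map_natCast] at h
  have hdvd : p ∣ a.val := (ZMod.natCast_eq_zero_iff _ _).mp h
  obtain ⟨k, hk⟩ := hdvd
  refine ⟨(k : ZMod (p ^ 2)), ?_⟩
  calc a = ((a.val : ℕ) : ZMod (p ^ 2)) := ha
    _ = ((p * k : ℕ) : ZMod (p ^ 2)) := by rw [← hk]
    _ = (p : ZMod (p ^ 2)) * (k : ZMod (p ^ 2)) := by push_cast; rfl

/-- Elements of `ZMod (p^2)` killed by `p` are multiples of `p`. -/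
theorem ann_p (b : ZMod (p ^ 2)) (h : (p : ZMod (p ^ 2)) * b = 0) :
    ∃ c : ZMod (p ^ 2), b = (p : ZMod (p ^ 2)) * c := by
  haveI : NeZero (p ^ 2) := ⟨pow_ne_zero 2 hp.out.ne_zero⟩
  have hb : b = ((b.val : ℕ) : ZMod (p ^ 2)) := (ZMod.natCast_zmod_val b).symm
  rw [hb, ← Nat.cast_mul] at h
  have hdvd : p ^ 2 ∣ p * b.val := (ZMod.natCast_eq_zero_iff _ _).mp h
  have hdvd2 : p * p ∣ p * b.val := (dvd_of_eq (pow_two p).symm).trans hdvd
  have hdvd' : p ∣ b.val := (Nat.mul_dvd_mul_iff_left hp.out.pos).mp hdvd2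
  obtain ⟨k, hk⟩ := hdvd'
  refine ⟨(k : ZMod (p ^ 2)), ?_⟩
  calc b = ((b.val : ℕ) : ZMod (p ^ 2)) := hb
    _ = ((p * k : ℕ) : ZMod (p ^ 2)) := by rw [← hk]
    _ = (p : ZMod (p ^ 2)) * (k : ZMod (p ^ 2)) := by push_cast; rfl

theorem pp_zero : (p : ZMod (p ^ 2)) * (p : ZMod (p ^ 2)) = 0 := by
  rw [← Nat.cast_mul, ← pow_two]
  exact ZMod.natCast_self (p ^ 2)

/-- The key matrix lemma. -/
theorem mat_core (h5 : 5 ≤ p) (A : Matrix (Fin 2) (Fin 2) (ZMod (p ^ 2))) (hA : A ^ p = 1) :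
    ∃ C : Matrix (Fin 2) (Fin 2) (ZMod (p ^ 2)), A = 1 + (p : ZMod (p ^ 2)) • C := by
  set B : Matrix (Fin 2) (Fin 2) (ZMod (p ^ 2)) := A - 1 with hB
  have hAB : A = B + 1 := by rw [hB, sub_add_cancel]
  set φ := (ZMod.castHom (dvd_pow_self p two_ne_zero) (ZMod p)).mapMatrix (m := Fin 2) with hφ
  -- `B` is nilpotent modulo `p`
  have h1 : (φ B) ^ p = 0 := by
    have : φ B = φ A - 1 := by rw [hB, map_sub, map_one]
    rw [this, sub_pow_char_of_commute p (Commute.one_right _), one_pow, ← map_pow, hA, map_one, sub_self]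
  have h2 : φ (B * B) = 0 := by
    rw [map_mul]
    exact nilp2 _ p h1
  have h3 : ∀ i j, ∃ c : ZMod (p ^ 2), (B * B) i j = (p : ZMod (p ^ 2)) * c := by
    intro i j
    apply ker_cast
    have := congrFun (congrFun h2 i) j
    simpa [hφ] using this
  choose C hC using h3
  have hBB : B * B = (p : ZMod (p ^ 2)) • (Matrix.of C) := by
    ext i j
    rw [hC i j]
    simp
  -- interior terms vanish
  have hint : ∀ m, 2 ≤ m → m < p → (p.choose m) • B ^ m = 0 := by
    intro m hm2 hmp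
    obtain ⟨c, hc⟩ := hp.out.dvd_choose_self (by omega) hmp
    obtain ⟨k, rfl⟩ : ∃ k, m = 2 + k := ⟨m - 2, by omega⟩
    rw [pow_add, pow_two B, hBB, hc, smul_mul_assoc, mul_comm p c, mul_smul,
      ← Nat.cast_smul_eq_nsmul (ZMod (p ^ 2)) p, smul_smul, pp_zero, zero_smul, smul_zero]
  have hlast : B ^ p = 0 := by
    obtain ⟨k, rfl⟩ : ∃ k, p = 4 + k := ⟨p - 4, by omega⟩
    have h4 : B ^ 4 = 0 := by
      have : B ^ 4 = (B * B) * (B * B) := by
        rw [← pow_two B, ← pow_add]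
      rw [this, hBB, smul_mul_smul_comm, pp_zero, zero_smul]
    rw [pow_add, h4, zero_mul]
  have hexp : A ^ p = p • B + 1 := by
    rw [hAB, (Commute.one_right B).add_pow p]
    have hterm : ∀ m, B ^ m * 1 ^ (p - m) * ((p.choose m : ℕ) : Matrix (Fin 2) (Fin 2) (ZMod (p ^ 2)))
        = (p.choose m) • B ^ m := by
      intro m
      rw [one_pow, mul_one, nsmul_eq_mul']
    simp_rw [hterm]
    obtain ⟨q, hq⟩ : ∃ q, p = q + 1 := ⟨p - 1, by have := hp.out.pos; omega⟩
    rw [Finset.sum_range_succ']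
    conv_lhs => rw [show Finset.range p = Finset.range (q + 1) by rw [hq]]
    rw [Finset.sum_range_succ']
    have hz : ∑ k ∈ Finset.range q, (p.choose (k + 1 + 1)) • B ^ (k + 1 + 1) = 0 := by
      apply Finset.sum_eq_zero
      intro k hk
      rw [Finset.mem_range] at hk
      rcases Nat.lt_or_ge (k + 1 + 1) p with hlt | hge
      · exact hint _ (by omega) hlt
      · have : k + 1 + 1 = p := by omega
        rw [this, hlast, smul_zero]
    rw [hz, zero_add]
    simp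
  have hpB : p • B = 0 := by
    rw [hexp] at hA
    simpa using hA
  have h4 : ∀ i j, ∃ c : ZMod (p ^ 2), B i j = (p : ZMod (p ^ 2)) * c := by
    intro i j
    apply ann_p
    have := congrFun (congrFun hpB i) j
    simpa using this
  choose C' hC' using h4
  refine ⟨Matrix.of C', ?_⟩
  rw [hAB, add_comm]
  congr 1
  ext i j
  rw [hC' i j]
  simp

section transport

variable {G : Type*} [Group G]

/-- The additive map on `ZMod (p^2) × ZMod (p^2)` induced by an automorphism of `G`. -/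
def tr (e : G ≃* Multiplicative (ZMod (p ^ 2) × ZMod (p ^ 2))) (β : MulAut G)
    (m : ZMod (p ^ 2) × ZMod (p ^ 2)) : ZMod (p ^ 2) × ZMod (p ^ 2) :=
  Multiplicative.toAdd (e (β (e.symm (Multiplicative.ofAdd m))))

theorem tr_add (e : G ≃* Multiplicative (ZMod (p ^ 2) × ZMod (p ^ 2))) (β : MulAut G)
    (m n : ZMod (p ^ 2) × ZMod (p ^ 2)) : tr e β (m + n) = tr e β m + tr e β n := by
  unfold tr
  rw [ofAdd_add, map_mul, map_mul, map_mul, toAdd_mul]

theorem tr_nsmul (e : G ≃* Multiplicative (ZMod (p ^ 2) × ZMod (p ^ 2))) (β : MulAut G)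
    (k : ℕ) (m : ZMod (p ^ 2) × ZMod (p ^ 2)) : tr e β (k • m) = k • tr e β m := by
  unfold tr
  rw [ofAdd_nsmul, map_pow, map_pow, map_pow, toAdd_pow]

theorem tr_iter (e : G ≃* Multiplicative (ZMod (p ^ 2) × ZMod (p ^ 2))) (β : MulAut G)
    (k : ℕ) (m : ZMod (p ^ 2) × ZMod (p ^ 2)) :
    (tr e β)^[k] m = Multiplicative.toAdd (e ((β ^ k) (e.symm (Multiplicative.ofAdd m)))) := by
  induction k with
  | zero => simp
  | succ k ih =>
    rw [Function.iterate_succ_apply', ih, pow_succ' β k, MulAut.mul_apply]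
    unfold tr
    rw [ofAdd_toAdd, MulEquiv.symm_apply_apply]

/-- coordinates as a vector -/
def vec (m : ZMod (p ^ 2) × ZMod (p ^ 2)) : Fin 2 → ZMod (p ^ 2) := ![m.1, m.2]

/-- the matrix of `tr e β` -/
def mat (e : G ≃* Multiplicative (ZMod (p ^ 2) × ZMod (p ^ 2))) (β : MulAut G) :
    Matrix (Fin 2) (Fin 2) (ZMod (p ^ 2)) :=
  !![(tr e β (1, 0)).1, (tr e β (0, 1)).1; (tr e β (1, 0)).2, (tr e β (0, 1)).2]

theorem decomp (m : ZMod (p ^ 2) × ZMod (p ^ 2)) :
    m = m.1.val • ((1, 0) : ZMod (p ^ 2) × ZMod (p ^ 2)) + m.2.val • ((0, 1) : ZMod (p ^ 2) × ZMod (p ^ 2)) := by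
  haveI : NeZero (p ^ 2) := ⟨pow_ne_zero 2 hp.out.ne_zero⟩
  ext <;> simp

theorem vec_tr (e : G ≃* Multiplicative (ZMod (p ^ 2) × ZMod (p ^ 2))) (β : MulAut G)
    (m : ZMod (p ^ 2) × ZMod (p ^ 2)) : vec (tr e β m) = (mat e β) *ᵥ vec m := by
  haveI : NeZero (p ^ 2) := ⟨pow_ne_zero 2 hp.out.ne_zero⟩
  have h := congrArg (tr e β) (decomp m)
  rw [tr_add, tr_nsmul, tr_nsmul] at h
  ext i
  fin_cases i
  · have h1 := congrArg Prod.fst h
    simp only [Prod.fst_add, Prod.smul_fst] at h1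
    simp only [nsmul_eq_mul, ZMod.natCast_zmod_val] at h1
    simp [vec, mat, Matrix.mulVec, dotProduct, Fin.sum_univ_two]
    rw [h1]; ring
  · have h1 := congrArg Prod.snd h
    simp only [Prod.snd_add, Prod.smul_snd] at h1
    simp only [nsmul_eq_mul, ZMod.natCast_zmod_val] at h1
    simp [vec, mat, Matrix.mulVec, dotProduct, Fin.sum_univ_two]
    rw [h1]; ring

theorem vec_tr_iter (e : G ≃* Multiplicative (ZMod (p ^ 2) × ZMod (p ^ 2))) (β : MulAut G)
    (k : ℕ) (m : ZMod (p ^ 2) × ZMod (p ^ 2)) :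
    vec ((tr e β)^[k] m) = (mat e β ^ k) *ᵥ vec m := by
  induction k with
  | zero => simp
  | succ k ih =>
    rw [Function.iterate_succ_apply', vec_tr, ih, Matrix.mulVec_mulVec, ← pow_succ']

theorem vec_surj (v : Fin 2 → ZMod (p ^ 2)) : v = vec (v 0, v 1) := by
  ext i
  fin_cases i <;> rfl

theorem mat_pow (e : G ≃* Multiplicative (ZMod (p ^ 2) × ZMod (p ^ 2))) (β : MulAut G)
    (hβ : β ^ p = 1) : mat e β ^ p = 1 := by
  rw [Matrix.ext_iff_mulVec]
  intro v
  rw [vec_surj v, ← vec_tr_iter, tr_iter, hβ, Matrix.one_mulVec]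
  simp

end transport

theorem p4_aut_order_p {G : Type*} [Group G] (p : ℕ) [Fact p.Prime] (hp : 5 ≤ p) (e : G ≃* Multiplicative (ZMod (p ^ 2) × ZMod (p ^ 2))) (β : MulAut G) (hβ : β ^ p = 1) (x : G) : ∃ y : G, β x = x * y ^ p := by
  obtain ⟨C, hC⟩ := mat_core hp (mat e β) (mat_pow e β hβ)
  set m := Multiplicative.toAdd (e x) with hm
  have hv := vec_tr e β m
  rw [hC, Matrix.add_mulVec, Matrix.one_mulVec, Matrix.smul_mulVec] at hv
  set w : ZMod (p ^ 2) × ZMod (p ^ 2) := ((C *ᵥ vec m) 0, (C *ᵥ vec m) 1) with hw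
  have hkey : tr e β m = m + p • w := by
    ext
    · have := congrFun hv 0
      simpa [vec, hw, mul_add] using this
    · have := congrFun hv 1
      simpa [vec, hw, mul_add] using this
  have htr : tr e β m = Multiplicative.toAdd (e (β x)) := by
    unfold tr
    rw [hm, ofAdd_toAdd, MulEquiv.symm_apply_apply]
  refine ⟨e.symm (Multiplicative.ofAdd w), ?_⟩
  apply e.injective
  rw [map_mul, map_pow, MulEquiv.apply_symm_apply]
  apply Multiplicative.toAdd.injective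
  rw [← htr, hkey, toAdd_mul, toAdd_pow, toAdd_ofAdd]

end Cfsg.Agent.Helper41.P4D
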