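import Mathlib

/-!
# Piece F of CALL S5188 (helper84): Frattini and derived subgroup of a nonabelian group of order `p^4`
-/

set_option autoImplicit false

namespace Cfsg.Agent.Helper41.P4F

variable {G : Type*} [Group G]

open scoped commutatorElement

/-- A maximal subgroup of a finite `p`-group is normal. -/
theorem coatom_normal [Finite G] {p : ℕ} [Fact p.Prime]
    (hG : IsPGroup p G) (M : Subgroup G) (hM : IsCoatom M) : M.Normal := by
  haveI : Group.IsNilpotent G := hG.isNilpotent
  have h := (Group.isNilpotent_of_finite_tfae (G := G)).out 0 2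
  exact h.mp inferInstance M hM

/-- A maximal subgroup of a finite `p`-group has index `p`. -/
theorem coatom_index [Finite G] {p : ℕ} [Fact p.Prime]
    (hG : IsPGroup p G) (M : Subgroup G) (hM : IsCoatom M) : M.index = p := by
  have hp : p.Prime := Fact.out
  haveI hMn : M.Normal := coatom_normal hG M hM
  have hQ : IsPGroup p (G ⧸ M) := hG.to_quotient M
  have hne1 : M.index ≠ 1 := fun h => hM.1 (Subgroup.index_eq_one.mp h)
  obtain ⟨k, hk⟩ := (IsPGroup.iff_card).mp hQ
  have hk' : M.index = p ^ k := hk
  have hk0 : k ≠ 0 := by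
    rintro rfl
    exact hne1 (by simpa using hk')
  have hdvd : p ∣ Nat.card (G ⧸ M) := by
    rw [hk]; exact dvd_pow_self p hk0
  obtain ⟨y', hy'⟩ := exists_prime_orderOf_dvd_card' (G := G ⧸ M) p hdvd
  obtain ⟨y, rfl⟩ := QuotientGroup.mk'_surjective M y'
  have hyM : y ∉ M := by
    intro hy
    have : (QuotientGroup.mk' M) y = 1 := (QuotientGroup.eq_one_iff y).mpr hy
    rw [this, orderOf_one] at hy'
    exact hp.one_lt.ne hy'
  have hK : (Subgroup.zpowers ((QuotientGroup.mk' M) y)).comap (QuotientGroup.mk' M) = ⊤ := by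
    apply hM.2
    refine lt_of_le_of_ne ?_ ?_
    · intro m hm
      rw [Subgroup.mem_comap]
      have h1 : (QuotientGroup.mk' M) m = 1 := (QuotientGroup.eq_one_iff m).mpr hm
      rw [h1]
      exact Subgroup.one_mem _
    · intro h
      apply hyM
      rw [h, Subgroup.mem_comap]
      exact Subgroup.mem_zpowers _
  have hz : Subgroup.zpowers ((QuotientGroup.mk' M) y) = ⊤ := by
    have := Subgroup.map_comap_eq_self_of_surjective (QuotientGroup.mk'_surjective M)
      (Subgroup.zpowers ((QuotientGroup.mk' M) y))
    rw [hK, Subgroup.map_top_of_surjective _ (QuotientGroup.mk'_surjective M)] at this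
    exact this.symm
  have h1 : Nat.card (Subgroup.zpowers ((QuotientGroup.mk' M) y)) = p := by
    rw [Nat.card_zpowers, hy']
  rw [hz, Subgroup.card_top] at h1
  exact h1

/-- In a finite `p`-group the derived subgroup lies in the Frattini subgroup. -/
theorem comm_le_frattini [Finite G] {p : ℕ} [Fact p.Prime] (hG : IsPGroup p G) :
    commutator G ≤ frattini G := by
  rw [frattini, Order.radical]
  refine le_iInf₂ fun M hM => ?_
  haveI := coatom_normal hG M hM
  have hidx : Nat.card (G ⧸ M) = p := coatom_index hG M hM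
  apply Subgroup.Normal.quotient_commutative_iff_commutator_le.mp
  haveI : IsCyclic (G ⧸ M) := isCyclic_of_prime_card hidx
  exact IsCyclic.commutative

/-- The Frattini subgroup of a nontrivial finite group is proper. -/
theorem frattini_ne_top' [Finite G] [Nontrivial G] : frattini G ≠ ⊤ := by
  intro h
  obtain ⟨M, hM⟩ : ∃ M : Subgroup G, IsCoatom M := by
    have := (eq_top_or_exists_le_coatom (⊥ : Subgroup G))
    rcases this with h1 | ⟨M, hM, -⟩
    · exact absurd h1 bot_ne_top
    · exact ⟨M, hM⟩
  have := frattini_le_coatom hM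
  rw [h] at this
  exact hM.1 (top_le_iff.mp this)

theorem card_eq_pow_of_dvd {p : ℕ} [Fact p.Prime] {n k : ℕ} (h : n ∣ p ^ k) :
    ∃ j, j ≤ k ∧ n = p ^ j :=
  (Nat.dvd_prime_pow (Fact.out : p.Prime)).mp h

theorem p4_frattini_card {G : Type*} [Group G] [Finite G] (p : ℕ) [Fact p.Prime] (hG : Nat.card G = p ^ 4) (hna : ¬ ∀ a b : G, a * b = b * a) : (Nat.card (frattini G) = p ∨ Nat.card (frattini G) = p ^ 2) ∧ (Nat.card (commutator G) = p ∨ Nat.card (commutator G) = p ^ 2) ∧ commutator G ≤ frattini G := by
  have hp : p.Prime := Fact.out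
  have hpG : IsPGroup p G := IsPGroup.of_card hG
  have hcf : commutator G ≤ frattini G := comm_le_frattini hpG
  haveI : Nontrivial G := by
    by_contra hnt
    rw [not_nontrivial_iff_subsingleton] at hnt
    exact hna fun a b => Subsingleton.elim _ _
  -- the derived subgroup is nontrivial
  have hc1 : commutator G ≠ ⊥ := by
    intro h
    apply hna
    intro a b
    have : ⁅a, b⁆ ∈ commutator G := by
      rw [commutator_eq_closure]
      exact Subgroup.subset_closure (commutator_mem_commutatorSet a b)
    rw [h, Subgroup.mem_bot] at this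
    exact commutatorElement_eq_one_iff_mul_comm.mp this
  obtain ⟨i, hi4, hi⟩ := card_eq_pow_of_dvd (p := p) (hG ▸ Subgroup.card_subgroup_dvd_card (commutator G))
  obtain ⟨j, hj4, hj⟩ := card_eq_pow_of_dvd (p := p) (hG ▸ Subgroup.card_subgroup_dvd_card (frattini G))
  have hij : i ≤ j := by
    have h1 : Nat.card (commutator G) ≤ Nat.card (frattini G) := Subgroup.card_le_of_le hcf
    rw [hi, hj] at h1
    exact (Nat.pow_le_pow_iff_right hp.one_lt).mp h1
  have hi0 : i ≠ 0 := by
    rintro rfl
    apply hc1
    rw [pow_zero] at hi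
    exact Subgroup.card_eq_one.mp hi
  have hj4' : j ≠ 4 := by
    rintro rfl
    apply frattini_ne_top' (G := G)
    apply (Subgroup.card_eq_iff_eq_top (frattini G)).mp
    rw [hj, hG]
  have hj3 : j ≠ 3 := by
    rintro rfl
    -- G / Φ has order p; a generator lifts to a generator of G
    have hne : ∃ g : G, g ∉ frattini G := by
      by_contra hcon
      simp only [not_exists, not_not] at hcon
      exact frattini_ne_top' (G := G) (eq_top_iff.mpr fun g _ => hcon g)
    obtain ⟨g, hg⟩ := hne
    have hK : Subgroup.zpowers g ⊔ frattini G = ⊤ := by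
      obtain ⟨k, hk4, hk⟩ := card_eq_pow_of_dvd (p := p)
        (hG ▸ Subgroup.card_subgroup_dvd_card (Subgroup.zpowers g ⊔ frattini G))
      have h3k : 3 < k := by
        by_contra hk3
        have hle : Nat.card (Subgroup.zpowers g ⊔ frattini G : Subgroup G) ≤ Nat.card (frattini G) := by
          rw [hj, hk]
          exact Nat.pow_le_pow_right hp.pos (by omega)
        have heq : frattini G = Subgroup.zpowers g ⊔ frattini G :=
          Subgroup.eq_of_le_of_card_ge le_sup_right hle
        apply hg
        rw [heq]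
        exact (le_sup_left : Subgroup.zpowers g ≤ _) (Subgroup.mem_zpowers g)
      have hk4' : k = 4 := by omega
      apply (Subgroup.card_eq_iff_eq_top _).mp
      rw [hk, hk4', hG]
    have hz : Subgroup.zpowers g = ⊤ := frattini_nongenerating hK
    apply hna
    intro a b
    have ha : a ∈ Subgroup.zpowers g := by rw [hz]; trivial
    have hb : b ∈ Subgroup.zpowers g := by rw [hz]; trivial
    obtain ⟨m, rfl⟩ := ha
    obtain ⟨n, rfl⟩ := hb
    exact (Commute.zpow_zpow_self g m n).eq
  have hj' : j = 1 ∨ j = 2 := by omega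
  have hi' : i = 1 ∨ i = 2 := by omega
  refine ⟨?_, ?_, hcf⟩
  · rcases hj' with h | h
    · left; rw [hj, h, pow_one]
    · right; rw [hj, h]
  · rcases hi' with h | h
    · left; rw [hi, h, pow_one]
    · right; rw [hi, h]

end Cfsg.Agent.Helper41.P4F
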