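import Mathlib
import Cfsg.Agent.Helper87.MC3a

/-!
# Piece P0 of CALL S5289 batch 2 (helper87): `pearl_mc3`
-/

set_option autoImplicit false

namespace Cfsg.Agent.Helper41

open Cfsg.Agent.Helper87

theorem pearl_mc3 {Ω : Type*} [Group Ω] {S : Subgroup Ω} [Finite S] (p : ℕ) [Fact p.Prime]
    (hS : IsPGroup p S) (E : Subgroup Ω) (hES : E ≤ S) (hEne : E ≠ S)
    (hcen : ∀ g ∈ S, (∀ x ∈ E, g * x = x * g) → g ∈ E) (hcard : Nat.card E = p ^ 2)
    (hab : ∀ a ∈ E, ∀ b ∈ E, a * b = b * a) :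
    ∃ n : ℕ, ∃ x : S, (x : Ω) ∈ E ∧ MC3 ↥S p n x ∧ ∀ g : S, g * x = x * g → (g : Ω) ∈ E := by
  have hp : p.Prime := Fact.out
  haveI hEfin : Finite E := Finite.of_injective (Subgroup.inclusion hES) (Subgroup.inclusion_injective hES)
  obtain ⟨Z, hZdef⟩ : ∃ Z : Subgroup Ω, Z = (Subgroup.center S).map S.subtype := ⟨_, rfl⟩
  have hZmem : ∀ z : Ω, z ∈ Z ↔ z ∈ S ∧ ∀ g ∈ S, g * z = z * g := by
    intro z
    rw [hZdef]
    constructor
    · rintro ⟨z', hz', rfl⟩
      refine ⟨z'.2, fun g hg => ?_⟩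
      have := Subgroup.mem_center_iff.mp hz' ⟨g, hg⟩
      exact congrArg Subtype.val this
    · rintro ⟨hzS, hz⟩
      refine ⟨⟨z, hzS⟩, ?_, rfl⟩
      rw [SetLike.mem_coe, Subgroup.mem_center_iff]
      intro g
      exact Subtype.ext (hz g g.2)
  have hZE : Z ≤ E := by
    intro z hz
    obtain ⟨hzS, hzc⟩ := (hZmem z).mp hz
    exact hcen z hzS (fun x hx => (hzc x (hES hx)).symm)
  have hE1 : 1 < Nat.card E := by
    rw [hcard]
    exact Nat.one_lt_pow (by norm_num) hp.one_lt
  haveI hEnt : Nontrivial E := Finite.one_lt_card_iff_nontrivial.mp hE1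
  haveI hSnt : Nontrivial S := by
    obtain ⟨e, he⟩ := exists_ne (1 : E)
    refine ⟨⟨⟨e.1, hES e.2⟩, 1, ?_⟩⟩
    intro h
    apply he
    apply Subtype.ext
    exact congrArg (fun s : S => (s : Ω)) h
  have hZne : Z ≠ ⊥ := by
    haveI := IsPGroup.center_nontrivial hS
    obtain ⟨z, hz⟩ := exists_ne (1 : Subgroup.center S)
    intro h
    apply hz
    have h1 : ((z : S) : Ω) ∈ Z := by
      rw [hZdef]
      exact ⟨z.1, z.2, rfl⟩
    rw [h, Subgroup.mem_bot] at h1
    apply Subtype.ext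
    apply Subtype.ext
    exact h1
  obtain ⟨x, hxE, hxZ⟩ : ∃ x ∈ E, x ∉ Z := by
    by_contra hcon
    simp only [not_exists, not_and, not_not] at hcon
    apply hEne
    apply le_antisymm hES
    intro g hg
    apply hcen g hg
    intro x hx
    exact ((hZmem x).mp (hcon x hx)).2 g hg
  have key : ∀ g ∈ S, g * x = x * g → g ∈ E := by
    intro g hg hgx
    apply hcen g hg
    obtain ⟨K, hKdef⟩ : ∃ K : Subgroup Ω, K = E ⊓ Subgroup.centralizer ({g} : Set Ω) := ⟨_, rfl⟩
    have hKE : K ≤ E := hKdef ▸ inf_le_left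
    haveI hKfin : Finite K := Finite.of_injective (Subgroup.inclusion hKE) (Subgroup.inclusion_injective hKE)
    have hZK : Z ≤ K := by
      intro z hz
      rw [hKdef]
      refine Subgroup.mem_inf.mpr ⟨hZE hz, Subgroup.mem_centralizer_iff.mpr ?_⟩
      intro h hh
      rw [Set.mem_singleton_iff.mp hh]
      exact ((hZmem z).mp hz).2 g hg
    have hxK : x ∈ K := by
      rw [hKdef]
      refine Subgroup.mem_inf.mpr ⟨hxE, Subgroup.mem_centralizer_iff.mpr ?_⟩
      intro h hh
      rw [Set.mem_singleton_iff.mp hh]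
      exact hgx
    have hdK : Nat.card K ∣ p ^ 2 := hcard ▸ Subgroup.card_dvd_of_le hKE
    have hdZ : Nat.card Z ∣ Nat.card K := Subgroup.card_dvd_of_le hZK
    have hZ1 : Nat.card Z ≠ 1 := fun h => hZne (Subgroup.card_eq_one.mp h)
    have hZK' : Nat.card Z ≠ Nat.card K := by
      intro h
      have : Z = K := Subgroup.eq_of_le_of_card_ge hZK (le_of_eq h.symm)
      exact hxZ (this ▸ hxK)
    obtain ⟨k, hk2, hk⟩ := (Nat.dvd_prime_pow hp).mp hdK
    have hKeq : K = E := by
      interval_cases k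
      · exfalso
        rw [hk, pow_zero, Nat.dvd_one] at hdZ
        exact hZ1 hdZ
      · exfalso
        rw [hk, pow_one] at hdZ hZK'
        rcases (Nat.dvd_prime hp).mp hdZ with h | h
        · exact hZ1 h
        · exact hZK' h
      · exact Subgroup.eq_of_le_of_card_ge hKE (by rw [hcard, hk])
    intro e he
    have heK : e ∈ K := hKeq ▸ he
    rw [hKdef] at heK
    exact Subgroup.mem_centralizer_iff.mp (Subgroup.mem_inf.mp heK).2 g rfl
  obtain ⟨n, hn⟩ := IsPGroup.iff_card.mp hS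
  refine ⟨n, ⟨x, hES hxE⟩, hxE, ⟨inferInstance, hp, hn, ?_, ?_⟩, ?_⟩
  · have hcentr : Subgroup.centralizer ({(⟨x, hES hxE⟩ : S)} : Set S) = E.subgroupOf S := by
      ext g
      rw [Subgroup.mem_centralizer_iff, Subgroup.mem_subgroupOf]
      constructor
      · intro h
        have h1 := h ⟨x, hES hxE⟩ rfl
        exact key g.1 g.2 (congrArg Subtype.val h1).symm
      · intro hgE h hh
        rw [Set.mem_singleton_iff.mp hh]
        apply Subtype.ext
        exact hab x hxE g.1 hgE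
    rw [hcentr, Nat.card_congr (Subgroup.subgroupOfEquivOfLe hES).toEquiv, hcard]
  · by_contra hn3
    apply hEne
    apply Subgroup.eq_of_le_of_card_ge hES
    rw [hcard, hn]
    exact Nat.pow_le_pow_right hp.pos (by omega)
  · intro g hg
    exact key g.1 g.2 (congrArg Subtype.val hg)

end Cfsg.Agent.Helper41
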