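import Mathlib
import Cfsg.Agent.Helper90.MDDefs
import Cfsg.Agent.Helper58.MDCORE
import Cfsg.Agent.Helper91.MDAVG

set_option autoImplicit false

namespace Cfsg.Agent.Helper41

open Cfsg.Agent.Helper90.MD

/-- PIECE ASUM -/
theorem rmd43_asum {G : Type*} [Group G] (Z A : Subgroup G) [Fintype Z] [Fintype A]
    (hZA : Z ≤ A) (f : G → ℂ) (hf : ∀ x ∈ A, x ∉ Z → ∀ z ∈ Z, f (x * z) = f x)
    (lam : G → ℂ) (hl : IsCharOn A lam) (hnt : ∃ z ∈ Z, lam z ≠ 1) :
    ∑ a : A, lam ((a : G)⁻¹) * f (a : G) = ∑ z : Z, lam ((z : G)⁻¹) * f (z : G) := by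
  classical
  obtain ⟨z0, hz0, hne⟩ := hnt
  have hz0A : z0 ∈ A := hZA hz0
  -- the part outside `Z` vanishes
  have hout : ∑ a : A, (if (a : G) ∈ Z then 0 else lam ((a : G)⁻¹) * f (a : G)) = 0 := by
    have hperm : ∑ a : A, (if (a : G) ∈ Z then 0 else lam ((a : G)⁻¹) * f (a : G)) =
        lam z0⁻¹ * ∑ a : A, (if (a : G) ∈ Z then 0 else lam ((a : G)⁻¹) * f (a : G)) := by
      rw [Finset.mul_sum]
      refine (Fintype.sum_equiv (Equiv.mulRight (⟨z0, hz0A⟩ : A)) _ _ (fun a => ?_)).symm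
      show lam z0⁻¹ * (if (a : G) ∈ Z then 0 else lam ((a : G)⁻¹) * f (a : G)) =
        (if (a : G) * z0 ∈ Z then 0 else lam (((a : G) * z0)⁻¹) * f ((a : G) * z0))
      by_cases ha : (a : G) ∈ Z
      · rw [if_pos ha, if_pos (Z.mul_mem ha hz0), mul_zero]
      · have ha' : (a : G) * z0 ∉ Z := fun h => ha (by
          have := Z.mul_mem h (Z.inv_mem hz0)
          rwa [mul_inv_cancel_right] at this)
        rw [if_neg ha, if_neg ha', hf a a.2 ha z0 hz0, mul_inv_rev,
          hl.2 _ (A.inv_mem hz0A) _ (A.inv_mem a.2)]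
        ring
    have hne' : lam z0⁻¹ ≠ 1 := by
      intro h
      have := Cfsg.Agent.Helper58.MDCore.isCharOn_inv hl hz0A
      rw [h, mul_one] at this
      exact hne this
    have h2 : (1 - lam z0⁻¹) *
        ∑ a : A, (if (a : G) ∈ Z then 0 else lam ((a : G)⁻¹) * f (a : G)) = 0 := by
      rw [sub_mul, one_mul, ← hperm, sub_self]
    exact (mul_eq_zero.mp h2).resolve_left (sub_ne_zero.mpr (Ne.symm hne'))
  -- the part inside `Z`
  have hin : ∑ a : A, (if (a : G) ∈ Z then lam ((a : G)⁻¹) * f (a : G) else 0) =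
      ∑ z : Z, lam ((z : G)⁻¹) * f (z : G) := by
    rw [← Finset.sum_filter]
    have hmap : (Finset.univ.filter (fun a : A => (a : G) ∈ Z)) =
        Finset.univ.map ⟨Subgroup.inclusion hZA, Subgroup.inclusion_injective hZA⟩ := by
      ext a
      simp only [Finset.mem_filter, Finset.mem_univ, true_and, Finset.mem_map,
        Function.Embedding.coeFn_mk]
      constructor
      · intro ha
        exact ⟨⟨a, ha⟩, Subtype.ext rfl⟩
      · rintro ⟨z, rfl⟩
        exact z.2
    rw [hmap, Finset.sum_map]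
    rfl
  have hsplit : ∀ a : A, lam ((a : G)⁻¹) * f (a : G) =
      (if (a : G) ∈ Z then lam ((a : G)⁻¹) * f (a : G) else 0) +
        (if (a : G) ∈ Z then 0 else lam ((a : G)⁻¹) * f (a : G)) := by
    intro a
    by_cases ha : (a : G) ∈ Z
    · rw [if_pos ha, if_pos ha, add_zero]
    · rw [if_neg ha, if_neg ha, zero_add]
  rw [Finset.sum_congr rfl (fun a _ => hsplit a), Finset.sum_add_distrib, hin, hout, add_zero]

end Cfsg.Agent.Helper41
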