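import Mathlib
import Cfsg.Agent.Helper90.MDDefs
import Cfsg.Agent.Helper58.MDCORE
import Cfsg.Agent.Helper91.MDAVG

set_option autoImplicit false

namespace Cfsg.Agent.Helper41

open Cfsg.Agent.Helper90.MD

/-- PIECE INV -/
theorem rmd43_inv {G : Type*} [Group G] {V : Type*} [AddCommGroup V] [Module ℂ V]
    [FiniteDimensional ℂ V] (ρ : Representation ℂ G V) (Z : Subgroup G) [Fintype Z]
    (hodd : Odd (Nat.card Z)) (t : G) (ht : ∀ z ∈ Z, t * z * t⁻¹ = z⁻¹)
    (hsum : ∑ z : Z, LinearMap.trace ℂ V (ρ (t * (z : G))) = 0) :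
    LinearMap.trace ℂ V (ρ t) = 0 := by
  classical
  obtain ⟨k, hk⟩ := hodd
  have hterm : ∀ z : Z, LinearMap.trace ℂ V (ρ (t * (z : G))) = LinearMap.trace ℂ V (ρ t) := by
    intro z
    -- a square root of `z⁻¹` in `Z`
    have hpow : (z⁻¹ : Z) ^ (2 * k + 1) = 1 := by
      rw [← hk]
      exact pow_card_eq_one'
    obtain ⟨w, hw⟩ : ∃ w : Z, w * w = z⁻¹ := by
      refine ⟨(z⁻¹ : Z) ^ (k + 1), ?_⟩
      rw [← pow_add]
      have : k + 1 + (k + 1) = (2 * k + 1) + 1 := by ring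
      rw [this, pow_succ, hpow, one_mul]
    have hwG : (w : G) * (w : G) = (z : G)⁻¹ := by
      have := congrArg (Subtype.val) hw
      simpa using this
    have htw : t⁻¹ * (w : G) * t = (w : G)⁻¹ := by
      have h1 := ht w w.2
      have h2 : (w : G) = t⁻¹ * (w : G)⁻¹ * t := by rw [← h1]; group
      have h3 : (t⁻¹ * (w : G) * t) * (t⁻¹ * (w : G)⁻¹ * t) = 1 := by group
      rw [← h2] at h3
      exact eq_inv_of_mul_eq_one_left h3
    have hconj : t * (z : G) = (w : G) * t * (w : G)⁻¹ := by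
      have h4 : (z : G) = ((w : G) * (w : G))⁻¹ := by rw [hwG, inv_inv]
      have h5 : (w : G) * t * (w : G)⁻¹ = t * (t⁻¹ * (w : G) * t) * (w : G)⁻¹ := by group
      rw [h5, htw, h4]
      group
    have hρ : ρ ((w : G) * t * (w : G)⁻¹) = ρ (w : G) * ρ t * ρ (w : G)⁻¹ := by
      rw [map_mul, map_mul]
    have hρ2 : ρ (w : G)⁻¹ * ρ (w : G) = 1 := by
      rw [← map_mul, inv_mul_cancel, map_one]
    rw [hconj, hρ, LinearMap.trace_mul_comm, ← mul_assoc, hρ2, one_mul]
  rw [Finset.sum_congr rfl (fun z _ => hterm z), Finset.sum_const, Finset.card_univ,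
    nsmul_eq_mul] at hsum
  rcases mul_eq_zero.mp hsum with h | h
  · exact absurd h (Nat.cast_ne_zero.mpr Fintype.card_ne_zero)
  · exact h

end Cfsg.Agent.Helper41
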