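import Mathlib
import Cfsg.Agent.Helper90.MDDefs
import Cfsg.Agent.Helper58.MDCORE
import Cfsg.Agent.Helper91.MDAVG

set_option autoImplicit false

namespace Cfsg.Agent.Helper41

open Cfsg.Agent.Helper90.MD

/-- PIECE KLEIN -/
theorem rmd43_klein {G : Type*} [Group G] {V : Type*} [AddCommGroup V] [Module ℂ V]
    [FiniteDimensional ℂ V] (ρ : Representation ℂ G V) (a b : G) (ha : a * a = 1)
    (hb : b * b = 1) (hab : a * b = b * a) (h1 : LinearMap.trace ℂ V (ρ a) = 0)
    (h2 : LinearMap.trace ℂ V (ρ b) = 0) (h3 : LinearMap.trace ℂ V (ρ (a * b)) = 0) :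
    4 ∣ Module.finrank ℂ V := by
  have hAA : ρ a * ρ a = 1 := by rw [← map_mul, ha, map_one]
  have hBB : ρ b * ρ b = 1 := by rw [← map_mul, hb, map_one]
  have hAB : ρ a * ρ b = ρ (a * b) := by rw [← map_mul]
  have hBA : ρ b * ρ a = ρ (a * b) := by rw [← map_mul, hab]
  have hCC : ρ (a * b) * ρ (a * b) = 1 := by
    rw [← map_mul]
    have : a * b * (a * b) = 1 := by
      calc a * b * (a * b) = a * (b * a) * b := by group
        _ = a * (a * b) * b := by rw [← hab]
        _ = (a * a) * (b * b) := by group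
        _ = 1 := by rw [ha, hb, mul_one]
    rw [this, map_one]
  have hAC : ρ a * ρ (a * b) = ρ b := by
    rw [← map_mul, ← mul_assoc, ha, one_mul]
  have hCA : ρ (a * b) * ρ a = ρ b := by
    rw [← map_mul, hab, mul_assoc, ha, mul_one]
  have hBC : ρ b * ρ (a * b) = ρ a := by
    rw [← map_mul, hab, ← mul_assoc, hb, one_mul]
  have hCB : ρ (a * b) * ρ b = ρ a := by
    rw [← map_mul, mul_assoc, hb, mul_one]
  have hsq : (1 + ρ a + ρ b + ρ (a * b)) * (1 + ρ a + ρ b + ρ (a * b)) =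
      (4 : ℂ) • (1 + ρ a + ρ b + ρ (a * b)) := by
    simp only [mul_add, add_mul, mul_one, one_mul, hAA, hBB, hAB, hBA, hCC, hAC, hCA, hBC, hCB]
    module
  have hid : IsIdempotentElem ((4 : ℂ)⁻¹ • (1 + ρ a + ρ b + ρ (a * b))) := by
    show ((4 : ℂ)⁻¹ • (1 + ρ a + ρ b + ρ (a * b))) * ((4 : ℂ)⁻¹ • (1 + ρ a + ρ b + ρ (a * b))) = _
    rw [smul_mul_smul_comm, hsq, smul_smul]
    congr 1
    norm_num
  have htr := (LinearMap.IsIdempotentElem.isProj_range _ hid).trace
  rw [map_smul, map_add, map_add, map_add, h1, h2, h3, add_zero, add_zero, add_zero,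
    LinearMap.trace_one, smul_eq_mul] at htr
  have h4 : (Module.finrank ℂ V : ℂ) = ((4 * Module.finrank ℂ
      (LinearMap.range ((4 : ℂ)⁻¹ • (1 + ρ a + ρ b + ρ (a * b)))) : ℕ) : ℂ) := by
    push_cast
    rw [← htr]
    ring
  exact ⟨_, Nat.cast_injective h4⟩

end Cfsg.Agent.Helper41
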