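import Mathlib
import Cfsg.Agent.Helper90.MDDefs
import Cfsg.Agent.Helper58.MDCORE
import Cfsg.Agent.Helper91.MDAVG

set_option autoImplicit false

namespace Cfsg.Agent.Helper41

open Cfsg.Agent.Helper90.MD

/-- PIECE NUM -/
theorem rmd43_num (q d r n : ℕ) (c : ℂ) (hq : q % 4 = 3)
    (h1 : (d : ℂ) + ((q : ℂ) - 1) * c = (q : ℂ) * (r : ℂ))
    (h2 : (d : ℂ) - c = (q : ℂ) * (q : ℂ) * (n : ℂ)) (hrd : r ≠ d) (h4 : r = 0 → 4 ∣ d) :
    q ^ 2 - q + 1 ≤ d := by
  have hq3 : 3 ≤ q := by omega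
  have hq0 : (q : ℂ) ≠ 0 := by
    have : q ≠ 0 := by omega
    exact_mod_cast this
  -- the key identity in `ℕ`
  have hkeyC : (q : ℂ) * ((d : ℂ) + (q : ℂ) * (n : ℂ)) =
      (q : ℂ) * ((r : ℂ) + (q : ℂ) * (q : ℂ) * (n : ℂ)) := by
    have hc : c = (d : ℂ) - (q : ℂ) * (q : ℂ) * (n : ℂ) := by linear_combination -h2
    rw [hc] at h1
    linear_combination h1
  have hkey : d + q * n = r + q * q * n := by
    have := mul_left_cancel₀ hq0 hkeyC
    exact_mod_cast this
  have hn0 : n ≠ 0 := by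
    rintro rfl
    apply hrd
    simpa using hkey.symm
  obtain ⟨n', rfl⟩ := Nat.exists_eq_succ_of_ne_zero hn0
  have hqq : q ≤ q * q := Nat.le_mul_self q
  have hqn : q * n' ≤ q * q * n' := Nat.mul_le_mul_right n' hqq
  have hgoal : q ^ 2 + 1 ≤ d + q → q ^ 2 - q + 1 ≤ d := by
    intro h
    have : q ≤ q ^ 2 := by rw [pow_two]; exact hqq
    omega
  apply hgoal
  rw [pow_two]
  by_cases hr : r = 0
  · -- `4 ∣ d` forces `n ≥ 2`
    subst hr
    obtain ⟨m, rfl⟩ := h4 rfl
    rcases Nat.eq_zero_or_pos n' with hn' | hn'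
    · subst hn'
      exfalso
      obtain ⟨k, rfl⟩ : ∃ k, q = 4 * k + 3 := ⟨q / 4, by omega⟩
      have h5 : 4 * m + (4 * k + 3) = 16 * (k * k) + 24 * k + 9 := by
        have := hkey
        ring_nf at this ⊢
        omega
      generalize k * k = s at h5
      omega
    · have h6 : q * n' + 1 ≤ q * q * n' := by
        have h7 : 3 * (q * n') ≤ q * (q * n') := Nat.mul_le_mul_right _ hq3
        have h8 : 1 ≤ q * n' := Nat.mul_pos (by omega) hn'
        rw [mul_assoc]
        omega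
      have h9 : 4 * m + q * (n' + 1) = 0 + q * q * (n' + 1) := hkey
      have h10 : q * (n' + 1) = q * n' + q := by ring
      have h11 : q * q * (n' + 1) = q * q * n' + q * q := by ring
      rw [h10, h11] at h9
      omega
  · have hr1 : 1 ≤ r := Nat.one_le_iff_ne_zero.mpr hr
    have h10 : q * (n' + 1) = q * n' + q := by ring
    have h11 : q * q * (n' + 1) = q * q * n' + q * q := by ring
    rw [h10, h11] at hkey
    omega

end Cfsg.Agent.Helper41
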