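import Mathlib
import Cfsg.Agent.Helper90.MDDefs
import Cfsg.Agent.Helper58.MDCORE
import Cfsg.Agent.Helper91.MDAVG

set_option autoImplicit false

namespace Cfsg.Agent.Helper41

open Cfsg.Agent.Helper90.MD

/-- PIECE SUM1 -/
theorem rmd43_sum1 {G : Type*} [Group G] (Z : Subgroup G) [Fintype Z] (f : G → ℂ) (c : ℂ)
    (hf : ∀ z ∈ Z, z ≠ 1 → f z = c) :
    ∑ z : Z, f (z : G) = f 1 + ((Nat.card Z : ℂ) - 1) * c := by
  classical
  rw [← Finset.add_sum_erase Finset.univ (fun z : Z => f (z : G)) (Finset.mem_univ (1 : Z))]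
  congr 1
  rw [Finset.sum_congr rfl (fun (z : Z) hz => hf (z : G) z.2
    (fun h => (Finset.ne_of_mem_erase hz) (Subtype.ext h)))]
  rw [Finset.sum_const, Finset.card_erase_of_mem (Finset.mem_univ _), Finset.card_univ,
    nsmul_eq_mul, Nat.card_eq_fintype_card, Nat.cast_sub Fintype.card_pos, Nat.cast_one]

end Cfsg.Agent.Helper41
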