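import Mathlib
import Cfsg.Agent.Helper90.MDDefs
import Cfsg.Agent.Helper58.MDCORE
import Cfsg.Agent.Helper91.MDAVG

set_option autoImplicit false

namespace Cfsg.Agent.Helper41

open Cfsg.Agent.Helper90.MD

/-- PIECE SUM2 -/
theorem rmd43_sum2 {G : Type*} [Group G] (Z : Subgroup G) [Fintype Z] (f : G → ℂ) (c : ℂ)
    (hf : ∀ z ∈ Z, z ≠ 1 → f z = c) (lam : G → ℂ) (hl : IsCharOn Z lam)
    (hnt : ∃ z ∈ Z, lam z ≠ 1) :
    ∑ z : Z, lam ((z : G)⁻¹) * f (z : G) = f 1 - c := by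
  classical
  have h0 : ∑ z : Z, lam ((z : G)⁻¹) = 0 := by
    rw [← Cfsg.Agent.Helper58.MDCore.sum_char_eq_zero Z Z le_rfl lam hl hnt]
    exact Fintype.sum_equiv (Equiv.inv Z) _ _ (fun z => rfl)
  have h1 : ∀ z : Z, lam ((z : G)⁻¹) * f (z : G) =
      (if z = 1 then f 1 - c else 0) + c * lam ((z : G)⁻¹) := by
    intro z
    by_cases hz : z = 1
    · subst hz
      rw [if_pos rfl]
      show lam ((1 : G)⁻¹) * f 1 = f 1 - c + c * lam ((1 : G)⁻¹)
      rw [inv_one, hl.1]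
      ring
    · rw [if_neg hz, hf z z.2 (fun h => hz (Subtype.ext h))]
      ring
  rw [Finset.sum_congr rfl (fun z _ => h1 z), Finset.sum_add_distrib, ← Finset.mul_sum, h0,
    mul_zero, add_zero, Finset.sum_ite_eq' Finset.univ (1 : Z) (fun _ => f 1 - c),
    if_pos (Finset.mem_univ _)]

end Cfsg.Agent.Helper41
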