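import Mathlib

/-!
# CALL S0997 pieces NA1, NA2, NB0 (helper41): arithmetic
-/

set_option autoImplicit false

universe u

namespace Cfsg.Agent.Helper41

/-- integer core of NA1 -/
theorem s997_na_core (a c e t p S1 : ℤ) (ha0 : 0 ≤ a) (hc0 : 0 ≤ c) (he3 : 3 ≤ e) (ht : 2 ≤ t)
    (hp0 : 0 < p) (hpe : p - 1 = e * t) (hcnt : 1 + a + c = e)
    (hrel : e = 1 + S1 - c * (p - 1))
    (hB3 : 1 + S1 ≤ e ^ 2) (hB4 : c * (p - 1) ≤ e ^ 2) (hS1 : a * (p + 1) ≤ S1)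
    (hp10 : p ≠ 10) :
    t = 2 ∧ a = c ∧ 2 * a + 1 = e ∧ S1 = a * (p + 1) := by
  have he0 : (0 : ℤ) < e := by linarith
  have hS1eq : S1 = a + c * p := by linarith
  have hac : a ≤ c := by
    have : a * p ≤ c * p := by linarith
    exact le_of_mul_le_mul_right this hp0
  have hct : c * t ≤ e := by
    have : e * (c * t) ≤ e * e := by
      rw [hpe] at hB4
      linarith
    exact le_of_mul_le_mul_left this he0
  have ht2 : t = 2 := by
    by_contra hne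
    have ht3 : 3 ≤ t := by omega
    have h3c : 3 * c ≤ e := by nlinarith
    have he : e = 3 := by omega
    have hc1 : c = 1 := by omega
    have ht3' : t = 3 := by
      rw [hc1, he] at hct
      omega
    apply hp10
    rw [he, ht3'] at hpe
    linarith
  have hp2 : p = 2 * e + 1 := by rw [ht2] at hpe; linarith
  have hca : c ≤ a := by
    -- `1 + a + c * p ≤ e ^ 2` with `a = e - 1 - c`, `p = 2e+1`: `e + 2 e c ≤ e ^ 2`
    have h1 : e * (1 + 2 * c) ≤ e * e := by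
      rw [hS1eq, hp2] at hB3
      have ha : a = e - 1 - c := by linarith
      rw [ha] at hB3
      nlinarith
    have h2 : 1 + 2 * c ≤ e := le_of_mul_le_mul_left h1 he0
    linarith
  have hac' : a = c := le_antisymm hac hca
  refine ⟨ht2, hac', by linarith, ?_⟩
  rw [hS1eq, ← hac']
  ring

/-- NA1 -/
theorem s997_num_alpha {ι : Type*} (X1 X2 : Finset ι) (d : ι → ℕ) (p e t : ℕ)
    (hp : p.Prime) (he3 : 3 ≤ e) (het : e * t = p - 1) (ht : 2 ≤ t)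
    (hd1 : ∀ χ ∈ X1, ((d χ : ℤ) ≡ 1 [ZMOD p]) ∧ 2 ≤ d χ)
    (hd2 : ∀ χ ∈ X2, ((d χ : ℤ) ≡ -1 [ZMOD p]) ∧ 2 ≤ d χ)
    (hcount : 1 + X1.card + X2.card = e)
    (hrel : (e : ℤ) = 1 + ∑ χ ∈ X1, (d χ : ℤ) - ∑ χ ∈ X2, (d χ : ℤ))
    (hB1 : (p : ℤ) + ∑ χ ∈ X1, ((d χ : ℤ) + ((p : ℤ) - 1))
        ≤ (e : ℤ) ^ 2 + (e : ℤ) * ((p : ℤ) - (e : ℤ)))
    (hB2 : ∑ χ ∈ X2, ((d χ : ℤ) - ((p : ℤ) - 1)) ≤ (e : ℤ) ^ 2 - (e : ℤ) ^ 2)
    (hB3 : 1 + ∑ χ ∈ X1, (d χ : ℤ) ≤ (e : ℤ) ^ 2)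
    (hB4 : ∑ χ ∈ X2, (d χ : ℤ) ≤ (e : ℤ) ^ 2) :
    p = 2 * e + 1 ∧ ¬ 2 ∣ e ∧ 2 * X1.card + 1 = e ∧ 2 * X2.card + 1 = e ∧
      (∀ χ ∈ X1, d χ = p + 1) ∧ (∀ χ ∈ X2, d χ = p - 1) := by
  have hp2 := hp.two_le
  have hpe : (p : ℤ) - 1 = (e : ℤ) * (t : ℤ) := by
    have : e * t + 1 = p := by omega
    rw [← this]; push_cast; ring
  have h1 : ∀ χ ∈ X1, (p : ℤ) + 1 ≤ d χ := by
    intro χ hχ
    obtain ⟨hc, h2⟩ := hd1 χ hχ
    have hdvd : (p : ℤ) ∣ (d χ : ℤ) - 1 := Int.modEq_iff_dvd.mp hc.symm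
    have hpos : (0 : ℤ) < (d χ : ℤ) - 1 := by
      have : (2 : ℤ) ≤ d χ := by exact_mod_cast h2
      linarith
    have := Int.le_of_dvd hpos hdvd
    linarith
  have h2 : ∀ χ ∈ X2, (p : ℤ) - 1 ≤ d χ := by
    intro χ hχ
    obtain ⟨hc, h2⟩ := hd2 χ hχ
    have hdvd : (p : ℤ) ∣ (d χ : ℤ) - (-1) := Int.modEq_iff_dvd.mp hc.symm
    have hpos : (0 : ℤ) < (d χ : ℤ) - (-1) := by
      have : (2 : ℤ) ≤ d χ := by exact_mod_cast h2
      linarith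
    have := Int.le_of_dvd hpos hdvd
    linarith
  have hX2 : ∀ χ ∈ X2, (d χ : ℤ) = (p : ℤ) - 1 := by
    have hnn : ∀ χ ∈ X2, (0 : ℤ) ≤ (d χ : ℤ) - ((p : ℤ) - 1) :=
      fun χ hχ => by linarith [h2 χ hχ]
    have hs : ∑ χ ∈ X2, ((d χ : ℤ) - ((p : ℤ) - 1)) = 0 := by
      apply le_antisymm
      · rw [sub_self] at hB2; exact hB2
      · exact Finset.sum_nonneg hnn
    intro χ hχ
    have := (Finset.sum_eq_zero_iff_of_nonneg hnn).mp hs χ hχ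
    linarith
  have hS2 : ∑ χ ∈ X2, (d χ : ℤ) = (X2.card : ℤ) * ((p : ℤ) - 1) := by
    rw [Finset.sum_congr rfl hX2, Finset.sum_const, nsmul_eq_mul]
  have hS1 : (X1.card : ℤ) * ((p : ℤ) + 1) ≤ ∑ χ ∈ X1, (d χ : ℤ) := by
    have := Finset.card_nsmul_le_sum X1 (fun χ => (d χ : ℤ)) ((p : ℤ) + 1) h1
    rwa [nsmul_eq_mul] at this
  rw [hS2] at hrel hB4
  have hp10 : (p : ℤ) ≠ 10 := by
    intro h
    have : p = 10 := by exact_mod_cast h
    rw [this] at hp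
    norm_num at hp
  obtain ⟨ht2, hac, hae, hS1eq⟩ := s997_na_core (X1.card : ℤ) (X2.card : ℤ) (e : ℤ) (t : ℤ)
    (p : ℤ) (∑ χ ∈ X1, (d χ : ℤ)) (Int.natCast_nonneg _) (Int.natCast_nonneg _)
    (by exact_mod_cast he3) (by exact_mod_cast ht) (by exact_mod_cast hp.pos) hpe
    (by exact_mod_cast hcount) hrel hB3 hB4 hS1 hp10
  have hX1 : ∀ χ ∈ X1, (d χ : ℤ) = (p : ℤ) + 1 := by
    have hnn : ∀ χ ∈ X1, (0 : ℤ) ≤ (d χ : ℤ) - ((p : ℤ) + 1) :=
      fun χ hχ => by linarith [h1 χ hχ]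
    have hs : ∑ χ ∈ X1, ((d χ : ℤ) - ((p : ℤ) + 1)) = 0 := by
      rw [Finset.sum_sub_distrib, Finset.sum_const, nsmul_eq_mul, hS1eq]
      ring
    intro χ hχ
    have := (Finset.sum_eq_zero_iff_of_nonneg hnn).mp hs χ hχ
    linarith
  have ht2' : t = 2 := by exact_mod_cast ht2
  have hac' : X1.card = X2.card := by exact_mod_cast hac
  have hae' : 2 * X1.card + 1 = e := by exact_mod_cast hae
  subst ht2'
  refine ⟨by omega, by omega, hae', by omega, ?_, ?_⟩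
  · intro χ hχ
    have := hX1 χ hχ
    exact_mod_cast this
  · intro χ hχ
    have := hX2 χ hχ
    omega

/-- NA2 -/
theorem s997_num_alpha_order (p q e b g₀ n : ℕ) (hp : p.Prime) (hq : q.Prime)
    (hpe : p = 2 * e + 1) (he3 : 3 ≤ e) (heo : ¬ 2 ∣ e)
    (hq1 : q ∣ p + 1) (hq2 : q ∣ p - 1) (heg : e ∣ g₀) (hg : g₀ < p - 1)
    (hord : q ^ b * g₀ = e * (1 + n * p)) (hdvd : p + 1 ∣ p * (e * (1 + n * p))) :
    q = 2 ∧ g₀ = e ∧ 1 + n * p = 2 ^ b ∧ ∃ m : ℕ, p = 2 ^ m - 1 := by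
  have hq2' : q = 2 := by
    have h : q ∣ (p + 1) - (p - 1) := Nat.dvd_sub hq1 hq2
    have h2 : (p + 1) - (p - 1) = 2 := by omega
    rw [h2] at h
    exact (Nat.prime_dvd_prime_iff_eq hq Nat.prime_two).mp h
  subst hq2'
  have hg0 : 0 < g₀ := by
    rcases Nat.eq_zero_or_pos g₀ with h | h
    · exfalso
      rw [h, mul_zero] at hord
      have : 0 < e * (1 + n * p) := Nat.mul_pos (by omega) (by omega)
      omega
    · exact h
  have hge : g₀ = e := by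
    obtain ⟨k, hk⟩ := heg
    have hk1 : k = 1 := by
      have hk0 : 0 < k := by
        rcases Nat.eq_zero_or_pos k with h | h
        · rw [h, mul_zero] at hk; omega
        · exact h
      have hk2 : k < 2 := by
        by_contra hcon
        have : e * 2 ≤ e * k := Nat.mul_le_mul_left e (by omega)
        omega
      omega
    rw [hk, hk1, mul_one]
  subst hge
  have h2b : 1 + n * p = 2 ^ b := by
    have : g₀ * (1 + n * p) = g₀ * 2 ^ b := by rw [← hord, mul_comm]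
    exact Nat.eq_of_mul_eq_mul_left hg0 this
  refine ⟨rfl, rfl, h2b, ?_⟩
  rw [h2b] at hdvd
  have hc1 : Nat.Coprime (p + 1) p := by
    rw [Nat.coprime_comm]
    simp
  have h1 : p + 1 ∣ g₀ * 2 ^ b := hc1.dvd_of_dvd_mul_left hdvd
  have h2 : g₀ + 1 ∣ g₀ * 2 ^ b := by
    refine dvd_trans ?_ h1
    exact ⟨2, by omega⟩
  have hc2 : Nat.Coprime (g₀ + 1) g₀ := by
    rw [Nat.coprime_comm]
    simp
  have h3 : g₀ + 1 ∣ 2 ^ b := hc2.dvd_of_dvd_mul_left h2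
  obtain ⟨k, -, hk⟩ := (Nat.dvd_prime_pow Nat.prime_two).mp h3
  refine ⟨k + 1, ?_⟩
  rw [pow_succ, ← hk]
  omega

/-- NB0 -/
theorem s997_num_beta_q {ι : Type*} (X1 X2 : Finset ι) (d : ι → ℕ) (p q e f t b g₀ n : ℕ)
    (hp : p.Prime) (hq : q.Prime) (he2 : 2 ≤ e) (hef : e + f = p) (het : e * t = p - 1)
    (ht : 2 ≤ t) (hfg : f ∣ g₀) (hg : g₀ < p - 1)
    (hord : q ^ b * g₀ = e * (1 + n * p))
    (hq1 : ∀ χ ∈ X1, q ∣ d χ) (hq2 : ∀ χ ∈ X2, q ∣ d χ)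
    (hrel : -(f : ℤ) = 1 + ∑ χ ∈ X1, (d χ : ℤ) - ∑ χ ∈ X2, (d χ : ℤ)) :
    q = 2 ∧ g₀ = f ∧ ∃ c : ℕ, 1 ≤ c ∧ e = 2 ^ c := by
  have hp2 := hp.two_le
  have h2e : e * 2 ≤ p - 1 := by
    rw [← het]
    exact Nat.mul_le_mul_left e ht
  have hg0 : 0 < g₀ := by
    rcases Nat.eq_zero_or_pos g₀ with h | h
    · exfalso
      rw [h, mul_zero] at hord
      have : 0 < e * (1 + n * p) := Nat.mul_pos (by omega) (by omega)
      omega
    · exact h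
  have hgf : g₀ = f := by
    obtain ⟨k, hk⟩ := hfg
    have hk1 : k = 1 := by
      have hk0 : 0 < k := by
        rcases Nat.eq_zero_or_pos k with h | h
        · rw [h, mul_zero] at hk; omega
        · exact h
      have hk2 : k < 2 := by
        by_contra hcon
        have : f * 2 ≤ f * k := Nat.mul_le_mul_left f (by omega)
        omega
      omega
    rw [hk, hk1, mul_one]
  subst hgf
  have hcop : Nat.Coprime e g₀ := by
    have h1 : Nat.Coprime e p := by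
      rw [Nat.coprime_comm]
      refine (Nat.Prime.coprime_iff_not_dvd hp).mpr ?_
      intro h
      have := Nat.le_of_dvd (by omega) h
      omega
    rw [← hef] at h1
    simpa using h1
  have hedvd : e ∣ q ^ b := by
    have : e ∣ q ^ b * g₀ := ⟨_, hord⟩
    exact hcop.dvd_of_dvd_mul_right this
  obtain ⟨c, -, hc⟩ := (Nat.dvd_prime_pow hq).mp hedvd
  have hc1 : 1 ≤ c := by
    rcases Nat.eq_zero_or_pos c with h | h
    · rw [h, pow_zero] at hc; omega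
    · exact h
  have hqe : q ∣ e := by
    rw [hc]
    exact dvd_pow_self q (by omega)
  have hqp1 : q ∣ p - 1 := by
    rw [← het]
    exact dvd_mul_of_dvd_left hqe t
  have hqf : q ∣ g₀ + 1 := by
    have h1 : (q : ℤ) ∣ ∑ χ ∈ X1, (d χ : ℤ) :=
      Finset.dvd_sum (fun χ hχ => Int.natCast_dvd_natCast.mpr (hq1 χ hχ))
    have h2 : (q : ℤ) ∣ ∑ χ ∈ X2, (d χ : ℤ) :=
      Finset.dvd_sum (fun χ hχ => Int.natCast_dvd_natCast.mpr (hq2 χ hχ))
    have h3 : ((g₀ + 1 : ℕ) : ℤ) = ∑ χ ∈ X2, (d χ : ℤ) - ∑ χ ∈ X1, (d χ : ℤ) := by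
      push_cast
      linarith
    have h4 : (q : ℤ) ∣ ((g₀ + 1 : ℕ) : ℤ) := by
      rw [h3]
      exact dvd_sub h2 h1
    exact Int.natCast_dvd_natCast.mp h4
  have hqp : q ∣ p + 1 := by
    have : p + 1 = e + (g₀ + 1) := by omega
    rw [this]
    exact dvd_add hqe hqf
  have hq2' : q = 2 := by
    have h : q ∣ (p + 1) - (p - 1) := Nat.dvd_sub hqp hqp1
    have h2 : (p + 1) - (p - 1) = 2 := by omega
    rw [h2] at h
    exact (Nat.prime_dvd_prime_iff_eq hq Nat.prime_two).mp h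
  subst hq2'
  exact ⟨rfl, rfl, c, hc1, hc⟩

end Cfsg.Agent.Helper41
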