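import Mathlib
import Cfsg.Agent.Helper3.Burnside2

set_option autoImplicit false

namespace Cfsg.Agent.Helper41

/-- Burnside transfer in a simple group: a Sylow subgroup that is neither trivial nor everything
is not central in its normalizer. -/
theorem false_of_normalizer_le_centralizer {G : Type*} [Group G] [Finite G] [IsSimpleGroup G]
    {t : ℕ} [Fact t.Prime] (P : Sylow t G) (h1 : Nat.card (P : Subgroup G) ≠ 1)
    (h2 : Nat.card (P : Subgroup G) ≠ Nat.card G)
    (hP : Subgroup.normalizer ((P : Subgroup G) : Set G) ≤
      Subgroup.centralizer ((P : Subgroup G) : Set G)) : False := by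
  have hcompl := MonoidHom.ker_transferSylow_isComplement' P hP
  have hc := hcompl.card_mul_card
  have hKn : (MonoidHom.transferSylow P hP).ker.Normal := inferInstance
  rcases hKn.eq_bot_or_eq_top with hb | ht
  · rw [hb] at hc
    simp only [Subgroup.card_bot, one_mul] at hc
    exact h2 hc
  · rw [ht] at hc
    simp only [Subgroup.card_top] at hc
    have hpos : 0 < Nat.card G := Nat.card_pos
    have : Nat.card (P : Subgroup G) = 1 := by
      have h3 : Nat.card G * Nat.card (P : Subgroup G) = Nat.card G * 1 := by rw [hc, mul_one]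
      exact Nat.eq_of_mul_eq_mul_left hpos h3
    exact h1 this

/-- A simple group that is not solvable has non-prime order. -/
theorem not_solvable_of_not_prime {G : Type*} [Group G] [Finite G] [IsSimpleGroup G]
    (h : ¬ (Nat.card G).Prime) : ¬ Group.IsSolvable G := by
  intro hs
  have hcomm := IsSimpleGroup.comm_iff_isSolvable.mpr hs
  have : IsMulCommutative G := ⟨⟨hcomm⟩⟩
  exact h (Group.is_simple_iff_prime_card.mp inferInstance)

/-- In a nonsolvable simple group, a Sylow subgroup for the smallest prime is not cyclic. -/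
theorem not_isCyclic_sylow_minFac {G : Type*} [Group G] [Finite G] [IsSimpleGroup G]
    (hns : ¬ Group.IsSolvable G) {s : ℕ} [Fact s.Prime] (hs : (Nat.card G).minFac = s)
    (S : Sylow s G) : ¬ IsCyclic (S : Subgroup G) := by
  intro hc
  have hNC := IsCyclic.normalizer_le_centralizer hs hc
  refine false_of_normalizer_le_centralizer S ?_ ?_ hNC
  · intro h1
    have hdvd : s ∣ Nat.card G := hs ▸ Nat.minFac_dvd _
    have := S.card_eq_multiplicity
    rw [h1] at this
    have hpos : 0 < (Nat.card G).factorization s :=
      Nat.Prime.factorization_pos_of_dvd Fact.out Nat.card_pos.ne' hdvd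
    have h2 : 1 < s ^ (Nat.card G).factorization s :=
      Nat.one_lt_pow hpos.ne' (Fact.out : s.Prime).one_lt
    omega
  · intro h2
    have htop : (S : Subgroup G) = ⊤ := (Subgroup.card_eq_iff_eq_top _).mp h2
    apply hns
    have : IsCyclic G := by
      have e : (S : Subgroup G) ≃* G := htop ▸ Subgroup.topEquiv
      exact isCyclic_of_surjective e e.surjective
    have hcomm : IsMulCommutative G := inferInstance
    exact Group.isSolvable_of_comm (fun a b => mul_comm' a b)

/-- A prime dividing the order of the automorphism group of a group of order `p²`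
divides `p² - 1` or `p² - p`. -/
theorem prime_dvd_card_mulAut {P : Type*} [Group P] [Finite P] {p t : ℕ} (hp : p.Prime)
    (ht : t.Prime) (hP : Nat.card P = p ^ 2) (hdvd : t ∣ Nat.card (MulAut P)) :
    t ∣ p ^ 2 - 1 ∨ t ∣ p ^ 2 - p := by
  classical
  have := Fact.mk ht
  obtain ⟨α, hα⟩ := exists_prime_orderOf_dvd_card' t hdvd
  have hZ : IsPGroup t (Subgroup.zpowers α) :=
    IsPGroup.of_card (n := 1) (by rw [Nat.card_zpowers, hα, pow_one])
  have hmod := hZ.card_modEq_card_fixedPoints (α := P)
  let Fx : Subgroup P :=
    { carrier := {y | α y = y}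
      mul_mem' := by
        intro a b ha hb
        simp only [Set.mem_ofPred_eq] at ha hb ⊢
        rw [map_mul, ha, hb]
      one_mem' := by simp
      inv_mem' := by
        intro a ha
        simp only [Set.mem_ofPred_eq] at ha ⊢
        rw [map_inv, ha] }
  have hfix : MulAction.fixedPoints (Subgroup.zpowers α) P = (Fx : Set P) := by
    ext y
    rw [MulAction.mem_fixedPoints]
    constructor
    · intro h
      exact h ⟨α, Subgroup.mem_zpowers α⟩
    · intro h
      rintro ⟨β, k, rfl⟩
      change (α ^ k) y = y
      have hy : α y = y := h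
      have hk : ∀ m : ℕ, (α ^ m) y = y := by
        intro m
        induction m with
        | zero => simp
        | succ m ih => rw [pow_succ, MulAut.mul_apply, hy, ih]
      have hinv : ∀ m : ℕ, (α ^ m)⁻¹ y = y := by
        intro m
        have := hk m
        rw [MulAut.inv_apply]
        exact (MulEquiv.symm_apply_eq _).mpr this.symm
      rcases Int.eq_nat_or_neg k with ⟨m, rfl | rfl⟩
      · rw [zpow_natCast]; exact hk m
      · rw [zpow_neg, zpow_natCast]; exact hinv m
  have hcardfix : Nat.card (MulAction.fixedPoints (Subgroup.zpowers α) P) = Nat.card Fx := by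
    rw [hfix]
    rfl
  rw [hcardfix, hP] at hmod
  have hdvd2 : Nat.card Fx ∣ p ^ 2 := hP ▸ Subgroup.card_subgroup_dvd_card Fx
  obtain ⟨k, hk, hk2⟩ := (Nat.dvd_prime_pow hp).mp hdvd2
  have hp2 := hp.two_le
  interval_cases k
  · left
    rw [hk2, pow_zero] at hmod
    exact (Nat.modEq_iff_dvd' (Nat.one_le_pow _ _ hp.pos)).mp hmod.symm
  · right
    rw [hk2, pow_one] at hmod
    exact (Nat.modEq_iff_dvd' (by nlinarith)).mp hmod.symm
  · exfalso
    have htop : Fx = ⊤ := (Subgroup.card_eq_iff_eq_top _).mp (hk2.trans hP.symm)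
    have hα1 : α = 1 := by
      ext y
      have : y ∈ Fx := htop ▸ Subgroup.mem_top y
      exact this
    rw [hα1, orderOf_one] at hα
    exact ht.one_lt.ne hα

/-- Arithmetic: a prime `t > p` dividing `p² - 1` or `p² - p` forces `p = 2`, `t = 3`. -/
theorem two_three_of_dvd {p t : ℕ} (hp : p.Prime) (ht : t.Prime) (hlt : p < t)
    (h : t ∣ p ^ 2 - 1 ∨ t ∣ p ^ 2 - p) : p = 2 ∧ t = 3 := by
  have hp2 := hp.two_le
  have hnot1 : ¬ t ∣ p - 1 := by
    intro hd
    have := Nat.le_of_dvd (by omega) hd
    omega
  have hnotp : ¬ t ∣ p := by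
    intro hd
    have := Nat.le_of_dvd hp.pos hd
    omega
  have hp1 : t ∣ p + 1 := by
    rcases h with h | h
    · have e : p ^ 2 - 1 = (p - 1) * (p + 1) := by
        obtain ⟨m, rfl⟩ : ∃ m, p = m + 1 := ⟨p - 1, by omega⟩
        simp only [Nat.add_sub_cancel]
        have : (m + 1) ^ 2 = m * (m + 1 + 1) + 1 := by ring
        rw [this, Nat.add_sub_cancel]
      rw [e] at h
      rcases (Nat.Prime.dvd_mul ht).mp h with h | h
      · exact absurd h hnot1
      · exact h
    · have e : p ^ 2 - p = p * (p - 1) := by
        obtain ⟨m, rfl⟩ : ∃ m, p = m + 1 := ⟨p - 1, by omega⟩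
        simp only [Nat.add_sub_cancel]
        have : (m + 1) ^ 2 = (m + 1) * m + (m + 1) := by ring
        rw [this, Nat.add_sub_cancel]
      rw [e] at h
      rcases (Nat.Prime.dvd_mul ht).mp h with h | h
      · exact absurd h hnotp
      · exact absurd h hnot1
  have hle := Nat.le_of_dvd (by omega) hp1
  have hteq : t = p + 1 := by omega
  rcases hp.eq_two_or_odd with h2 | hodd
  · exact ⟨h2, by omega⟩
  · exfalso
    have h2t : 2 ∣ t := by omega
    have := (Nat.prime_dvd_prime_iff_eq Nat.prime_two ht).mp h2t
    omega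

/-- A simple group of order `12 r` with `r ≥ 5` prime has `r = 5`. -/
theorem eq_five_of_card_eq_twelve_mul {G : Type*} [Group G] [Finite G] [IsSimpleGroup G]
    (r : ℕ) (hr : r.Prime) (hr2 : r ≠ 2) (hr3 : r ≠ 3) (hG : Nat.card G = 12 * r) : r = 5 := by
  classical
  have := Fact.mk hr
  have hr5 : 5 ≤ r := by
    have := hr.two_le
    by_contra hlt
    have h4 : r ≠ 4 := by
      rintro rfl
      revert hr
      decide
    omega
  have hndvd : ¬ r ∣ 12 := by
    intro hd
    have := Nat.le_of_dvd (by norm_num) hd
    interval_cases r <;> first | (exfalso; norm_num at hd; done) | (exfalso; norm_num at hr; done)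
  let R : Sylow r G := default
  have hRcard : Nat.card (R : Subgroup G) = r := by
    rw [Sylow.card_eq_multiplicity, hG, Nat.factorization_mul (by norm_num) hr.ne_zero,
      Finsupp.add_apply, Nat.factorization_eq_zero_of_not_dvd hndvd, hr.factorization_self]
    simp
  have hRidx : (R : Subgroup G).index = 12 := by
    have := (R : Subgroup G).card_mul_index
    rw [hRcard, hG, mul_comm] at this
    exact Nat.eq_of_mul_eq_mul_right hr.pos this
  set N : Subgroup G := Subgroup.normalizer ((R : Subgroup G) : Set G) with hN
  have hRN : (R : Subgroup G) ≤ N := Subgroup.le_normalizer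
  have hNidx : N.index ∣ 12 := by
    rw [← hRidx]
    exact Subgroup.index_dvd_of_le hRN
  have hNcard := N.card_mul_index
  rw [hG] at hNcard
  have hmod : N.index ≡ 1 [MOD r] := by
    have h1 : Nat.card (Sylow r G) = N.index := Sylow.card_eq_index_normalizer R
    rw [← h1]
    exact card_sylow_modEq_one r G
  have hdiv : N.index ∈ Nat.divisors 12 := by
    rw [Nat.mem_divisors]
    exact ⟨hNidx, by norm_num⟩
  have hdivs : Nat.divisors 12 = {1, 2, 3, 4, 6, 12} := by decide
  rw [hdivs] at hdiv
  simp only [Finset.mem_insert, Finset.mem_singleton] at hdiv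
  have key : ∀ k : ℕ, 2 ≤ k → k ≤ 6 → N.index = k → r ∣ k - 1 := by
    intro k hk1 hk2 hk
    rw [hk] at hmod
    exact (Nat.modEq_iff_dvd' (by omega)).mp hmod.symm
  rcases hdiv with h | h | h | h | h | h
  · exfalso
    have hNtop : N = ⊤ := Subgroup.index_eq_one.mp h
    have hnorm : (R : Subgroup G).Normal := Subgroup.normalizer_eq_top_iff.mp hNtop
    rcases hnorm.eq_bot_or_eq_top with hb | ht
    · rw [hb] at hRcard
      simp only [Subgroup.card_bot] at hRcard
      omega
    · rw [ht] at hRcard
      simp only [Subgroup.card_top] at hRcard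
      omega
  · have := Nat.le_of_dvd (by norm_num) (key 2 (by norm_num) (by norm_num) h)
    omega
  · have := Nat.le_of_dvd (by norm_num) (key 3 (by norm_num) (by norm_num) h)
    omega
  · have := Nat.le_of_dvd (by norm_num) (key 4 (by norm_num) (by norm_num) h)
    omega
  · have := Nat.le_of_dvd (by norm_num) (key 6 (by norm_num) (by norm_num) h)
    omega
  · exfalso
    have hNc : Nat.card N = r := by
      rw [h] at hNcard
      have : Nat.card N * 12 = r * 12 := by rw [hNcard, mul_comm]
      exact Nat.eq_of_mul_eq_mul_right (by norm_num) this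
    have hReq : (R : Subgroup G) = N :=
      Subgroup.eq_of_le_of_card_ge hRN (by rw [hRcard, hNc])
    have hcyc : IsCyclic (R : Subgroup G) := isCyclic_of_prime_card hRcard
    have hcomm : ∀ a b : (R : Subgroup G), a * b = b * a := fun a b => mul_comm' a b
    have hNC : Subgroup.normalizer ((R : Subgroup G) : Set G) ≤
        Subgroup.centralizer ((R : Subgroup G) : Set G) := by
      intro x hx
      rw [← hN, ← hReq] at hx
      rw [Subgroup.mem_centralizer_iff]
      intro y hy
      have := hcomm ⟨y, hy⟩ ⟨x, hx⟩
      exact congrArg Subtype.val this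
    refine false_of_normalizer_le_centralizer R ?_ ?_ hNC
    · rw [hRcard]; exact hr.one_lt.ne'
    · rw [hRcard, hG]; omega

end Cfsg.Agent.Helper41
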