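import Mathlib

set_option autoImplicit false

namespace Cfsg.Agent.Helper41

universe u

/-- Induction principle for solvability: a property of finite groups inherited by normal
subgroups and quotients, and forcing solvability of simple groups, forces solvability. -/
theorem isSolvable_of_inherited (P : ∀ (G : Type u) [Group G], Prop)
    (hsub : ∀ (G : Type u) [Group G] [Finite G] (N : Subgroup G) [N.Normal], P G → P N)
    (hquot : ∀ (G : Type u) [Group G] [Finite G] (N : Subgroup G) [N.Normal], P G → P (G ⧸ N))
    (hsimple : ∀ (G : Type u) [Group G] [Finite G] [IsSimpleGroup G], P G → Group.IsSolvable G)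
    (G : Type u) [Group G] [Finite G] (h : P G) : Group.IsSolvable G := by
  obtain ⟨n, hn⟩ : ∃ n, Nat.card G = n := ⟨_, rfl⟩
  induction n using Nat.strong_induction_on generalizing G with
  | _ n ih =>
    by_cases htriv : Subsingleton G
    · exact Group.isSolvable_of_comm (fun a b => by rw [Subsingleton.elim a b])
    have hnt : Nontrivial G := not_subsingleton_iff_nontrivial.mp htriv
    by_cases hs : ∀ N : Subgroup G, N.Normal → N = ⊥ ∨ N = ⊤
    · have : IsSimpleGroup G := ⟨fun N hN => hs N hN⟩
      exact hsimple G h
    · push Not at hs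
      obtain ⟨N, hN, hbot, htop⟩ := hs
      have hNcard : Nat.card N < n := by
        rw [← hn]
        apply lt_of_le_of_ne (Subgroup.card_le_card_group N)
        intro heq
        exact htop ((Subgroup.card_eq_iff_eq_top N).mp heq)
      have hQcard : Nat.card (G ⧸ N) < n := by
        rw [← hn, ← Subgroup.index_eq_card]
        have h1 := N.card_mul_index
        have h2 : 1 < Nat.card N := by
          rw [Subgroup.one_lt_card_iff_ne_bot]
          exact hbot
        have h3 : 0 < N.index := Nat.pos_of_ne_zero Subgroup.index_ne_zero_of_finite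
        nlinarith
      have hN' : Group.IsSolvable N := ih _ hNcard N (hsub G N h) rfl
      have hQ' : Group.IsSolvable (G ⧸ N) := ih _ hQcard (G ⧸ N) (hquot G N h) rfl
      exact Group.isSolvable_of_ker_le_range N.subtype (QuotientGroup.mk' N) (by simp)

/-- For a normal subgroup `N`, the index of `A ⊓ N` in `N` divides the index of `A`. -/
theorem relIndex_dvd_index_of_normal_right {G : Type*} [Group G] [Finite G] (A N : Subgroup G)
    [N.Normal] : A.relIndex N ∣ A.index := by
  have h1 : Nat.card (A ⊓ N : Subgroup G) * A.relIndex N = Nat.card N := by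
    rw [← Subgroup.relIndex_bot_left, ← Subgroup.relIndex_bot_left, ← Subgroup.inf_relIndex_right A N]
    exact Subgroup.relIndex_mul_relIndex _ _ _ bot_le inf_le_right
  have h2 : Nat.card A * A.relIndex (A ⊔ N) = Nat.card (A ⊔ N : Subgroup G) := by
    rw [← Subgroup.relIndex_bot_left, ← Subgroup.relIndex_bot_left]
    exact Subgroup.relIndex_mul_relIndex _ _ _ bot_le le_sup_left
  have h3 : Nat.card N * N.relIndex A = Nat.card (A ⊔ N : Subgroup G) := by
    rw [← Subgroup.relIndex_sup_right A N, ← Subgroup.relIndex_bot_left,
      ← Subgroup.relIndex_bot_left]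
    exact Subgroup.relIndex_mul_relIndex _ _ _ bot_le le_sup_right
  have h4 : Nat.card (A ⊓ N : Subgroup G) * N.relIndex A = Nat.card A := by
    rw [← Subgroup.relIndex_bot_left, ← Subgroup.relIndex_bot_left, inf_comm,
      ← Subgroup.inf_relIndex_right N A]
    exact Subgroup.relIndex_mul_relIndex _ _ _ bot_le inf_le_right
  have hapos : 0 < Nat.card A := Nat.card_pos
  have heq : A.relIndex (A ⊔ N) = A.relIndex N := by
    have e : Nat.card A * A.relIndex (A ⊔ N) = Nat.card A * A.relIndex N := by
      rw [h2, ← h3, ← h1, ← h4]
      ring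
    exact Nat.eq_of_mul_eq_mul_left hapos e
  rw [← heq]
  exact Subgroup.relIndex_dvd_index_of_le le_sup_left

end Cfsg.Agent.Helper41
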