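import Mathlib
import Cfsg.Agent.Helper13.SuBlk

set_option autoImplicit false

namespace Cfsg.Agent.Helper41

open Matrix
open Cfsg.Agent.Helper5 (frobQ frobQ_apply frobQ_frobQ)
open Cfsg.Agent.Helper99 (suH suG suAct suEl)
open Cfsg.Agent.Helper13 (bVec suBlk suLv BlkU)

variable {K : Type*} [Field K] [Fintype K] {q : ℕ}

/-- PIECE T2 (torus element for m = 2). -/
theorem su5_torus (hK : Fintype.card K = q ^ 2) (p : ℕ) [Fact p.Prime] [CharP K p]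
    (r ρ : K) (hr : r ≠ 0) (hρ : ρ ≠ 0) (hfr : frobQ hK r = r) (a₀ c : K)
    (hc : c + frobQ hK c + a₀ * frobQ hK a₀ = 0)
    (X X' : Matrix.SpecialLinearGroup (Fin 2) K) (hX : X.1 = !![1, 1; 0, 1])
    (hX' : X'.1 = !![1, r * ρ ^ 5; 0, 1]) :
    ∃ t : ↥(suG hK (2 * 2 + 1)),
      t * (suLv hK 2 X * suEl hK (bVec (Pi.single 1 1) 0 0) (bVec 0 0 a₀) c) * t⁻¹ =
        suLv hK 2 X' * suEl hK (bVec (Pi.single 1 1) 0 0) (bVec 0 0 a₀) c := by
  classical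
  have hφφ : ∀ x, frobQ hK (frobQ hK x) = x := frobQ_frobQ hK
  have hφρ : frobQ hK ρ ≠ 0 := by
    intro h
    have := hφφ ρ
    rw [h, map_zero] at this
    exact hρ this.symm
  obtain ⟨μ, hμ⟩ : ∃ μ : K, μ = r * ρ ^ 5 := ⟨_, rfl⟩
  obtain ⟨ω, hω⟩ : ∃ ω : K, ω = frobQ hK ρ / ρ := ⟨_, rfl⟩
  have hμ0 : μ ≠ 0 := by rw [hμ]; exact mul_ne_zero hr (pow_ne_zero _ hρ)
  have hφμ : frobQ hK μ = r * (frobQ hK ρ) ^ 5 := by rw [hμ, map_mul, map_pow, hfr]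
  have hφμ0 : frobQ hK μ ≠ 0 := by rw [hφμ]; exact mul_ne_zero hr (pow_ne_zero _ hφρ)
  have hφω : frobQ hK ω = ρ / frobQ hK ρ := by rw [hω, map_div₀, hφφ]
  have hωω : ω * frobQ hK ω = 1 := by rw [hφω, hω]; field_simp
  have hω0 : ω ≠ 0 := by rw [hω]; exact div_ne_zero hφρ hρ
  have hB : BlkU hK (!![ω * μ, 0; 0, ω] : Matrix (Fin 2) (Fin 2) K) 0 0
      (!![ω / frobQ hK μ, 0; 0, ω] : Matrix (Fin 2) (Fin 2) K) ω := by
    refine ⟨?_, ?_, ?_, ?_, hωω, ?_⟩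
    · simp
    · have e : (!![ω * μ, 0; 0, ω] : Matrix (Fin 2) (Fin 2) K)ᵀ *
          (!![ω / frobQ hK μ, 0; 0, ω] : Matrix (Fin 2) (Fin 2) K).map (frobQ hK) = 1 := by
        ext i j
        fin_cases i <;> fin_cases j <;>
          simp [Matrix.mul_apply, Fin.sum_univ_two, Matrix.one_apply, map_div₀, hφφ]
        · rw [hφω, hω]; field_simp
        · exact hωω
      simp [e]
    · have e : (!![ω / frobQ hK μ, 0; 0, ω] : Matrix (Fin 2) (Fin 2) K)ᵀ *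
          (!![ω * μ, 0; 0, ω] : Matrix (Fin 2) (Fin 2) K).map (frobQ hK) = 1 := by
        ext i j
        fin_cases i <;> fin_cases j <;>
          simp [Matrix.mul_apply, Fin.sum_univ_two, Matrix.one_apply, map_div₀, hφφ]
        · rw [hφω, hω]; field_simp
        · exact hωω
      simp [e]
    · simp
    · rw [Matrix.det_fromBlocks_zero₁₂, Matrix.det_fin_two_of, Matrix.det_fin_two_of, hφμ, hω, hμ]
      field_simp
      ring
  refine ⟨suBlk hK _ 0 0 _ ω hB, ?_⟩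
  set t := suBlk hK _ 0 0 _ ω hB with ht
  have hact : ∀ (a b : Fin 2 → K) (l : K), suAct t (bVec a b l) =
      bVec ((!![ω * μ, 0; 0, ω] : Matrix (Fin 2) (Fin 2) K) *ᵥ a)
        ((!![ω / frobQ hK μ, 0; 0, ω] : Matrix (Fin 2) (Fin 2) K) *ᵥ b) (ω * l) := by
    intro a b l
    rw [ht, Cfsg.Agent.Helper13.suAct_suBlk]
    simp only [Matrix.zero_mulVec, add_zero, zero_add]
  have hE : Cfsg.Agent.Helper99.SuHE hK (bVec (Pi.single (1 : Fin 2) (1 : K)) 0 0)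
      (bVec 0 0 a₀) c := by
    refine ⟨?_, ?_, ?_⟩
    · rw [Cfsg.Agent.Helper13.suH_bVec]; simp
    · rw [Cfsg.Agent.Helper13.suH_bVec]; simp
    · rw [Cfsg.Agent.Helper13.suH_bVec]; simpa using hc
  have h_a : suAct t (bVec (Pi.single (1 : Fin 2) (1 : K)) 0 0) =
      ω • bVec (Pi.single (1 : Fin 2) (1 : K)) 0 0 := by
    rw [hact, Cfsg.Agent.Helper13.bVec_smul]
    congr 1
    all_goals first
      | (ext i; fin_cases i <;> simp [Matrix.mulVec, dotProduct, Fin.sum_univ_two]; done)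
      | simp
  have h_b : suAct t (bVec 0 0 a₀) = bVec 0 0 (ω * a₀) := by
    rw [hact]
    simp
  have hE1 := Cfsg.Agent.Helper99.suHE_act hK t hE
  rw [h_a, h_b] at hE1
  have hw : frobQ hK ω • bVec (0 : Fin 2 → K) 0 (ω * a₀) = bVec 0 0 a₀ := by
    rw [Cfsg.Agent.Helper13.bVec_smul, smul_zero, ← mul_assoc, mul_comm (frobQ hK ω) ω, hωω, one_mul]
  have hc' : ω * frobQ hK ω * c = c := by rw [hωω, one_mul]
  have hE2 : Cfsg.Agent.Helper99.SuHE hK (bVec (Pi.single (1 : Fin 2) (1 : K)) 0 0)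
      (frobQ hK ω • bVec (0 : Fin 2 → K) 0 (ω * a₀)) (ω * frobQ hK ω * c) := by
    rw [hw, hc']; exact hE
  have key := Cfsg.Agent.Helper99.suEl_smul hK p ω hE1 hE2
  rw [hw, hc'] at key
  have hconj : t * suEl hK (bVec (Pi.single 1 1) 0 0) (bVec 0 0 a₀) c * t⁻¹ =
      suEl hK (bVec (Pi.single 1 1) 0 0) (bVec 0 0 a₀) c := by
    rw [Cfsg.Agent.Helper99.suEl_conj hK p t hE, h_a, h_b, key]
  have hXi : ((X⁻¹ : Matrix.SpecialLinearGroup (Fin 2) K).1.map (frobQ hK))ᵀ =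
      !![1, 0; -1, 1] := by
    rw [Matrix.SpecialLinearGroup.coe_inv, hX, Matrix.adjugate_fin_two_of]
    ext i j
    fin_cases i <;> fin_cases j <;> simp
  have hX'i : ((X'⁻¹ : Matrix.SpecialLinearGroup (Fin 2) K).1.map (frobQ hK))ᵀ =
      !![1, 0; -frobQ hK μ, 1] := by
    rw [Matrix.SpecialLinearGroup.coe_inv, hX', Matrix.adjugate_fin_two_of, hμ]
    ext i j
    fin_cases i <;> fin_cases j <;> simp
  have hm1 : (!![ω * μ, 0; 0, ω] : Matrix (Fin 2) (Fin 2) K) * X.1 =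
      X'.1 * !![ω * μ, 0; 0, ω] := by
    rw [hX, hX', ← hμ]
    ext i j
    fin_cases i <;> fin_cases j <;> simp [Matrix.mul_apply, Fin.sum_univ_two]
    ring
  have hm2 : (!![ω / frobQ hK μ, 0; 0, ω] : Matrix (Fin 2) (Fin 2) K) * !![1, 0; -1, 1] =
      !![1, 0; -frobQ hK μ, 1] * !![ω / frobQ hK μ, 0; 0, ω] := by
    ext i j
    fin_cases i <;> fin_cases j <;> simp [Matrix.mul_apply, Fin.sum_univ_two]
    field_simp
  have hcomm : t * suLv hK 2 X = suLv hK 2 X' * t := by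
    apply Cfsg.Agent.Helper99.su_ext
    intro x
    obtain ⟨a, b, l, rfl⟩ := Cfsg.Agent.Helper13.bVec_surj x
    rw [Cfsg.Agent.Helper99.suAct_mul, Cfsg.Agent.Helper99.suAct_mul,
      Cfsg.Agent.Helper13.suAct_suLv, hact, hact, Cfsg.Agent.Helper13.suAct_suLv, hXi, hX'i,
      Matrix.mulVec_mulVec, Matrix.mulVec_mulVec, Matrix.mulVec_mulVec, Matrix.mulVec_mulVec,
      hm1, hm2]
  calc t * (suLv hK 2 X * suEl hK (bVec (Pi.single 1 1) 0 0) (bVec 0 0 a₀) c) * t⁻¹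
      = (t * suLv hK 2 X) * suEl hK (bVec (Pi.single 1 1) 0 0) (bVec 0 0 a₀) c * t⁻¹ := by
        group
    _ = suLv hK 2 X' * (t * suEl hK (bVec (Pi.single 1 1) 0 0) (bVec 0 0 a₀) c * t⁻¹) := by
        rw [hcomm]; group
    _ = suLv hK 2 X' * suEl hK (bVec (Pi.single 1 1) 0 0) (bVec 0 0 a₀) c := by rw [hconj]

end Cfsg.Agent.Helper41
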