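import Mathlib
import Cfsg.Agent.Helper13.TIDefs

set_option autoImplicit false

namespace Cfsg.Agent.Helper41.TI5955

open Module Polynomial
open Cfsg.Agent.Helper42.SpForm Cfsg.Agent.Helper42.SpGroup Cfsg.Agent.Helper42.SpModels
open Cfsg.Agent.Helper13.TIsp Cfsg.Agent.Helper90.BG

variable {F : Type*} [Field F] {K : Type*} [Field K] [Algebra F K] [FiniteDimensional F K]

/-- AEVALM -/
theorem ti_aevalm {S : Type*} [AddCommGroup S] [Module F S] {u : ℕ} (ω : Fin u → K) (g : F[X])
    (w : (Fin u → K) × S) :
    aeval ((piMap (fun j => LinearMap.mulLeft F (ω j))).prodMap (1 : Module.End F S)) g w =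
      (fun l => aeval (ω l) g * w.1 l, g.eval 1 • w.2) := by
  have hTapp : ∀ w : (Fin u → K) × S,
      ((piMap (fun j => LinearMap.mulLeft F (ω j))).prodMap (1 : Module.End F S)) w =
        (fun l => ω l * w.1 l, w.2) := fun w => rfl
  have hpow : ∀ (n : ℕ) (w : (Fin u → K) × S),
      (((piMap (fun j => LinearMap.mulLeft F (ω j))).prodMap (1 : Module.End F S)) ^ n) w =
        (fun l => ω l ^ n * w.1 l, w.2) := by
    intro n
    induction n with
    | zero => intro w; simp
    | succ n ih =>
      intro w
      rw [pow_succ, Module.End.mul_apply, hTapp, ih]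
      refine Prod.ext ?_ rfl
      funext l
      show ω l ^ n * (ω l * w.1 l) = ω l ^ (n + 1) * w.1 l
      rw [pow_succ, mul_assoc]
  induction g using Polynomial.induction_on' with
  | add p q hp hq =>
    rw [map_add, LinearMap.add_apply, hp, hq]
    refine Prod.ext ?_ ?_
    · funext l
      show aeval (ω l) p * w.1 l + aeval (ω l) q * w.1 l = aeval (ω l) (p + q) * w.1 l
      rw [map_add, add_mul]
    · show eval 1 p • w.2 + eval 1 q • w.2 = eval 1 (p + q) • w.2
      rw [eval_add, add_smul]
  | monomial n a =>
    rw [aeval_monomial, Module.End.mul_apply, hpow, Module.algebraMap_end_apply]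
    refine Prod.ext ?_ ?_
    · funext l
      show a • (ω l ^ n * w.1 l) = aeval (ω l) (monomial n a) * w.1 l
      rw [aeval_monomial, Algebra.smul_def, mul_assoc]
    · show a • w.2 = eval 1 (monomial n a) • w.2
      rw [eval_monomial, one_pow, mul_one]

end Cfsg.Agent.Helper41.TI5955
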