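import Mathlib
import Cfsg.Agent.Helper13.TIDefs

set_option autoImplicit false

namespace Cfsg.Agent.Helper41.TI5955

open Module Polynomial
open Cfsg.Agent.Helper42.SpForm Cfsg.Agent.Helper42.SpGroup Cfsg.Agent.Helper42.SpModels
open Cfsg.Agent.Helper13.TIsp Cfsg.Agent.Helper90.BG

variable {F : Type*} [Field F] {K : Type*} [Field K] [Algebra F K] [FiniteDimensional F K]

/-- FGEN -/
theorem ti_fgen (ω : K) (hdeg : (minpoly F ω).natDegree = finrank F K) (A : Submodule F K)
    (hA : ∀ a ∈ A, ω * a ∈ A) : A = ⊥ ∨ A = ⊤ := by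
  have hint : IsIntegral F ω := Algebra.IsIntegral.isIntegral _
  have htop : IntermediateField.adjoin F {ω} = ⊤ :=
    (Field.primitive_element_iff_minpoly_natDegree_eq F ω).mpr hdeg
  have hadj : Algebra.adjoin F {ω} = ⊤ := by
    rw [← IntermediateField.adjoin_simple_toSubalgebra_of_isAlgebraic hint.isAlgebraic, htop]
    rfl
  have hpow : ∀ (n : ℕ), ∀ a ∈ A, ω ^ n * a ∈ A := by
    intro n
    induction n with
    | zero => intro a ha; simpa using ha
    | succ n ih =>
      intro a ha
      rw [pow_succ, mul_assoc]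
      exact ih _ (hA a ha)
  have hpoly : ∀ (g : F[X]), ∀ a ∈ A, aeval ω g * a ∈ A := by
    intro g
    induction g using Polynomial.induction_on' with
    | add p q hp hq =>
      intro a ha
      rw [map_add, add_mul]
      exact A.add_mem (hp a ha) (hq a ha)
    | monomial n c =>
      intro a ha
      rw [aeval_monomial, mul_assoc, ← Algebra.smul_def]
      exact A.smul_mem c (hpow n a ha)
  have hall : ∀ (k : K), ∀ a ∈ A, k * a ∈ A := by
    intro k a ha
    have hk : k ∈ Algebra.adjoin F {ω} := by rw [hadj]; exact Algebra.mem_top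
    rw [Algebra.adjoin_singleton_eq_range_aeval] at hk
    obtain ⟨g, rfl⟩ := hk
    exact hpoly g a ha
  by_cases hbot : A = ⊥
  · exact Or.inl hbot
  · right
    obtain ⟨a, ha, ha0⟩ := (Submodule.ne_bot_iff A).mp hbot
    rw [eq_top_iff]
    intro x _
    have := hall (x * a⁻¹) a ha
    rwa [mul_assoc, inv_mul_cancel₀ ha0, mul_one] at this

end Cfsg.Agent.Helper41.TI5955
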