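import Mathlib
import Cfsg.Agent.Helper13.TIDefs

set_option autoImplicit false

namespace Cfsg.Agent.Helper41.TI5955

open Module Polynomial
open Cfsg.Agent.Helper42.SpForm Cfsg.Agent.Helper42.SpGroup Cfsg.Agent.Helper42.SpModels
open Cfsg.Agent.Helper13.TIsp Cfsg.Agent.Helper90.BG

variable {F : Type*} [Field F] {K : Type*} [Field K] [Algebra F K] [FiniteDimensional F K]

/-- PROJ: CRT idempotent polynomial. -/
theorem ti_proj {u : ℕ} (ω : Fin u → K) (h1 : ∀ j, ω j ≠ 1)
    (hne : ∀ j l, j ≠ l → minpoly F (ω j) ≠ minpoly F (ω l)) (j : Fin u) :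
    ∃ g : F[X], aeval (ω j) g = 1 ∧ (∀ l, l ≠ j → aeval (ω l) g = 0) ∧ g.eval 1 = 0 := by
  classical
  have hint : ∀ l, IsIntegral F (ω l) := fun l => Algebra.IsIntegral.isIntegral _
  have hPirr : Irreducible (minpoly F (ω j)) := minpoly.irreducible (hint j)
  have hcop : IsCoprime (minpoly F (ω j))
      ((X - 1) * ∏ l ∈ Finset.univ.erase j, minpoly F (ω l)) := by
    apply IsCoprime.mul_right
    · rw [hPirr.coprime_iff_not_dvd]
      rintro ⟨c, hc⟩
      have h0 : aeval (ω j) (X - 1 : F[X]) = 0 := by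
        rw [hc, map_mul, minpoly.aeval, zero_mul]
      have h2 : ω j - 1 = 0 := by simpa using h0
      exact h1 j (sub_eq_zero.mp h2)
    · apply IsCoprime.prod_right
      intro l hl
      rw [hPirr.coprime_iff_not_dvd]
      intro hdvd
      have := eq_of_monic_of_associated (minpoly.monic (hint j)) (minpoly.monic (hint l))
        (hPirr.associated_of_dvd (minpoly.irreducible (hint l)) hdvd)
      exact hne j l (Finset.ne_of_mem_erase hl).symm this
  obtain ⟨a, b, hab⟩ := hcop
  refine ⟨b * ((X - 1) * ∏ l ∈ Finset.univ.erase j, minpoly F (ω l)), ?_, ?_, ?_⟩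
  · have := congrArg (aeval (ω j)) hab
    rw [map_add, map_mul, minpoly.aeval, mul_zero, zero_add, map_one] at this
    exact this
  · intro l hl
    rw [map_mul, map_mul, map_prod,
      Finset.prod_eq_zero (Finset.mem_erase.mpr ⟨hl, Finset.mem_univ l⟩) (minpoly.aeval F (ω l)),
      mul_zero, mul_zero]
  · simp

end Cfsg.Agent.Helper41.TI5955
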